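import Cfsg.Agent.Lib.RootSub.Quasisimple

/-!
Quasisimplicity of a class of root subgroups with braided pairs, from a fixing hypothesis.
-/

namespace Cfsg.Agent.Lib.RootSub

open Subgroup
open scoped commutatorElement

variable {G : Type*} [Group G] {S : Set (Subgroup G)} {A B : Subgroup G}

theorem map_eq_of_mem_normal {N : Subgroup G} [N.Normal] {n : G} (hn : n ∈ N) :
    (Cfsg.conjBy A n).map (QuotientGroup.mk' N) = A.map (QuotientGroup.mk' N) := by
  rw [map_conjBy, show QuotientGroup.mk' N n = 1 from (QuotientGroup.eq_one_iff n).mpr hn, conjBy_one]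

/-- A class whose proper normal subgroups fix all members gives a quasisimple group. -/
theorem isQuasisimple_of_fix (hS : Cfsg.IsRootSubgroupSet S) (hcl : Cfsg.IsConjClassOfSubgroups S)
    (hiso : ∀ A ∈ S, ∃ B ∈ S, Cfsg.IsRankOnePair A B)
    (h3 : ∀ A ∈ S, 3 < ENat.card A)
    (h4 : ∀ A ∈ S, ∀ B ∈ Cfsg.rankOnePartners S A, Cfsg.IsSpecialRankOnePair A B)
    (hfix : ∀ (N : Subgroup G) [N.Normal], N ≠ ⊤ →
      (∀ A ∈ S, ∀ B ∈ S, ⁅A, B⁆ ≤ N → ⁅A, B⁆ = ⊥) → ∀ A ∈ S, ∀ n ∈ N, Cfsg.conjBy A n = A) :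
    Cfsg.IsQuasisimple G := by
  have hbr : ∀ A ∈ S, ∀ B ∈ S, Cfsg.IsRankOnePair A B → A ≤ ⁅A ⊔ B, A ⊔ B⁆ := fun A hA B hB h =>
    (isBraided_of_special (h4 A hA B ⟨hB, h⟩) ⟨hS.commutative A hA, hS.commutative B hB⟩).left_le_commutator
      (h3 A hA)
  have hle : ∀ A ∈ S, A ≤ _root_.commutator G := fun A hA => by
    obtain ⟨B, hB, h⟩ := hiso A hA
    exact (hbr A hA B hB h).trans (commutator_mono le_top le_top)
  have hperf : _root_.commutator G = ⊤ := eq_top_iff.mpr (hS.generates ▸ iSup₂_le hle)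
  have main : ∀ (N : Subgroup G) [N.Normal], N = ⊤ ∨ N ≤ center G := by
    intro N hN
    refine or_iff_not_imp_left.mpr fun hne => ?_
    set f := QuotientGroup.mk' N with hf
    have hmem : ∀ C ∈ S, ¬ C ≤ N := fun C hC e => hne (eq_top_of_member_le hS hcl hN hC e)
    have hkill : ∀ A ∈ S, ∀ B ∈ S, ⁅A, B⁆ ≤ N → ⁅A, B⁆ = ⊥ := by
      intro A hA B hB hle'
      rcases hS.pair A hA B hB with h | h | h
      · exact h
      · refine absurd ((hbr A hA B hB h).trans ?_) (hmem A hA)
        rw [← commutator_map_eq_bot_iff, Subgroup.map_sup, map_eq_of_commutator_le hS hA h hle',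
          sup_idem, commutator_map_eq_bot_iff, commutator_self_eq_bot hS hB]
        exact bot_le
      · exact absurd hle' (hmem _ h.1)
    have hf' := hfix N hne hkill
    have hinf : ∀ A ∈ S, ∀ a ∈ A, a ∈ N → a = 1 := by
      intro A hA a ha haN
      obtain ⟨B, hB, h⟩ := hiso A hA
      exact eq_one_of_fix h ha (hf' B hB a haN)
    intro n hn
    have hall : ⊤ ≤ centralizer ({n} : Set G) := by
      rw [← hS.generates]
      refine iSup₂_le fun A hA a ha => ?_
      rw [mem_centralizer_singleton_iff]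
      have h1 : n * a * n⁻¹ * a⁻¹ = 1 := by
        refine hinf A hA _ (mul_mem ((hf' A hA n hn).le (conj_mem_conjBy ha)) (inv_mem ha)) ?_
        rw [show n * a * n⁻¹ * a⁻¹ = n * (a * n⁻¹ * a⁻¹) by group]
        exact mul_mem hn (hN.conj_mem _ (inv_mem hn) a)
      rw [mul_inv_eq_one, mul_inv_eq_iff_eq_mul] at h1
      exact h1.symm
    rw [mem_center_iff]
    exact fun g => mem_centralizer_singleton_iff.mp (hall (mem_top g))
  refine ⟨⟨hperf⟩, ?_⟩
  have hc : center G ≠ ⊤ := by
    intro e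
    obtain ⟨A, hA⟩ := hcl.1
    obtain ⟨B, -, h⟩ := hiso A hA
    exact not_commute h fun a _ b _ => ((mem_center_iff.mp (e ▸ mem_top a : a ∈ center G)) b).symm
  haveI : Nontrivial (G ⧸ center G) := QuotientGroup.nontrivial_iff.mpr hc
  refine ⟨fun H hH => ?_⟩
  haveI : (H.comap (QuotientGroup.mk' (center G))).Normal := hH.comap _
  have hmap : (H.comap (QuotientGroup.mk' (center G))).map (QuotientGroup.mk' (center G)) = H :=
    Subgroup.map_comap_eq_self_of_surjective (QuotientGroup.mk'_surjective _) H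
  rcases main (H.comap (QuotientGroup.mk' (center G))) with h | h
  · right
    rw [← hmap, h, ← MonoidHom.range_eq_map, MonoidHom.range_eq_top]
    exact QuotientGroup.mk'_surjective _
  · left
    rw [← hmap, Subgroup.map_eq_bot_iff, QuotientGroup.ker_mk']
    exact h

end Cfsg.Agent.Lib.RootSub
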