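import Cfsg.Agent.Lib.RootSub.RootSet

/-!
Sets of abstract root subgroups: lines and components of the rank one graph.
-/

namespace Cfsg.Agent.Lib.RootSub

open Subgroup
open scoped commutatorElement

variable {G : Type*} [Group G] {S : Set (Subgroup G)} {A B : Subgroup G}

theorem commutator_eq_bot_of_not_pair (hS : Cfsg.IsRootSubgroupSet S) (hdeg : Cfsg.IsDegenerateRootSet S)
    (hA : A ∈ S) (hB : B ∈ S) (h : ¬ Cfsg.IsRankOnePair A B) : ⁅A, B⁆ = ⊥ := by
  rcases hS.pair A hA B hB with h0 | h0 | h0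
  · exact h0
  · exact absurd h0 h
  · exact absurd h0 (hdeg A hA B hB)

/-- In a degenerate set, centralising a product means centralising both factors. -/
theorem degenerate_centralizer (hS : Cfsg.IsRootSubgroupSet S) (hdeg : Cfsg.IsDegenerateRootSet S)
    {D : Subgroup G} (hA : A ∈ S) (hB : B ∈ S) (hD : D ∈ S) {a b : G} (ha : a ∈ A) (ha1 : a ≠ 1)
    (hb : b ∈ B) (hb1 : b ≠ 1) (hab : a * b = b * a) (hab1 : a * b ≠ 1)
    (hc : ∀ x ∈ D, (a * b) * x = x * (a * b)) : ∀ x ∈ D, a * x = x * a := by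
  by_contra hne
  have hAD : Cfsg.IsRankOnePair A D := by
    by_contra h
    exact hne fun x hx => commute_of_commutator_eq_bot (commutator_eq_bot_of_not_pair hS hdeg hA hD h) ha hx
  have hBD : Cfsg.IsRankOnePair B D := by
    by_contra h
    have h0 := commutator_eq_bot_of_not_pair hS hdeg hB hD h
    apply hne
    intro x hx
    have hbx := commute_of_commutator_eq_bot h0 hb hx
    have := hc x hx
    calc a * x = (a * b) * (b⁻¹ * x) := by group
      _ = (a * b) * (x * b⁻¹) := by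
        rw [show b⁻¹ * x = x * b⁻¹ by rw [inv_mul_eq_iff_eq_mul, ← mul_assoc, hbx, mul_inv_cancel_right]]
      _ = (a * b) * x * b⁻¹ := by group
      _ = x * a := by rw [this]; group
  have hAB : A ≠ B := by
    rintro rfl
    exact hab1 (eq_one_of_fix hAD (mul_mem ha hb) (conjBy_of_commute hc))
  have hcomm : ∀ u ∈ A, ∀ v ∈ B, u * v = v * u := by
    by_cases h : Cfsg.IsRankOnePair A B
    · exfalso
      refine ha1 (eq_one_of_fix h ha (eq_of_fix h (conj_mem_unipotents (right_mem_unipotents h)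
        (mem_sup_left ha)) (right_mem_unipotents h) ?_ hb1 (conjBy_of_mem hb)))
      rw [mem_conjBy, mul_assoc, ← hab, inv_mul_cancel_left]
      exact hb
    · exact fun u hu v hv => commute_of_commutator_eq_bot (commutator_eq_bot_of_not_pair hS hdeg hA hB h) hu hv
  have hE : Cfsg.conjBy D b = Cfsg.conjBy D a⁻¹ := by
    rw [eq_comm, conjBy_eq_iff, inv_inv, conjBy_conjBy, conjBy_of_commute hc]
  have hne' : Cfsg.conjBy D b ≠ D := fun e => hb1 (eq_one_of_fix hBD hb e)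
  have h1 : Cfsg.conjBy D b ⊔ D = A ⊔ D := by
    rw [hE]
    exact sup_eq_of_mem hAD (conj_mem_unipotents (right_mem_unipotents hAD) (mem_sup_left (inv_mem ha)))
      (right_mem_unipotents hAD) (hE ▸ hne')
  have h2 : Cfsg.conjBy D b ⊔ D = B ⊔ D :=
    sup_eq_of_mem hBD (conj_mem_unipotents (right_mem_unipotents hBD) (mem_sup_left hb))
      (right_mem_unipotents hBD) hne'
  have hBm := mem_unipotents_of_le hS hB hD hBD hA hD hAD (h1.symm.trans h2 ▸ le_sup_left)
    (h1.symm.trans h2 ▸ le_sup_right)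
  exact hAB (eq_of_commute hAD left_mem_unipotents hBm hcomm)

/-- Members through products on a line are partners of a partner of one of the points. -/
theorem line_partner (hS : Cfsg.IsRootSubgroupSet S) {C P : Subgroup G} (hA : A ∈ S) (hB : B ∈ S)
    (hP : P ∈ S) (hC : C ∈ S) (hAB : ⁅A, B⁆ = ⊥) (hAP : Cfsg.IsRankOnePair A P)
    (hBP : ¬ Cfsg.IsRankOnePair B P) {a b : G} (ha : a ∈ A) (ha1 : a ≠ 1) (hb : b ∈ B) (hb1 : b ≠ 1)
    (hC' : b * a ∈ C) : Cfsg.IsRankOnePair C P := by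
  have hBA : ∀ u ∈ A, ∀ v ∈ B, u * v = v * u := fun u hu v hv => commute_of_commutator_eq_bot hAB hu hv
  by_contra hCP
  obtain ⟨q₀, hq₀, hq₀1⟩ := exists_ne_one_left (Cfsg.RankOnePair_symm hAP)
  have hbb : ¬ ∀ x ∈ P, b * x = x * b := by
    intro hbP
    refine hb1 (shift hS hA hP hAP ha ha1 ?_ hC hC').1
    intro x hx
    have hle : A ⊔ P ≤ centralizer ({b} : Set G) := by
      refine sup_le ?_ ?_ <;> intro y hy <;> rw [mem_centralizer_singleton_iff]
      · exact hBA y hy b hb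
      · exact (hbP y hy).symm
    exact (mem_centralizer_singleton_iff.mp (hle hx)).symm
  have hPB : Cfsg.RootCommutatorCase S P B := by
    rcases hS.pair P hP B hB with h | h | h
    · exact absurd (fun x hx => (commute_of_commutator_eq_bot h hx hb).symm) hbb
    · exact absurd (Cfsg.RankOnePair_symm h) hBP
    · exact h
  obtain ⟨hE, hEc, -, hEb⟩ := hPB
  -- the commutator of the root element with `P` is central in `P`
  have hk : ∀ p ∈ P, ∀ q ∈ P,
      (b * a * p * (b * a)⁻¹ * p⁻¹) * q = q * (b * a * p * (b * a)⁻¹ * p⁻¹) := by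
    intro p hp q hq
    rcases hS.pair C hC P hP with h | h | ⟨-, hc, -, -⟩
    · rw [commute_of_commutator_eq_bot h hC' hp]; group
    · exact absurd h hCP
    · exact hc _ (mem_commutator_elem hC' hp) q (mem_sup_right hq)
  have hpp : ∀ p ∈ P, ∀ q ∈ P, p * q = q * p := fun p hp q hq => comm_of_mem hS hP hp hq
  have hk2 : ∀ p ∈ P, ∀ q ∈ P, (a * p * a⁻¹) * (q * (q⁻¹ * b⁻¹ * q * b)) =
      (q * (q⁻¹ * b⁻¹ * q * b)) * (a * p * a⁻¹) := by
    intro p hp q hq
    have h1 := hk p hp q hq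
    have h2 : (b * a * p * (b * a)⁻¹) * q = q * (b * a * p * (b * a)⁻¹) := by
      calc (b * a * p * (b * a)⁻¹) * q = (b * a * p * (b * a)⁻¹ * p⁻¹) * (p * q) := by group
        _ = (b * a * p * (b * a)⁻¹ * p⁻¹) * (q * p) := by rw [hpp p hp q hq]
        _ = q * (b * a * p * (b * a)⁻¹ * p⁻¹) * p := by rw [← h1]; group
        _ = _ := by group
    calc (a * p * a⁻¹) * (q * (q⁻¹ * b⁻¹ * q * b)) = b⁻¹ * ((b * a * p * (b * a)⁻¹) * q) * b := by group
      _ = b⁻¹ * (q * (b * a * p * (b * a)⁻¹)) * b := by rw [h2]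
      _ = _ := by group
  have hmemE : ∀ q ∈ P, q⁻¹ * b⁻¹ * q * b ∈ ⁅P, B⁆ := fun q hq => by
    simpa using mem_commutator_elem (inv_mem hq) (inv_mem hb)
  have hfalse : ¬ ∀ p ∈ P, ∀ q ∈ P, (a * p * a⁻¹) * q = q * (a * p * a⁻¹) := by
    intro h
    refine false_of_central hAP hpp ha ha1 fun p hp q hq => ?_
    calc a * p * a⁻¹ * p⁻¹ * q = (a * p * a⁻¹) * (q * p⁻¹) := by rw [mul_assoc, hpp _ (inv_mem hp) q hq]
      _ = q * (a * p * a⁻¹) * p⁻¹ := by rw [← h p hp q hq]; group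
      _ = _ := by group
  have hEP : ∀ e ∈ ⁅P, B⁆, ∀ q ∈ P, e * q = q * e := fun e he q hq => hEc e he q (mem_sup_left hq)
  rcases hS.pair A hA _ hE with h | h | ⟨hF, hFc, -, -⟩
  · apply hfalse
    intro p hp q hq
    obtain ⟨e, hedef⟩ : ∃ e, q⁻¹ * b⁻¹ * q * b = e := ⟨_, rfl⟩
    have hmem := hmemE q hq
    rw [hedef] at hmem
    have hea : ∀ u, u = a ∨ u = p ∨ u = a⁻¹ → e * u = u * e := by
      rintro u (rfl | rfl | rfl)
      · exact (commute_of_commutator_eq_bot h ha hmem).symm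
      · exact hEP e hmem _ hp
      · exact (commute_of_commutator_eq_bot h (inv_mem ha) hmem).symm
    have he : e * (a * p * a⁻¹) = (a * p * a⁻¹) * e := by
      rw [← mul_assoc, ← mul_assoc, hea a (Or.inl rfl), mul_assoc a e, hea p (Or.inr (Or.inl rfl)),
        ← mul_assoc, mul_assoc (a * p) e, hea a⁻¹ (Or.inr (Or.inr rfl)), ← mul_assoc]
    have h3 := hk2 p hp q hq
    rw [hedef] at h3
    calc a * p * a⁻¹ * q = (a * p * a⁻¹) * (q * e) * e⁻¹ := by group
      _ = q * (e * (a * p * a⁻¹)) * e⁻¹ := by rw [h3]; group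
      _ = _ := by rw [he]; group
  · -- `b` centralises `A ⊔ [P, B]`
    refine hb1 (shift hS hA hE h ha ha1 ?_ hC hC').1
    intro x hx
    have hle : A ⊔ ⁅P, B⁆ ≤ centralizer ({b} : Set G) := by
      refine sup_le ?_ ?_ <;> intro y hy <;> rw [mem_centralizer_singleton_iff]
      · exact hBA y hy b hb
      · exact hEc y hy b (mem_sup_right hb)
    exact (mem_centralizer_singleton_iff.mp (hle hx)).symm
  · -- the commutator of `A` and `[P, B]`
    have hk3 : ∀ p ∈ P, ∀ q ∈ P, ∃ f ∈ ⁅A, ⁅P, B⁆⁆,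
        p * ((a⁻¹ * q * a) * f) = ((a⁻¹ * q * a) * f) * p := by
      intro p hp q hq
      obtain ⟨e, hedef⟩ : ∃ e, q⁻¹ * b⁻¹ * q * b = e := ⟨_, rfl⟩
      have he := hmemE q hq
      rw [hedef] at he
      refine ⟨a⁻¹ * e * a * e⁻¹, by simpa using mem_commutator_elem (inv_mem ha) he, ?_⟩
      have h3 := hk2 p hp q hq
      rw [hedef] at h3
      have hep := hEP e he p hp
      calc p * ((a⁻¹ * q * a) * (a⁻¹ * e * a * e⁻¹))
          = a⁻¹ * ((a * p * a⁻¹) * (q * e)) * a * e⁻¹ := by group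
        _ = a⁻¹ * q * e * a * (p * e⁻¹) := by rw [h3]; group
        _ = a⁻¹ * q * e * a * (e⁻¹ * p) := by rw [hEP e⁻¹ (inv_mem he) p hp]
        _ = _ := by group
    rcases hS.pair _ hF P hP with h' | h' | ⟨-, hGc, -, -⟩
    · apply hfalse
      intro p hp q hq
      obtain ⟨f, hf, h3⟩ := hk3 q hq p hp
      have h4 : f * q = q * f := commute_of_commutator_eq_bot h' hf hq
      have h5 : q * (a⁻¹ * p * a) = (a⁻¹ * p * a) * q := by
        calc q * (a⁻¹ * p * a) = q * ((a⁻¹ * p * a) * f) * f⁻¹ := by group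
          _ = (a⁻¹ * p * a) * (f * q) * f⁻¹ := by rw [h3]; group
          _ = _ := by rw [h4]; group
      obtain ⟨f', hf', h6⟩ := hk3 p hp q hq
      have h7 : f' * p = p * f' := commute_of_commutator_eq_bot h' hf' hp
      have h8 : p * (a⁻¹ * q * a) = (a⁻¹ * q * a) * p := by
        calc p * (a⁻¹ * q * a) = p * ((a⁻¹ * q * a) * f') * f'⁻¹ := by group
          _ = (a⁻¹ * q * a) * (f' * p) * f'⁻¹ := by rw [h6]; group
          _ = _ := by rw [h7]; group
      calc a * p * a⁻¹ * q = a * (p * (a⁻¹ * q * a)) * a⁻¹ := by group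
        _ = a * ((a⁻¹ * q * a) * p) * a⁻¹ := by rw [h8]
        _ = _ := by group
    · -- `[P, B]` centralises `P ⊔ F`
      obtain ⟨e, he, he1⟩ := (bot_or_exists_ne_one ⁅P, B⁆).resolve_left (hS.ne_bot _ hE)
      have hiso : ¬ Cfsg.IsIsolatedIn (Cfsg.FAdj S) S P := fun hi => (hi.2 A).2 ⟨hA, hP, hAP⟩
      obtain ⟨-, ⟨-, hcov, -⟩, -, -⟩ := commutator_partition hS hiso hP hB hE
      have hx1 : e * q₀ ≠ 1 := by
        intro h1
        refine hq₀1 (eq_one_of_fix (Cfsg.RankOnePair_symm h') hq₀ (conjBy_of_commute fun y hy => ?_))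
        rw [eq_inv_of_mul_eq_one_right h1, inv_mul_eq_iff_eq_mul, ← mul_assoc, ← hFc y hy e (mem_sup_right he),
          mul_inv_cancel_right]
      obtain ⟨K, hK, hxK⟩ := hcov (e * q₀) (mul_mem (mem_sup_right he) (mem_sup_left hq₀)) hx1
      refine he1 (shift hS hP hF (Cfsg.RankOnePair_symm h') hq₀ hq₀1 ?_ hK.1 hxK).1
      intro x hx
      have hle : P ⊔ ⁅A, ⁅P, B⁆⁆ ≤ centralizer ({e} : Set G) := by
        refine sup_le ?_ ?_ <;> intro y hy <;> rw [mem_centralizer_singleton_iff]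
        · exact (hEP e he y hy).symm
        · exact hFc y hy e (mem_sup_right he)
      exact (mem_centralizer_singleton_iff.mp (hle hx)).symm
    · have hP'' : Cfsg.conjBy P a⁻¹ ∈ Cfsg.unipotentSubgroups A P :=
        conj_mem_unipotents (right_mem_unipotents hAP) (mem_sup_left (inv_mem ha))
      have hne : Cfsg.conjBy P a⁻¹ ≠ P := fun e => ha1 (inv_eq_one.mp (eq_one_of_fix hAP (inv_mem ha) e))
      have hy : a⁻¹ * q₀⁻¹ * a ∈ Cfsg.conjBy P a⁻¹ := by
        simpa using conj_mem_conjBy (g := a⁻¹) (inv_mem hq₀)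
      refine false_of_central (isRankOnePair_of_mem hAP hP'' (right_mem_unipotents hAP) hne) hpp hy
        (by simpa [mul_assoc, inv_mul_eq_one, mul_eq_right] using hq₀1) fun p hp q hq => ?_
      obtain ⟨f, hf, h3⟩ := hk3 p hp q₀ hq₀
      have hg := hGc _ (inv_mem (by
        simpa using mem_commutator_elem hf hp : f * p * f⁻¹ * p⁻¹ ∈ ⁅⁅A, ⁅P, B⁆⁆, P⁆)) q (mem_sup_right hq)
      have e1 : (a⁻¹ * q₀⁻¹ * a) * p * (a⁻¹ * q₀⁻¹ * a)⁻¹ * p⁻¹ = f * p * f⁻¹ * p⁻¹ := by
        calc (a⁻¹ * q₀⁻¹ * a) * p * (a⁻¹ * q₀⁻¹ * a)⁻¹ * p⁻¹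
            = (a⁻¹ * q₀⁻¹ * a) * (p * ((a⁻¹ * q₀ * a) * f)) * f⁻¹ * p⁻¹ := by group
          _ = _ := by rw [h3]; group
      rw [e1]
      exact hGc _ (mem_commutator_elem hf hp) q (mem_sup_right hq)

theorem fAdj_symm {A B : Subgroup G} (h : Cfsg.FAdj S A B) : Cfsg.FAdj S B A :=
  ⟨h.2.1, h.1, Cfsg.RankOnePair_symm h.2.2⟩

theorem reach_symm {A B : Subgroup G} (h : Relation.ReflTransGen (Cfsg.FAdj S) A B) :
    Relation.ReflTransGen (Cfsg.FAdj S) B A := by
  induction h with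
  | refl => exact Relation.ReflTransGen.refl
  | tail _ h ih => exact Relation.ReflTransGen.head (fAdj_symm h) ih

theorem reach_conjBy (hS : Cfsg.IsRootSubgroupSet S) {A B : Subgroup G} (g : G)
    (h : Relation.ReflTransGen (Cfsg.FAdj S) A B) :
    Relation.ReflTransGen (Cfsg.FAdj S) (Cfsg.conjBy A g) (Cfsg.conjBy B g) :=
  h.lift (Cfsg.conjBy · g) fun U V hUV =>
    ⟨hS.conj_mem U hUV.1 g, hS.conj_mem V hUV.2.1 g, isRankOnePair_conjBy hUV.2.2 g⟩

/-- Different components give no lines. -/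
theorem not_line (hS : Cfsg.IsRootSubgroupSet S) (hA : A ∈ S) (hB : B ∈ S)
    (hne : Cfsg.componentOf (Cfsg.FAdj S) S A ≠ Cfsg.componentOf (Cfsg.FAdj S) S B)
    (hA2 : ∃ A' ∈ Cfsg.componentOf (Cfsg.FAdj S) S A, A' ≠ A)
    (hB2 : ∃ B' ∈ Cfsg.componentOf (Cfsg.FAdj S) S B, B' ≠ B) : B ∉ Cfsg.linePartners S A := by
  intro hline
  obtain ⟨⟨-, hBA, hcomm⟩, -, hcov, -⟩ := hline
  have hfirst : ∀ A ∈ S, (∃ A' ∈ Cfsg.componentOf (Cfsg.FAdj S) S A, A' ≠ A) →
      ∃ P ∈ S, Cfsg.IsRankOnePair A P := by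
    rintro A _ ⟨A', ⟨-, h⟩, hne⟩
    rcases h.cases_head with e | ⟨P, hP, -⟩
    · exact absurd e.symm hne
    · exact ⟨P, hP.2.1, hP.2.2⟩
  obtain ⟨P, hP, hAP⟩ := hfirst A hA hA2
  obtain ⟨Q, hQ, hBQ⟩ := hfirst B hB hB2
  have hsame : ¬ Relation.ReflTransGen (Cfsg.FAdj S) A B := fun h => hne (by
    ext C
    exact ⟨fun hC => ⟨hC.1, (reach_symm h).trans hC.2⟩, fun hC => ⟨hC.1, h.trans hC.2⟩⟩)
  obtain ⟨a, ha, ha1⟩ := exists_ne_one_left hAP
  obtain ⟨b, hb, hb1⟩ := exists_ne_one_left hBQ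
  have hx1 : b * a ≠ 1 := by
    intro e
    have h1 : a⁻¹ ∈ A ⊓ B := mem_inf.mpr ⟨inv_mem ha, by
      rw [← eq_inv_of_mul_eq_one_left e]; exact hb⟩
    rcases inf_eq_bot_or_eq hS hA hP hAP hB with e' | e'
    · exact inv_ne_one.mpr ha1 (mem_bot.mp (e' ▸ h1))
    · exact hBA e'.symm
  obtain ⟨C, ⟨hC, -⟩, hxC⟩ := hcov (b * a) (mul_mem (mem_sup_right hb) (mem_sup_left ha)) hx1
  have h1 := line_partner hS hA hB hP hC hcomm hAP
    (fun h => hsame ((Relation.ReflTransGen.single ⟨hA, hP, hAP⟩).tail ⟨hP, hB, Cfsg.RankOnePair_symm h⟩))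
    ha ha1 hb hb1 hxC
  have h2 := line_partner hS hB hA hQ hC (by rwa [Subgroup.commutator_comm]) hBQ
    (fun h => hsame (reach_symm ((Relation.ReflTransGen.single ⟨hB, hQ, hBQ⟩).tail ⟨hQ, hA, Cfsg.RankOnePair_symm h⟩)))
    hb hb1 ha ha1 (by rwa [commute_of_commutator_eq_bot hcomm ha hb])
  exact hsame (((Relation.ReflTransGen.single ⟨hA, hP, hAP⟩).tail ⟨hP, hC, Cfsg.RankOnePair_symm h1⟩).trans
    ((Relation.ReflTransGen.single ⟨hC, hQ, h2⟩).tail ⟨hQ, hB, Cfsg.RankOnePair_symm hBQ⟩))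

/-- Root elements preserve the component of a non-isolated member. -/
theorem reach_conj_of_mem (hS : Cfsg.IsRootSubgroupSet S) {D E : Subgroup G} (hD : D ∈ S)
    (hD' : ¬ Cfsg.IsIsolatedIn (Cfsg.FAdj S) S D) (hE : E ∈ S) {e : G} (he : e ∈ E) :
    Relation.ReflTransGen (Cfsg.FAdj S) D (Cfsg.conjBy D e) := by
  obtain ⟨P, hP, hDP⟩ := exists_partner hD hD'
  rcases hS.pair D hD E hE with h | h | h
  · rw [conjBy_of_commute fun x hx => (commute_of_commutator_eq_bot h hx he).symm]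
  · refine (Relation.ReflTransGen.single ⟨hD, hE, h⟩).tail ⟨hE, hS.conj_mem D hD e, ?_⟩
    have := isRankOnePair_conjBy (Cfsg.RankOnePair_symm h) e
    rwa [conjBy_of_mem he] at this
  · by_cases he1 : e = 1
    · subst he1; rw [conjBy_one]
    obtain ⟨hC, hCc, -, -⟩ := h
    by_cases hCP : Cfsg.IsRankOnePair ⁅D, E⁆ P
    · have h1 : Relation.ReflTransGen (Cfsg.FAdj S) D ⁅D, E⁆ :=
        (Relation.ReflTransGen.single ⟨hD, hP, hDP⟩).tail ⟨hP, hC, Cfsg.RankOnePair_symm hCP⟩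
      have h2 := reach_conjBy hS e h1
      rw [conjBy_of_commute fun x hx => (hCc x hx e (mem_sup_right he)).symm] at h2
      exact h1.trans (reach_symm h2)
    · obtain ⟨d, hd, hd1⟩ := exists_ne_one_left hDP
      by_cases hc : e * d * e⁻¹ * d⁻¹ = 1
      · exfalso
        apply he1
        exact commutatorMap_injective hS (rootCase_of_commutator_mem hS hD hE hC) hD hP hDP hd hd1 he (by
          rw [mul_inv_eq_one, mul_inv_eq_iff_eq_mul] at hc
          rw [mul_assoc, ← hc]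
          group)
      have hcC : e * d * e⁻¹ * d⁻¹ ∈ ⁅D, E⁆ := by
        rw [Subgroup.commutator_comm]; exact mem_commutator_elem he hd
      have hmem : (e * d * e⁻¹ * d⁻¹) * d ∈ Cfsg.conjBy D e := by
        rw [inv_mul_cancel_right]; exact conj_mem_conjBy hd
      refine (Relation.ReflTransGen.single ⟨hD, hP, hDP⟩).tail ⟨hP, hS.conj_mem D hD e, ?_⟩
      refine Cfsg.RankOnePair_symm (line_partner hS hD hC hP (hS.conj_mem D hD e) ?_ hDP hCP hd hd1 hcC hc hmem)
      rw [commutator_eq_bot_iff_le_centralizer]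
      intro x hx
      rw [mem_centralizer_iff]
      intro y hy
      exact hCc y hy x (mem_sup_left hx)

theorem not_isolated_of_reach {A B : Subgroup G} (hA : ¬ Cfsg.IsIsolatedIn (Cfsg.FAdj S) S A)
    (h : Relation.ReflTransGen (Cfsg.FAdj S) A B) : ¬ Cfsg.IsIsolatedIn (Cfsg.FAdj S) S B := by
  rcases h.cases_tail with e | ⟨C, -, hCB⟩
  · exact e ▸ hA
  · exact fun hi => (hi.2 C).2 hCB

theorem connected_iff (hS : Cfsg.IsRootSubgroupSet S) (h2 : ∃ A ∈ S, ∃ B ∈ S, A ≠ B) :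
    Cfsg.IsConnectedFamily (Cfsg.FAdj S) S ↔
      (Cfsg.IsConjClassOfSubgroups S ∧ ∃ A ∈ S, ¬ Cfsg.IsIsolatedIn (Cfsg.FAdj S) S A) := by
  obtain ⟨A₀, hA₀, B₀, hB₀, hne⟩ := h2
  constructor
  · intro hc
    refine ⟨⟨⟨A₀, hA₀⟩, fun A hA B hB => ?_⟩, A₀, hA₀, fun hi => ?_⟩
    · have h := hc A hA B hB
      clear hB
      induction h with
      | refl => exact ⟨1, conjBy_one.symm⟩
      | tail _ h ih =>
        obtain ⟨g, hg⟩ := ih
        obtain ⟨x, -, hx⟩ := exists_conj h.2.2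
        exact ⟨x * g, by rw [← hx, hg, conjBy_conjBy]⟩
    · rcases (hc A₀ hA₀ B₀ hB₀).cases_head with e | ⟨C, hC, -⟩
      · exact hne e
      · exact (hi.2 C).1 hC
  · rintro ⟨⟨-, hclass⟩, A, hA, hA'⟩
    let T : Subgroup G :=
      { carrier := {g | Relation.ReflTransGen (Cfsg.FAdj S) A (Cfsg.conjBy A g)}
        one_mem' := by simp only [Set.mem_ofPred_eq, conjBy_one]; exact Relation.ReflTransGen.refl
        mul_mem' := fun {g h} hg hh => by
          change Relation.ReflTransGen (Cfsg.FAdj S) A (Cfsg.conjBy A (g * h))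
          rw [← conjBy_conjBy]
          exact hg.trans (reach_conjBy hS g hh)
        inv_mem' := fun {g} hg => by
          have := reach_symm (reach_conjBy hS g⁻¹ hg)
          rwa [conjBy_conjBy, inv_mul_cancel, conjBy_one] at this }
    have hT : T = ⊤ := by
      rw [eq_top_iff, ← hS.generates]
      exact iSup₂_le fun E hE e he => reach_conj_of_mem hS hA hA' hE he
    intro B hB C hC
    obtain ⟨g, rfl⟩ := hclass A hA B hB
    obtain ⟨h, rfl⟩ := hclass A hA C hC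
    have hg : g ∈ T := hT ▸ mem_top g
    have hh : h ∈ T := hT ▸ mem_top h
    exact (reach_symm hg).trans hh

end Cfsg.Agent.Lib.RootSub
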