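import Cfsg.Agent.Lib.RootSub.RankOne

/-!
A Kolchin type theorem: a conjugation invariant family of subgroups, any two of which generate a
unipotent group, generates a unipotent group.
-/

namespace Cfsg.Agent.Lib.RootSub.Kolchin

open Subgroup
open scoped commutatorElement

variable {k : Type*} [Field k] {M : Type*} [AddCommGroup M] [Module k M]

local notation "GLM" => LinearMap.GeneralLinearGroup k M

/-- The endomorphism `g - 1`. -/
def dlt (g : GLM) : M →ₗ[k] M := (g : M →ₗ[k] M) - 1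

theorem dlt_one : dlt (1 : GLM) = 0 := by simp [dlt]

theorem dlt_mul (g h : GLM) : dlt (g * h) = dlt g + dlt h + dlt g * dlt h := by
  simp only [dlt, Units.val_mul]; noncomm_ring

theorem coe_apply (g : GLM) (v : M) : (g : M →ₗ[k] M) v = v + dlt g v := by
  simp [dlt]

/-- The descending flag of `H`. -/
def flag (H : Subgroup GLM) : ℕ → Submodule k M
  | 0 => ⊤
  | j + 1 => ⨆ g : H, (flag H j).map (dlt (g : GLM))

theorem dlt_mem_flag {H : Subgroup GLM} {g : GLM} (hg : g ∈ H) {j : ℕ} {v : M}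
    (hv : v ∈ flag H j) : dlt g v ∈ flag H (j + 1) :=
  Submodule.mem_iSup_of_mem (⟨g, hg⟩ : H) (Submodule.mem_map_of_mem hv)

theorem flag_succ_le (H : Subgroup GLM) (j : ℕ) : flag H (j + 1) ≤ flag H j := by
  induction j with
  | zero => exact le_top
  | succ j ih => exact iSup_le fun g => le_iSup_of_le g (Submodule.map_mono ih)

theorem flag_antitone (H : Subgroup GLM) {i j : ℕ} (h : i ≤ j) : flag H j ≤ flag H i := by
  induction h with
  | refl => exact le_rfl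
  | step _ ih => exact (flag_succ_le H _).trans ih

theorem flag_invariant {H : Subgroup GLM} {g : GLM} (hg : g ∈ H) {j : ℕ} {v : M}
    (hv : v ∈ flag H j) : (g : M →ₗ[k] M) v ∈ flag H j := by
  rw [coe_apply]
  exact add_mem hv (flag_succ_le H j (dlt_mem_flag hg hv))

theorem isUnipotentOn_iff {H : Subgroup GLM} :
    Cfsg.IsUnipotentOn H ↔ ∃ n, flag H n = ⊥ := by
  constructor
  · rintro ⟨n, hn⟩
    refine ⟨n, ?_⟩
    suffices h : ∀ j u, u ∈ flag H j → ∀ l : List GLM, (∀ g ∈ l, g ∈ H) → l.length + j = n →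
        (l.map fun g => dlt g).prod u = 0 by
      rw [Submodule.eq_bot_iff]
      intro u hu
      simpa using h n u hu [] (by simp) (by simp)
    intro j
    induction j with
    | zero =>
      intro u _ l hl hlen
      have := hn l hl (by omega)
      simp [bind_pure_comp, List.map_flatMap, ← List.map_eq_flatMap, Function.comp_def, ← dlt.eq_1] at this
      rw [this]; rfl
    | succ j ih =>
      intro u hu l hl hlen
      refine Submodule.iSup_induction _ (motive := fun u => (l.map fun g : GLM => dlt g).prod u = 0) hu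
        (fun g x hx => ?_) (by simp) (fun x y hx hy => by rw [map_add, hx, hy, add_zero])
      obtain ⟨v, hv, rfl⟩ := hx
      have := ih v hv (l ++ [(g : GLM)]) (by
        intro y hy
        rcases List.mem_append.mp hy with hy | hy
        · exact hl y hy
        · rw [List.mem_singleton] at hy; subst hy; exact g.2) (by simp; omega)
      simpa [List.prod_append] using this
  · rintro ⟨n, hn⟩
    refine ⟨n, fun l hl hlen => ?_⟩
    have h : ∀ l : List GLM, (∀ g ∈ l, g ∈ H) → ∀ v : M, (l.map fun g => dlt g).prod v ∈ flag H l.length := by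
      intro l
      induction l with
      | nil => intro _ v; exact Submodule.mem_top
      | cons g l ih =>
        intro hl v
        rw [List.map_cons, List.prod_cons]
        exact dlt_mem_flag (hl g List.mem_cons_self) (ih (fun x hx => hl x (List.mem_cons_of_mem _ hx)) v)
    refine LinearMap.ext fun v => ?_
    have := h l hl v
    rw [hlen, hn, Submodule.mem_bot] at this
    simpa [bind_pure_comp, List.map_flatMap, ← List.map_eq_flatMap, Function.comp_def, ← dlt.eq_1] using this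

/-- The span of the differences. -/
def span (H : Subgroup GLM) : Submodule k (M →ₗ[k] M) := Submodule.span k (dlt '' (H : Set GLM))

theorem span_flag {H : Subgroup GLM} {s : M →ₗ[k] M} (hs : s ∈ span H) {j : ℕ} {v : M}
    (hv : v ∈ flag H j) : s v ∈ flag H (j + 1) := by
  induction hs using Submodule.span_induction with
  | mem x hx => obtain ⟨g, hg, rfl⟩ := hx; exact dlt_mem_flag hg hv
  | zero => simp
  | add x y _ _ hx hy => exact add_mem hx hy
  | smul c x _ hx => exact Submodule.smul_mem _ c hx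

theorem span_mul {H : Subgroup GLM} {s t : M →ₗ[k] M} (hs : s ∈ span H) (ht : t ∈ span H) :
    s * t ∈ span H := by
  induction hs using Submodule.span_induction with
  | mem x hx =>
    obtain ⟨g, hg, rfl⟩ := hx
    induction ht using Submodule.span_induction with
    | mem y hy =>
      obtain ⟨h, hh, rfl⟩ := hy
      have : dlt g * dlt h = dlt (g * h) - dlt g - dlt h := by rw [dlt_mul]; abel
      rw [this]
      exact sub_mem (sub_mem (Submodule.subset_span ⟨_, mul_mem hg hh, rfl⟩)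
        (Submodule.subset_span ⟨g, hg, rfl⟩)) (Submodule.subset_span ⟨h, hh, rfl⟩)
    | zero => rw [mul_zero]; exact zero_mem _
    | add x y _ _ hx hy => rw [mul_add]; exact add_mem hx hy
    | smul c x _ hx => rw [mul_smul_comm]; exact Submodule.smul_mem _ c hx
  | zero => rw [zero_mul]; exact zero_mem _
  | add x y _ _ hx hy => rw [add_mul]; exact add_mem hx hy
  | smul c x _ hx => rw [smul_mul_assoc]; exact Submodule.smul_mem _ c hx

theorem unipotent_of_span {H K : Subgroup GLM} (hH : Cfsg.IsUnipotentOn H)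
    (h : ∀ g ∈ K, dlt g ∈ span H) : Cfsg.IsUnipotentOn K := by
  rw [isUnipotentOn_iff] at hH ⊢
  obtain ⟨n, hn⟩ := hH
  refine ⟨n, eq_bot_iff.mpr (le_trans ?_ hn.le)⟩
  clear hn
  induction n with
  | zero => exact le_rfl
  | succ j ih =>
    refine iSup_le fun g => ?_
    rintro _ ⟨v, hv, rfl⟩
    exact span_flag (h _ g.2) (ih hv)

theorem unipotent_mono {H K : Subgroup GLM} (hH : Cfsg.IsUnipotentOn H) (h : K ≤ H) :
    Cfsg.IsUnipotentOn K :=
  unipotent_of_span hH fun g hg => Submodule.subset_span ⟨g, h hg, rfl⟩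

theorem unipotent_bot : Cfsg.IsUnipotentOn (⊥ : Subgroup GLM) := by
  rw [isUnipotentOn_iff]
  refine ⟨1, eq_bot_iff.mpr (iSup_le fun g => ?_)⟩
  rintro _ ⟨v, -, rfl⟩
  rw [mem_bot.mp g.2, dlt_one]
  simp

/-- A unipotent group normalising a unipotent group. -/
theorem unipotent_sup {H K : Subgroup GLM} (hH : Cfsg.IsUnipotentOn H) (hK : Cfsg.IsUnipotentOn K)
    (hn : ∀ x ∈ K, Cfsg.conjBy H x ≤ H) : Cfsg.IsUnipotentOn (H ⊔ K) := by
  rw [isUnipotentOn_iff] at hH hK ⊢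
  obtain ⟨n, hn'⟩ := hH
  obtain ⟨m, hm⟩ := hK
  have hKinv : ∀ x ∈ K, ∀ j, ∀ v ∈ flag H j, (x : M →ₗ[k] M) v ∈ flag H j := by
    intro x hx j
    induction j with
    | zero => intros; exact Submodule.mem_top
    | succ j ih =>
      intro v hv
      refine Submodule.iSup_induction _ (motive := fun v => (x : M →ₗ[k] M) v ∈ flag H (j + 1)) hv
        (fun g y hy => ?_) (by simp) (fun a b ha hb => by rw [map_add]; exact add_mem ha hb)
      · obtain ⟨u, hu, rfl⟩ := hy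
        have hg := hn x hx (conj_mem_conjBy g.2)
        have e : (x : M →ₗ[k] M) * dlt (g : GLM) = dlt (x * (g : GLM) * x⁻¹) * (x : M →ₗ[k] M) := by
          simp only [dlt, Units.val_mul, sub_mul, mul_sub, mul_one, one_mul]
          rw [mul_assoc, Units.inv_mul, mul_one]
        have e' := LinearMap.congr_fun e u
        rw [Module.End.mul_apply, Module.End.mul_apply] at e'
        rw [e']
        exact dlt_mem_flag hg (ih u hu)
  have hrep : ∀ x ∈ H ⊔ K, ∃ y ∈ K, ∀ j, ∀ v ∈ flag H j,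
      (x : M →ₗ[k] M) v - (y : M →ₗ[k] M) v ∈ flag H (j + 1) ∧ (x : M →ₗ[k] M) v ∈ flag H j := by
    intro x hx
    rw [Subgroup.sup_eq_closure] at hx
    have base : ∀ g : GLM, g ∈ H ∨ g ∈ K → ∃ y ∈ K, ∀ j, ∀ v ∈ flag H j,
        (g : M →ₗ[k] M) v - (y : M →ₗ[k] M) v ∈ flag H (j + 1) ∧ (g : M →ₗ[k] M) v ∈ flag H j := by
      rintro g (hg | hg)
      · exact ⟨1, one_mem _, fun j v hv => ⟨by simpa [dlt] using dlt_mem_flag hg hv, flag_invariant hg hv⟩⟩
      · exact ⟨g, hg, fun j v hv => ⟨by simp, hKinv g hg j v hv⟩⟩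
    induction hx using Subgroup.closure_induction'' with
    | mem g hg => exact base g hg
    | inv_mem g hg => exact base g⁻¹ (hg.imp (fun h => H.inv_mem h) (fun h => K.inv_mem h))
    | one => exact base 1 (Or.inl H.one_mem)
    | mul a b _ _ ha hb =>
      obtain ⟨y, hy, hay⟩ := ha
      obtain ⟨z, hz, hbz⟩ := hb
      refine ⟨y * z, mul_mem hy hz, fun j v hv => ?_⟩
      obtain ⟨h1, h2⟩ := hbz j v hv
      have h3 : (z : M →ₗ[k] M) v ∈ flag H j := hKinv z hz j v hv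
      refine ⟨?_, ?_⟩
      · rw [Units.val_mul, Units.val_mul, Module.End.mul_apply, Module.End.mul_apply,
          show (a : M →ₗ[k] M) ((b : M →ₗ[k] M) v) - (y : M →ₗ[k] M) ((z : M →ₗ[k] M) v) =
            (a : M →ₗ[k] M) ((b : M →ₗ[k] M) v - (z : M →ₗ[k] M) v) +
            ((a : M →ₗ[k] M) ((z : M →ₗ[k] M) v) - (y : M →ₗ[k] M) ((z : M →ₗ[k] M) v)) by rw [map_sub]; abel]
        exact add_mem (hay (j + 1) _ h1).2 (hay j _ h3).1
      · rw [Units.val_mul, Module.End.mul_apply]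
        exact (hay j _ h2).2
  have hstep : ∀ j i, ∀ v ∈ flag H (j + 1) ⊔ (flag H j ⊓ flag K i), ∀ x ∈ H ⊔ K,
      dlt x v ∈ flag H (j + 1) ⊔ (flag H j ⊓ flag K (i + 1)) := by
    intro j i v hv x hx
    obtain ⟨y, hy, hxy⟩ := hrep x hx
    obtain ⟨u, hu, w, hw, rfl⟩ := Submodule.mem_sup.mp hv
    rw [map_add]
    refine add_mem (Submodule.mem_sup_left ?_) ?_
    · rw [dlt, LinearMap.sub_apply, Module.End.one_apply]
      exact sub_mem (hxy (j + 1) u hu).2 hu
    · have hwj := (Submodule.mem_inf.mp hw).1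
      have e : dlt x w = ((x : M →ₗ[k] M) w - (y : M →ₗ[k] M) w) + dlt y w := by simp [dlt]
      rw [e]
      refine add_mem (Submodule.mem_sup_left (hxy j w hwj).1) (Submodule.mem_sup_right ?_)
      refine Submodule.mem_inf.mpr ⟨?_, dlt_mem_flag hy (Submodule.mem_inf.mp hw).2⟩
      rw [dlt, LinearMap.sub_apply, Module.End.one_apply]
      exact sub_mem (hKinv y hy j w hwj) hwj
  have hblock : ∀ j i, flag (H ⊔ K) (j * m + i) ≤ flag H (j + 1) ⊔ (flag H j ⊓ flag K i) := by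
    intro j
    induction j with
    | zero =>
      intro i
      induction i with
      | zero =>
        intro v _
        exact Submodule.mem_sup_right ⟨Submodule.mem_top, Submodule.mem_top⟩
      | succ i ih =>
        refine iSup_le fun g => ?_
        rintro _ ⟨v, hv, rfl⟩
        exact hstep 0 i v (ih hv) g g.2
    | succ j ihj =>
      intro i
      induction i with
      | zero =>
        intro v hv
        have h1 := ihj m (by rw [show j * m + m = (j + 1) * m + 0 by ring]; exact hv)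
        rw [hm, inf_bot_eq, sup_bot_eq] at h1
        exact Submodule.mem_sup_right ⟨h1, Submodule.mem_top⟩
      | succ i ih =>
        refine iSup_le fun g => ?_
        rintro _ ⟨v, hv, rfl⟩
        exact hstep (j + 1) i v (ih hv) g g.2
  refine ⟨n * m + 0, eq_bot_iff.mpr ((hblock n 0).trans ?_)⟩
  exact sup_le ((flag_succ_le H n).trans hn'.le) (inf_le_left.trans hn'.le)

section Family

/-- The members with all differences in a given space. -/
def sat (W : Set (Subgroup GLM)) (T : Submodule k (M →ₗ[k] M)) : Set (Subgroup GLM) :=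
  {A | A ∈ W ∧ ∀ a ∈ A, dlt a ∈ T}

theorem le_iSup_fam {U : Set (Subgroup GLM)} {A : Subgroup GLM} (hA : A ∈ U) : A ≤ ⨆ C ∈ U, C :=
  le_iSup₂ (f := fun C (_ : C ∈ U) => C) A hA

theorem dlt_mem_of_sat {W : Set (Subgroup GLM)} {H : Subgroup GLM} {g : GLM} (hg : g ∈ ⨆ C ∈ sat W (span H), C) :
    dlt g ∈ span H := by
  rw [iSup_subtype'] at hg
  exact Subgroup.iSup_induction _ (C := fun g => dlt g ∈ span H) hg (fun i x hx => i.2.2 x hx)
    (by rw [dlt_one]; exact zero_mem _)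
    (fun x y hx hy => by rw [dlt_mul]; exact add_mem (add_mem hx hy) (span_mul hx hy))

/-- A maximal subfamily generating a unipotent group. -/
def IsMaxFam (W U : Set (Subgroup GLM)) : Prop :=
  U ⊆ W ∧ Cfsg.IsUnipotentOn (⨆ C ∈ U, C) ∧ U = sat W (span (⨆ C ∈ U, C)) ∧
    ∀ U' : Set (Subgroup GLM), U ⊆ U' → U' ⊆ W → Cfsg.IsUnipotentOn (⨆ C ∈ U', C) → U' = U

theorem span_mono {H K : Subgroup GLM} (h : H ≤ K) : span H ≤ span K :=
  Submodule.span_mono (Set.image_mono h)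

theorem exists_maxFam [FiniteDimensional k M] {W U₀ : Set (Subgroup GLM)} (h0 : U₀ ⊆ W)
    (hu : Cfsg.IsUnipotentOn (⨆ C ∈ U₀, C)) : ∃ U, U₀ ⊆ U ∧ IsMaxFam W U := by
  classical
  let P : ℕ → Prop := fun d => ∃ U, U₀ ⊆ U ∧ U ⊆ W ∧ Cfsg.IsUnipotentOn (⨆ C ∈ U, C) ∧
    Module.finrank k (span (⨆ C ∈ U, C)) = d
  have hbd : ∀ d, P d → d ≤ Module.finrank k (M →ₗ[k] M) := by
    rintro d ⟨U, -, -, -, rfl⟩
    exact Submodule.finrank_le _
  have hP0 : P (Module.finrank k (span (⨆ C ∈ U₀, C))) := ⟨U₀, subset_rfl, h0, hu, rfl⟩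
  obtain ⟨U, hU0, hUW, hUu, hd⟩ := Nat.findGreatest_spec (P := P) (hbd _ hP0) hP0
  set V := sat W (span (⨆ C ∈ U, C)) with hV
  have hUV : U ⊆ V := fun A hA => ⟨hUW hA, fun a ha =>
    Submodule.subset_span ⟨a, le_iSup_fam hA ha, rfl⟩⟩
  have hVu : Cfsg.IsUnipotentOn (⨆ C ∈ V, C) := unipotent_of_span hUu fun g hg => dlt_mem_of_sat hg
  have hspan : ∀ U', U ⊆ U' → U' ⊆ W → Cfsg.IsUnipotentOn (⨆ C ∈ U', C) →
      span (⨆ C ∈ U, C) = span (⨆ C ∈ U', C) := by
    intro U' h1 h2 h3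
    refine Submodule.eq_of_le_of_finrank_le (span_mono (iSup₂_le fun C hC => le_iSup_fam (h1 hC))) ?_
    rw [hd]
    exact Nat.le_findGreatest (hbd _ ⟨U', hU0.trans h1, h2, h3, rfl⟩) ⟨U', hU0.trans h1, h2, h3, rfl⟩
  refine ⟨V, hU0.trans hUV, fun A hA => hA.1, hVu, ?_, ?_⟩
  · conv_lhs => rw [hV, hspan V hUV (fun A hA => hA.1) hVu]
  · intro U' h1 h2 h3
    refine Set.Subset.antisymm (fun A hA => ⟨h2 hA, fun a ha => ?_⟩) h1
    rw [hspan U' (hUV.trans h1) h2 h3]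
    exact Submodule.subset_span ⟨a, le_iSup_fam hA ha, rfl⟩

theorem maxFam_conj {G : Subgroup GLM} {W : Set (Subgroup GLM)} {U : Set (Subgroup GLM)} (hU : IsMaxFam W U)
    (hWG : ∀ A ∈ W, A ≤ G) (hWconj : ∀ A ∈ W, ∀ g ∈ G, Cfsg.conjBy A g ∈ W)
    {h : GLM} (hh : h ∈ ⨆ C ∈ U, C) {A : Subgroup GLM} (hA : A ∈ U) : Cfsg.conjBy A h ∈ U := by
  have hG : (⨆ C ∈ U, C) ≤ G := iSup₂_le fun C hC => hWG C (hU.1 hC)
  rw [hU.2.2.1]
  refine ⟨hWconj A (hU.1 hA) h (hG hh), fun a ha => Submodule.subset_span ⟨a, ?_, rfl⟩⟩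
  have := mul_mem (mul_mem hh (le_iSup_fam hA (mem_conjBy.mp ha))) (inv_mem hh)
  simpa [mul_assoc] using this

/-- Growth of normalisers inside a unipotent group. -/
theorem exists_normalizing [FiniteDimensional k M] {G : Subgroup GLM} {W : Set (Subgroup GLM)} {U I : Set (Subgroup GLM)} (hU : IsMaxFam W U)
    (hWG : ∀ A ∈ W, A ≤ G) (hWconj : ∀ A ∈ W, ∀ g ∈ G, Cfsg.conjBy A g ∈ W)
    (hI : I ⊆ U) (hne : ∃ A ∈ U, A ∉ I)
    (hclosed : ∀ h ∈ ⨆ C ∈ I, C, ∀ C ∈ I, Cfsg.conjBy C h ∈ I) :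
    ∃ A ∈ U, A ∉ I ∧ ∀ a ∈ A, ∀ C ∈ I, Cfsg.conjBy C a ∈ I := by
  obtain ⟨n, hn⟩ := isUnipotentOn_iff.mp hU.2.1
  set H := ⨆ C ∈ U, C
  let T : ℕ → Set GLM := fun i => {g | g ∈ H ∧ ∀ j, ∀ v ∈ flag H j, dlt g v ∈ flag H (j + i)}
  have hTinv : ∀ i, ∀ g ∈ T i, g⁻¹ ∈ T i := by
    rintro i g ⟨hg, hg'⟩
    refine ⟨inv_mem hg, fun j v hv => ?_⟩
    have e : dlt g⁻¹ v = -((↑g⁻¹ : M →ₗ[k] M) (dlt g v)) := by
      have : dlt g⁻¹ = -((↑g⁻¹ : M →ₗ[k] M) * dlt g) := by
        simp only [dlt, mul_sub, mul_one, Units.inv_mul, neg_sub]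
      rw [this]; rfl
    rw [e]
    exact neg_mem (flag_invariant (inv_mem hg) (hg' j v hv))
  have hcomm : ∀ i, ∀ g ∈ T i, ∀ h ∈ H, g * h * g⁻¹ * h⁻¹ ∈ T (i + 1) := by
    rintro i g ⟨hg, hg'⟩ h hh
    refine ⟨mul_mem (mul_mem (mul_mem hg hh) (inv_mem hg)) (inv_mem hh), fun j v hv => ?_⟩
    have e : dlt (g * h * g⁻¹ * h⁻¹) = (dlt g * dlt h - dlt h * dlt g) * (↑(g⁻¹ * h⁻¹) : M →ₗ[k] M) := by
      have h1 : (↑(h * g) : M →ₗ[k] M) * ↑(g⁻¹ * h⁻¹) = 1 := by
        rw [← Units.val_mul]; simp [mul_assoc]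
      have h2 : dlt g * dlt h - dlt h * dlt g = (↑(g * h) : M →ₗ[k] M) - ↑(h * g) := by
        simp only [dlt, Units.val_mul]; noncomm_ring
      rw [h2, sub_mul, h1, ← Units.val_mul]
      simp [dlt, mul_assoc]
    rw [e, Module.End.mul_apply]
    have hw : (↑(g⁻¹ * h⁻¹) : M →ₗ[k] M) v ∈ flag H j :=
      flag_invariant (mul_mem (inv_mem hg) (inv_mem hh)) hv
    rw [LinearMap.sub_apply, Module.End.mul_apply, Module.End.mul_apply]
    refine sub_mem ?_ ?_
    · have := hg' (j + 1) _ (dlt_mem_flag hh hw)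
      rwa [show j + 1 + i = j + (i + 1) by ring] at this
    · exact dlt_mem_flag hh (hg' j _ hw)
  have hone : ∀ g ∈ T n, g = 1 := by
    rintro g ⟨-, hg'⟩
    refine Units.ext (LinearMap.ext fun v => ?_)
    have := hg' 0 v Submodule.mem_top
    rw [Nat.zero_add, hn, Submodule.mem_bot] at this
    rw [coe_apply, this, add_zero]
    rfl
  let Norm : ℕ → Prop := fun i => ∀ g ∈ T i, ∀ C ∈ I, Cfsg.conjBy C g ∈ I
  have hNn : Norm n := fun g hg C hC => by rw [hone g hg, conjBy_one]; exact hC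
  by_cases h0 : Norm 0
  · obtain ⟨A, hA, hAI⟩ := hne
    refine ⟨A, hA, hAI, fun a ha => h0 a ⟨le_iSup_fam hA ha, fun j v hv => ?_⟩⟩
    exact flag_succ_le H j (dlt_mem_flag (le_iSup_fam hA ha) hv)
  obtain ⟨i, hi, hi'⟩ : ∃ i, ¬ Norm i ∧ Norm (i + 1) := by
    by_contra hh
    push Not at hh
    exact (Nat.rec (motive := fun i => ¬ Norm i) h0 hh n) hNn
  simp only [Norm, not_forall] at hi
  obtain ⟨x, hx, C, hC, hxC⟩ := hi
  refine ⟨Cfsg.conjBy C x, maxFam_conj hU hWG hWconj hx.1 (hI hC), hxC, fun a ha D hD => ?_⟩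
  have hh' := mem_conjBy.mp ha
  have hcm := hcomm i x hx (x⁻¹ * a * x) (le_iSup_fam (hI hC) hh')
  have e : a = (x * (x⁻¹ * a * x) * x⁻¹ * (x⁻¹ * a * x)⁻¹) * (x⁻¹ * a * x) := by group
  rw [e, ← conjBy_conjBy]
  exact hi' _ hcm _ (hclosed _ (le_iSup_fam hC hh') D hD)

theorem unipotent_iSup [FiniteDimensional k M] {G : Subgroup GLM} {W : Set (Subgroup GLM)} (hWG : ∀ A ∈ W, A ≤ G)
    (hWW : ∀ A ∈ W, ∀ B ∈ W, Cfsg.IsUnipotentOn (A ⊔ B))
    (hWconj : ∀ A ∈ W, ∀ g ∈ G, Cfsg.conjBy A g ∈ W) :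
    Cfsg.IsUnipotentOn (⨆ A ∈ W, A) := by
  classical
  obtain ⟨U₀, -, hU₀⟩ := exists_maxFam (W := W) (U₀ := ∅) (Set.empty_subset _) (by
    simpa using unipotent_bot (k := k) (M := M))
  by_cases huniq : ∀ U, IsMaxFam W U → U = U₀
  · refine unipotent_mono hU₀.2.1 (iSup₂_le fun A hA => ?_)
    obtain ⟨U, hAU, hU⟩ := exists_maxFam (W := W) (U₀ := {A}) (Set.singleton_subset_iff.mpr hA) (by
      simpa using hWW A hA A hA)
    exact le_iSup_fam (huniq U hU ▸ hAU rfl)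
  exfalso
  push Not at huniq
  obtain ⟨U', hU', hne'⟩ := huniq
  let P : ℕ → Prop := fun d => ∃ U₁ U₂, IsMaxFam W U₁ ∧ IsMaxFam W U₂ ∧ U₁ ≠ U₂ ∧
    Module.finrank k (span (⨆ C ∈ U₁ ∩ U₂, C)) = d
  have hbd : ∀ d, P d → d ≤ Module.finrank k (M →ₗ[k] M) := by
    rintro d ⟨_, _, -, -, -, rfl⟩
    exact Submodule.finrank_le _
  have hP0 : P _ := ⟨U', U₀, hU', hU₀, hne', rfl⟩
  obtain ⟨U₁, U₂, h1, h2, hne, hd⟩ := Nat.findGreatest_spec (P := P) (hbd _ hP0) hP0
  have hmax : ∀ V₁ V₂, IsMaxFam W V₁ → IsMaxFam W V₂ → V₁ ≠ V₂ →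
      Module.finrank k (span (⨆ C ∈ V₁ ∩ V₂, C)) ≤ Module.finrank k (span (⨆ C ∈ U₁ ∩ U₂, C)) := by
    intro V₁ V₂ g1 g2 g3
    have hPd : P (Module.finrank k (span (⨆ C ∈ V₁ ∩ V₂, C))) := ⟨V₁, V₂, g1, g2, g3, rfl⟩
    exact le_of_le_of_eq (Nat.le_findGreatest (hbd _ hPd) hPd) hd.symm
  clear_value P
  clear hd hP0 hbd
  set I := U₁ ∩ U₂ with hI
  have hclosed : ∀ h ∈ ⨆ C ∈ I, C, ∀ C ∈ I, Cfsg.conjBy C h ∈ I := fun h hh C hC =>
    ⟨maxFam_conj h1 hWG hWconj ((iSup₂_le fun D hD => le_iSup_fam hD.1 : (⨆ D ∈ I, D) ≤ _) hh) hC.1,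
      maxFam_conj h2 hWG hWconj ((iSup₂_le fun D hD => le_iSup_fam hD.2 : (⨆ D ∈ I, D) ≤ _) hh) hC.2⟩
  have hex : ∀ U U' : Set (Subgroup GLM), IsMaxFam W U → IsMaxFam W U' → U ≠ U' →
      ∃ A ∈ U, A ∉ U ∩ U' := by
    intro U U' hU hU' hne
    by_contra hh
    push Not at hh
    exact hne (hU.2.2.2 U' (fun A hA => (hh A hA).2) hU'.1 hU'.2.1).symm
  obtain ⟨A, hA, hAI, hAn⟩ := exists_normalizing h1 hWG hWconj Set.inter_subset_left
    (hex U₁ U₂ h1 h2 hne) hclosed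
  obtain ⟨B, hB, hBI, hBn⟩ := exists_normalizing h2 hWG hWconj Set.inter_subset_right
    (by obtain ⟨B, hB, hB'⟩ := hex U₂ U₁ h2 h1 hne.symm; exact ⟨B, hB, fun h => hB' ⟨h.2, h.1⟩⟩) hclosed
  have hnorm : ∀ x ∈ A ⊔ B, ∀ C ∈ I, Cfsg.conjBy C x ∈ I := by
    intro x hx
    rw [Subgroup.sup_eq_closure] at hx
    induction hx using Subgroup.closure_induction'' with
    | mem g hg => exact hg.elim (hAn g) (hBn g)
    | inv_mem g hg => exact hg.elim (fun h => hAn _ (inv_mem h)) (fun h => hBn _ (inv_mem h))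
    | one => intro C hC; rwa [conjBy_one]
    | mul a b _ _ ha hb => intro C hC; rw [← conjBy_conjBy]; exact ha _ (hb C hC)
  have hle : ∀ x ∈ A ⊔ B, Cfsg.conjBy (⨆ C ∈ I, C) x ≤ ⨆ C ∈ I, C := by
    intro x hx
    simp only [Cfsg.conjBy, Subgroup.map_iSup]
    exact iSup₂_le fun C hC => le_iSup_fam (hnorm x hx C hC)
  have hI1 : Cfsg.IsUnipotentOn (⨆ C ∈ I, C) :=
    unipotent_mono h1.2.1 (iSup₂_le fun D hD => le_iSup_fam hD.1)
  have hsup := unipotent_sup hI1 (hWW A (h1.1 hA) B (h2.1 hB)) hle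
  obtain ⟨U₃, hsub, h3⟩ := exists_maxFam (W := W) (U₀ := insert A (insert B I)) (by
    rintro C (rfl | rfl | hC)
    exacts [h1.1 hA, h2.1 hB, h1.1 hC.1]) (unipotent_mono hsup (iSup₂_le (by
      rintro C (rfl | rfl | hC)
      · exact le_sup_left.trans le_sup_right
      · exact le_sup_right.trans le_sup_right
      · exact (le_iSup_fam hC).trans le_sup_left)))
  have h31 : U₃ ≠ U₁ := fun e => hBI ⟨e ▸ hsub (Or.inr (Or.inl rfl)), hB⟩
  have hII' : I ⊆ U₃ ∩ U₁ := fun C hC => ⟨hsub (Or.inr (Or.inr hC)), hC.1⟩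
  have hle' : Module.finrank k (span (⨆ C ∈ U₃ ∩ U₁, C)) ≤ Module.finrank k (span (⨆ C ∈ I, C)) :=
    hmax U₃ U₁ h3 h1 h31
  have hsub2 : span (⨆ C ∈ I, C) ≤ span (⨆ C ∈ U₃ ∩ U₁, C) :=
    span_mono (iSup₂_le fun C hC => le_iSup_fam (hII' hC))
  have heq : span (⨆ C ∈ I, C) = span (⨆ C ∈ U₃ ∩ U₁, C) :=
    Submodule.eq_of_le_of_finrank_le hsub2 hle'
  apply hAI
  have hAd : ∀ a ∈ A, dlt a ∈ span (⨆ C ∈ I, C) := fun a ha => by
    rw [heq]
    exact Submodule.subset_span ⟨a, le_iSup_fam (show A ∈ U₃ ∩ U₁ from ⟨hsub (Or.inl rfl), hA⟩) ha, rfl⟩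
  refine ⟨hA, ?_⟩
  rw [h2.2.2.1]
  exact ⟨h1.1 hA, fun a ha => span_mono (iSup₂_le fun C hC => le_iSup_fam hC.2) (hAd a ha)⟩

end Family

end Cfsg.Agent.Lib.RootSub.Kolchin
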