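import Cfsg.Agent.Lib.RootSub.Quasisimple

/-!
Sets of root subgroups inside the subgroup they generate.
-/

namespace Cfsg.Agent.Lib.RootSub

open Subgroup
open scoped commutatorElement

variable {G H : Type*} [Group G] [Group H] {f : H →* G}

theorem isRankOnePair_map_iff (hf : Function.Injective f) {A B : Subgroup H} :
    Cfsg.IsRankOnePair (A.map f) (B.map f) ↔ Cfsg.IsRankOnePair A B := by
  have hinj : ∀ {P Q : Subgroup H}, P.map f = Q.map f → P = Q := fun e => Subgroup.map_injective hf e
  have hcond : ∀ {A B : Subgroup H},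
      Cfsg.RankOneCondition (A.map f) (B.map f) ↔ Cfsg.RankOneCondition A B := by
    intro A B
    constructor
    · intro h a ha ha1
      obtain ⟨_, ⟨b, hb, rfl⟩, hb1, he⟩ := h (f a) (mem_map_of_mem _ ha) (by rwa [Ne, map_eq_one_iff _ hf])
      refine ⟨b, hb, by rwa [Ne, map_eq_one_iff _ hf] at hb1, hinj ?_⟩
      rw [map_conjBy, map_conjBy, map_inv, map_inv, he]
    · rintro h _ ⟨a, ha, rfl⟩ ha1
      obtain ⟨b, hb, hb1, he⟩ := h a ha (fun e => ha1 (by rw [e, map_one]))
      refine ⟨f b, mem_map_of_mem _ hb, by rwa [Ne, map_eq_one_iff _ hf], ?_⟩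
      rw [← map_inv, ← map_inv, ← map_conjBy, ← map_conjBy, he]
  constructor
  · intro h
    refine ⟨fun e => h.ne (by rw [e]), ?_, ?_, hcond.mp h.cond_left, hcond.mp h.cond_right⟩
    · haveI := h.nilpotent_left
      exact Group.nilpotent_of_mulEquiv (Subgroup.equivMapOfInjective A f hf).symm
    · haveI := h.nilpotent_right
      exact Group.nilpotent_of_mulEquiv (Subgroup.equivMapOfInjective B f hf).symm
  · intro h
    refine ⟨fun e => h.ne (hinj e), ?_, ?_, hcond.mpr h.cond_left, hcond.mpr h.cond_right⟩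
    · haveI := h.nilpotent_left
      exact Group.nilpotent_of_mulEquiv (Subgroup.equivMapOfInjective A f hf)
    · haveI := h.nilpotent_right
      exact Group.nilpotent_of_mulEquiv (Subgroup.equivMapOfInjective B f hf)

theorem isSpecialRankOnePair_of_map (hf : Function.Injective f) {A B : Subgroup H}
    (h : Cfsg.IsSpecialRankOnePair (A.map f) (B.map f)) : Cfsg.IsSpecialRankOnePair A B := by
  refine ⟨(isRankOnePair_map_iff hf).mp h.1, fun a ha ha1 b hb hb1 he => hf ?_⟩
  rw [map_mul, map_mul, map_mul, map_mul, map_inv, map_inv]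
  refine h.2 (f a) (mem_map_of_mem _ ha) (by rwa [Ne, map_eq_one_iff _ hf]) (f b) (mem_map_of_mem _ hb)
    (by rwa [Ne, map_eq_one_iff _ hf]) ?_
  rw [← map_inv, ← map_inv, ← map_conjBy, ← map_conjBy, he]

theorem rootCase_map_iff (hf : Function.Injective f) {S : Set (Subgroup H)} {A B : Subgroup H} :
    Cfsg.RootCommutatorCase ((fun C => Subgroup.map f C) '' S) (A.map f) (B.map f) ↔
      Cfsg.RootCommutatorCase S A B := by
  have hinj : Function.Injective fun C : Subgroup H => Subgroup.map f C := Subgroup.map_injective hf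
  have him : ∀ {P : Subgroup H} (g : H → H → H) (g' : G → G → G), (∀ x y, f (g x y) = g' (f x) (f y)) → ∀ x,
      (fun y => g' (f x) y) '' (P.map f : Set G) = f '' ((fun y => g x y) '' (P : Set H)) := by
    intro P g g' hg x
    rw [Subgroup.coe_map, Set.image_image, Set.image_image]
    exact Set.image_congr fun y _ => (hg x y).symm
  unfold Cfsg.RootCommutatorCase
  rw [← Subgroup.map_commutator, ← Subgroup.map_sup]
  refine and_congr hinj.mem_set_image (and_congr ?_ (and_congr ?_ ?_))
  · constructor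
    · intro h c hc x hx
      exact hf (by rw [map_mul, map_mul]; exact h _ (mem_map_of_mem _ hc) _ (mem_map_of_mem _ hx))
    · rintro h _ ⟨c, hc, rfl⟩ _ ⟨x, hx, rfl⟩
      rw [← map_mul, ← map_mul, h c hc x hx]
  · have key := fun a => him (P := B) (fun a b => a * b * a⁻¹ * b⁻¹) (fun a b => a * b * a⁻¹ * b⁻¹)
      (fun a b => by simp) a
    constructor
    · intro h a ha ha1
      refine hinj ?_
      beta_reduce
      rw [show Subgroup.map f _ = _ from MonoidHom.map_closure f _, ← key]
      exact h _ (mem_map_of_mem _ ha) (by rwa [Ne, map_eq_one_iff _ hf])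
    · rintro h _ ⟨a, ha, rfl⟩ ha1
      rw [key, ← MonoidHom.map_closure, h a ha fun e => ha1 (by rw [e, map_one])]
  · have key := fun b => him (P := A) (fun b a => a * b * a⁻¹ * b⁻¹) (fun b a => a * b * a⁻¹ * b⁻¹)
      (fun a b => by simp) b
    constructor
    · intro h b hb hb1
      refine hinj ?_
      beta_reduce
      rw [show Subgroup.map f _ = _ from MonoidHom.map_closure f _, ← key]
      exact h _ (mem_map_of_mem _ hb) (by rwa [Ne, map_eq_one_iff _ hf])
    · rintro h _ ⟨b, hb, rfl⟩ hb1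
      rw [key, ← MonoidHom.map_closure, h b hb fun e => hb1 (by rw [e, map_one])]

/-- The trichotomy in the ambient group gives a set of root subgroups in the generated subgroup. -/
theorem isRootSubgroupSet_subgroupOf {S : Set (Subgroup G)} {K : Subgroup G} (hK : K = ⨆ A ∈ S, A)
    (hcomm : ∀ A ∈ S, IsMulCommutative A) (hne : ∀ A ∈ S, A ≠ ⊥)
    (hconj : ∀ A ∈ S, ∀ g ∈ K, Cfsg.conjBy A g ∈ S)
    (hpair : ∀ A ∈ S, ∀ B ∈ S, ⁅A, B⁆ = ⊥ ∨ Cfsg.IsRankOnePair A B ∨ Cfsg.RootCommutatorCase S A B) :
    Cfsg.IsRootSubgroupSet ((fun A : Subgroup G => A.subgroupOf K) '' S) := by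
  have hle : ∀ A ∈ S, A ≤ K := fun A hA => hK ▸ le_iSup₂ (f := fun A _ => A) A hA
  have hm : ∀ A ∈ S, (A.subgroupOf K).map K.subtype = A := fun A hA => by
    rw [Subgroup.subgroupOf_map_subtype, inf_eq_left.mpr (hle A hA)]
  have himg : (fun C => Subgroup.map K.subtype C) '' ((fun A : Subgroup G => A.subgroupOf K) '' S) = S := by
    rw [Set.image_image]
    exact (Set.image_congr fun A hA => hm A hA).trans (Set.image_id _)
  refine ⟨?_, ?_, ?_, ?_, ?_⟩
  · rintro _ ⟨A, hA, rfl⟩
    refine ⟨⟨fun x y => Subtype.ext (Subtype.ext ?_)⟩⟩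
    haveI := hcomm A hA
    have := congrArg Subtype.val (mul_comm' (⟨x.1.1, x.2⟩ : A) ⟨y.1.1, y.2⟩)
    simpa using this
  · rintro _ ⟨A, hA, rfl⟩ e
    exact hne A hA (by rw [← hm A hA]; simp only at e; rw [e, Subgroup.map_bot])
  · refine Subgroup.map_injective K.subtype_injective ?_
    rw [← MonoidHom.range_eq_map, Subgroup.range_subtype, iSup_image]
    simp only [Subgroup.map_iSup]
    rw [hK] at hm ⊢
    exact iSup_congr fun A => iSup_congr fun hA => hm A hA
  · rintro _ ⟨A, hA, rfl⟩ g
    refine ⟨Cfsg.conjBy A g, hconj A hA g g.2, Subgroup.map_injective K.subtype_injective ?_⟩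
    rw [hm _ (hconj A hA g g.2), map_conjBy, hm A hA]
    rfl
  · rintro _ ⟨A, hA, rfl⟩ _ ⟨B, hB, rfl⟩
    rcases hpair A hA B hB with h | h | h
    · refine Or.inl ((Subgroup.map_eq_bot_iff_of_injective _ K.subtype_injective).mp ?_)
      rw [Subgroup.map_commutator, hm A hA, hm B hB, h]
    · refine Or.inr (Or.inl ((isRankOnePair_map_iff K.subtype_injective).mp ?_))
      rwa [hm A hA, hm B hB]
    · refine Or.inr (Or.inr ((rootCase_map_iff K.subtype_injective).mp ?_))
      rwa [hm A hA, hm B hB, himg]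

end Cfsg.Agent.Lib.RootSub
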