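import Cfsg.Agent.Lib.RootSub.RankOne
import Cfsg.Agent.Lib.QuadPair.SL2Gen
import Mathlib.LinearAlgebra.Matrix.SpecialLinearGroup

/-!
The two unitriangular subgroups of `SL₂(k)` form a special rank one pair in every quotient by a central subgroup.
-/

namespace Cfsg.Agent.Lib.RootSub

open Matrix Cfsg.Agent.Lib.QuadPair

variable {k : Type*} [Field k]

local notation "SL2" => SpecialLinearGroup (Fin 2) k

theorem mem_upper {g : SpecialLinearGroup (Fin 2) k} :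
    g ∈ Cfsg.upperUnipotentSL2 k ↔ ∃ u, g = xU u := by
  constructor
  · intro hg
    rw [Cfsg.upperUnipotentSL2] at hg
    induction hg using Subgroup.closure_induction with
    | mem x hx =>
      obtain ⟨h10, h00, h11⟩ := hx
      exact ⟨x.1 0 1, by ext i j; fin_cases i <;> fin_cases j <;> simp [coe_xU, h10, h00, h11]⟩
    | one => exact ⟨0, xU_zero.symm⟩
    | mul x y _ _ hx hy => obtain ⟨u, rfl⟩ := hx; obtain ⟨v, rfl⟩ := hy; exact ⟨u + v, (xU_add u v).symm⟩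
    | inv x _ hx => obtain ⟨u, rfl⟩ := hx; exact ⟨-u, (xU_neg u).symm⟩
  · rintro ⟨u, rfl⟩
    exact Subgroup.subset_closure (by simp [coe_xU])

theorem mem_lower {g : SpecialLinearGroup (Fin 2) k} :
    g ∈ Cfsg.lowerUnipotentSL2 k ↔ ∃ u, g = yL u := by
  constructor
  · intro hg
    rw [Cfsg.lowerUnipotentSL2] at hg
    induction hg using Subgroup.closure_induction with
    | mem x hx =>
      obtain ⟨h01, h00, h11⟩ := hx
      exact ⟨x.1 1 0, by ext i j; fin_cases i <;> fin_cases j <;> simp [coe_yL, h01, h00, h11]⟩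
    | one => exact ⟨0, yL_zero.symm⟩
    | mul x y _ _ hx hy => obtain ⟨u, rfl⟩ := hx; obtain ⟨v, rfl⟩ := hy; exact ⟨u + v, (yL_add u v).symm⟩
    | inv x _ hx => obtain ⟨u, rfl⟩ := hx; exact ⟨-u, (yL_neg u).symm⟩
  · rintro ⟨u, rfl⟩
    exact Subgroup.subset_closure (by simp [coe_yL])

theorem upper_sup_lower : Cfsg.upperUnipotentSL2 k ⊔ Cfsg.lowerUnipotentSL2 k = ⊤ := by
  rw [eq_top_iff]
  have key : ∀ g : SpecialLinearGroup (Fin 2) k, g.1 1 0 ≠ 0 →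
      g ∈ Cfsg.upperUnipotentSL2 k ⊔ Cfsg.lowerUnipotentSL2 k := by
    intro g hc
    have hd : g.1 0 0 * g.1 1 1 - g.1 0 1 * g.1 1 0 = 1 := by rw [← det_fin_two]; exact g.2
    have e : g = xU ((g.1 0 0 - 1) / g.1 1 0) * yL (g.1 1 0) * xU ((g.1 1 1 - 1) / g.1 1 0) := by
      ext i j
      fin_cases i <;> fin_cases j <;> simp [coe_xU, coe_yL, Matrix.mul_apply, Fin.sum_univ_two] <;>
        field_simp <;> grind
    rw [e]
    exact mul_mem (mul_mem (Subgroup.mem_sup_left (mem_upper.mpr ⟨_, rfl⟩))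
      (Subgroup.mem_sup_right (mem_lower.mpr ⟨_, rfl⟩))) (Subgroup.mem_sup_left (mem_upper.mpr ⟨_, rfl⟩))
  intro g _
  by_cases hc : g.1 1 0 = 0
  · have hd : g.1 0 0 * g.1 1 1 - g.1 0 1 * g.1 1 0 = 1 := by rw [← det_fin_two]; exact g.2
    have h11 : g.1 1 1 ≠ 0 := fun e => by simp [e, hc] at hd
    have h := key (g * yL 1) (by simpa [coe_yL, Matrix.mul_apply, Fin.sum_univ_two, hc] using h11)
    have h' := mul_mem h (inv_mem (Subgroup.mem_sup_right (S := Cfsg.upperUnipotentSL2 k)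
      (mem_lower.mpr ⟨1, rfl⟩) : yL (1 : k) ∈ _))
    rwa [mul_inv_cancel_right] at h'
  · exact key g hc

variable {G : Type*} [Group G] (φ : SpecialLinearGroup (Fin 2) k →* G)

theorem central_entries {z : SpecialLinearGroup (Fin 2) k} (hz : z ∈ Subgroup.center SL2) :
    z.1 0 1 = 0 ∧ z.1 1 0 = 0 := by
  have h1 := congrArg (fun g : SL2 => g.1 0 0) (Subgroup.mem_center_iff.mp hz (xU 1))
  have h2 := congrArg (fun g : SL2 => g.1 0 0) (Subgroup.mem_center_iff.mp hz (yL 1))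
  simp [coe_xU, Matrix.mul_apply, Fin.sum_univ_two] at h1
  simp [coe_yL, Matrix.mul_apply, Fin.sum_univ_two] at h2
  exact ⟨h2, h1⟩

theorem swap_xy {t : k} (ht : t ≠ 0) (u : k) :
    (xU t * yL (-t⁻¹)) * xU u * (xU t * yL (-t⁻¹))⁻¹ = (yL (-u / (t * t)) : SL2) := by
  rw [mul_inv_eq_iff_eq_mul]
  ext i j
  fin_cases i <;> fin_cases j <;> simp [coe_xU, coe_yL, Matrix.mul_apply, Fin.sum_univ_two] <;> field_simp <;> first | (ring; done) | simp

theorem special_xy {t : k} (ht : t ≠ 0) :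
    (yL t⁻¹)⁻¹ * xU t * yL t⁻¹ = ((xU t)⁻¹ * (yL t⁻¹)⁻¹ * xU t : SL2) := by
  rw [← xU_neg, ← yL_neg]
  ext i j
  fin_cases i <;> fin_cases j <;> simp [coe_xU, coe_yL, Matrix.mul_apply, Fin.sum_univ_two, ht] <;> ring

variable {φ}

theorem cond_hom {t : k} (ht : t ≠ 0) :
    Cfsg.conjBy ((Cfsg.upperUnipotentSL2 k).map φ) (φ (yL t⁻¹))⁻¹ =
      Cfsg.conjBy ((Cfsg.lowerUnipotentSL2 k).map φ) (φ (xU t))⁻¹ := by
  suffices h : Cfsg.conjBy ((Cfsg.upperUnipotentSL2 k).map φ) (φ (xU t * yL (-t⁻¹))) =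
      (Cfsg.lowerUnipotentSL2 k).map φ by
    rw [← h, conjBy_conjBy, map_mul, ← mul_assoc, inv_mul_cancel, one_mul, yL_neg, map_inv]
  ext x
  constructor
  · intro hx
    obtain ⟨_, hu, he⟩ := mem_conjBy.mp hx
    obtain ⟨u, rfl⟩ := mem_upper.mp hu
    refine ⟨yL (-u / (t * t)), mem_lower.mpr ⟨_, rfl⟩, ?_⟩
    rw [← swap_xy ht, map_mul φ _ ((xU t * yL (-t⁻¹))⁻¹), map_mul φ _ (xU u), he, map_inv]
    group
  · rintro ⟨_, hu, rfl⟩
    obtain ⟨u, rfl⟩ := mem_lower.mp hu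
    have e : yL u = (yL (-(-(u * (t * t))) / (t * t)) : SL2) := by congr 1; field_simp
    rw [e, ← swap_xy ht, map_mul φ _ ((xU t * yL (-t⁻¹))⁻¹), map_mul φ _ (xU _), map_inv]
    exact conj_mem_conjBy ⟨_, mem_upper.mpr ⟨_, rfl⟩, rfl⟩

theorem isSpecial_of_hom (hker : φ.ker ≤ Subgroup.center (SpecialLinearGroup (Fin 2) k)) :
    Cfsg.IsSpecialRankOnePair ((Cfsg.upperUnipotentSL2 k).map φ) ((Cfsg.lowerUnipotentSL2 k).map φ) := by
  have hne : ∀ {u : k}, φ (xU u) ≠ 1 → u ≠ 0 := fun h e => h (by rw [e, xU_zero, map_one])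
  have hne' : ∀ {u : k}, φ (yL u) ≠ 1 → u ≠ 0 := fun h e => h (by rw [e, yL_zero, map_one])
  refine ⟨⟨?_, ?_, ?_, ?_, ?_⟩, ?_⟩
  · intro e
    obtain ⟨_, hy, he⟩ : φ (xU 1) ∈ (Cfsg.lowerUnipotentSL2 k).map φ := e ▸ ⟨_, mem_upper.mpr ⟨1, rfl⟩, rfl⟩
    obtain ⟨u, rfl⟩ := mem_lower.mp hy
    obtain ⟨h01, -⟩ := central_entries (hker (show (yL u)⁻¹ * xU 1 ∈ φ.ker by
      rw [MonoidHom.mem_ker, map_mul, map_inv, he, inv_mul_cancel]))
    rw [← yL_neg] at h01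
    simp [coe_xU, coe_yL, Matrix.mul_apply, Fin.sum_univ_two] at h01
  · haveI : IsMulCommutative ((Cfsg.upperUnipotentSL2 k).map φ) := ⟨⟨by
      rintro ⟨_, _, hx, rfl⟩ ⟨_, _, hy, rfl⟩
      obtain ⟨u, rfl⟩ := mem_upper.mp hx
      obtain ⟨v, rfl⟩ := mem_upper.mp hy
      exact Subtype.ext (by simp only [Subgroup.coe_mul, ← map_mul, ← xU_add, add_comm])⟩⟩
    letI : CommGroup ((Cfsg.upperUnipotentSL2 k).map φ) :=
      { (inferInstance : Group ((Cfsg.upperUnipotentSL2 k).map φ)) with mul_comm := fun x y => mul_comm' x y }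
    infer_instance
  · haveI : IsMulCommutative ((Cfsg.lowerUnipotentSL2 k).map φ) := ⟨⟨by
      rintro ⟨_, _, hx, rfl⟩ ⟨_, _, hy, rfl⟩
      obtain ⟨u, rfl⟩ := mem_lower.mp hx
      obtain ⟨v, rfl⟩ := mem_lower.mp hy
      exact Subtype.ext (by simp only [Subgroup.coe_mul, ← map_mul, ← yL_add, add_comm])⟩⟩
    letI : CommGroup ((Cfsg.lowerUnipotentSL2 k).map φ) :=
      { (inferInstance : Group ((Cfsg.lowerUnipotentSL2 k).map φ)) with mul_comm := fun x y => mul_comm' x y }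
    infer_instance
  · rintro _ ⟨_, hx, rfl⟩ h1
    obtain ⟨t, rfl⟩ := mem_upper.mp hx
    refine ⟨φ (yL t⁻¹), ⟨_, mem_lower.mpr ⟨_, rfl⟩, rfl⟩, fun e => ?_, cond_hom (hne h1)⟩
    obtain ⟨-, h10⟩ := central_entries (hker (MonoidHom.mem_ker.mpr e))
    simp [coe_yL, hne h1] at h10
  · rintro _ ⟨_, hy, rfl⟩ h1
    obtain ⟨s, rfl⟩ := mem_lower.mp hy
    refine ⟨φ (xU s⁻¹), ⟨_, mem_upper.mpr ⟨_, rfl⟩, rfl⟩, fun e => ?_, ?_⟩
    · obtain ⟨h01, -⟩ := central_entries (hker (MonoidHom.mem_ker.mpr e))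
      simp [coe_xU, hne' h1] at h01
    · have := cond_hom (φ := φ) (inv_ne_zero (hne' h1))
      rw [inv_inv] at this
      exact this.symm
  · rintro _ ⟨_, hx, rfl⟩ h1 _ ⟨_, hy, rfl⟩ - he
    obtain ⟨t, rfl⟩ := mem_upper.mp hx
    obtain ⟨s, rfl⟩ := mem_lower.mp hy
    rw [← cond_hom (hne h1)] at he
    have hfix : φ (yL (t⁻¹ - s)) * φ (xU 1) * (φ (yL (t⁻¹ - s)))⁻¹ ∈ (Cfsg.upperUnipotentSL2 k).map φ := by
      have hc : Cfsg.conjBy ((Cfsg.upperUnipotentSL2 k).map φ) (φ (yL (t⁻¹ - s))) =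
          (Cfsg.upperUnipotentSL2 k).map φ := by
        rw [sub_eq_add_neg, yL_add, map_mul, ← conjBy_conjBy, yL_neg, map_inv, he, conjBy_conjBy,
          mul_inv_cancel, conjBy_one]
      have := conj_mem_conjBy (g := φ (yL (t⁻¹ - s)))
        (show φ (xU 1) ∈ (Cfsg.upperUnipotentSL2 k).map φ from ⟨_, mem_upper.mpr ⟨1, rfl⟩, rfl⟩)
      rwa [hc] at this
    obtain ⟨_, hu, hue⟩ := hfix
    obtain ⟨u, rfl⟩ := mem_upper.mp hu
    have hz : (xU u)⁻¹ * (yL (t⁻¹ - s) * xU 1 * (yL (t⁻¹ - s))⁻¹) ∈ φ.ker := by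
      rw [MonoidHom.mem_ker, map_mul, map_inv, map_mul, map_mul, map_inv, hue, inv_mul_cancel]
    obtain ⟨-, h10⟩ := central_entries (hker hz)
    rw [← xU_neg, ← yL_neg] at h10
    simp [coe_xU, coe_yL, Matrix.mul_apply, Fin.sum_univ_two] at h10
    have h10' : (t⁻¹ - s) * (t⁻¹ - s) = 0 := by linear_combination -h10
    have hst : s = t⁻¹ := (sub_eq_zero.mp (mul_self_eq_zero.mp h10')).symm
    rw [hst, ← map_inv, ← map_inv, ← map_mul, ← map_mul, ← map_mul, ← map_mul, special_xy (hne h1)]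

end Cfsg.Agent.Lib.RootSub
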