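import Cfsg.Agent.Lib.RootSub.TriLineClass
import Cfsg.Agent.Lib.RootSub.SL2Pair

/-!
Rank one pairs in classes of abstract root subgroups are special.
-/

namespace Cfsg.Agent.Lib.RootSub

open Subgroup
open scoped commutatorElement

universe u

variable {G : Type*} [Group G] {S : Set (Subgroup G)} {A B C P : Subgroup G}

/-- The commutator of an element with `n`. -/
def shiftElem (n b : G) : G := b * n * b⁻¹ * n⁻¹

theorem shiftElem_commute (hB : ∀ x ∈ B, ∀ y ∈ B, x * y = y * x) {n : G} (hn : ⁅B, Cfsg.conjBy B n⁆ = ⊥) {b y : G}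
    (hb : b ∈ B) (hy : y ∈ B) : shiftElem n b * y = y * shiftElem n b := by
  have h1 : n * b⁻¹ * n⁻¹ ∈ Cfsg.conjBy B n := conj_mem_conjBy (inv_mem hb)
  have h2 := commute_of_commutator_eq_bot hn hy h1
  have e : shiftElem n b = b * (n * b⁻¹ * n⁻¹) := by unfold shiftElem; group
  rw [e, mul_assoc, ← h2, ← mul_assoc, hB b hb y hy, mul_assoc]

theorem shiftElem_mul (hB : ∀ x ∈ B, ∀ y ∈ B, x * y = y * x) {n : G} (hn : ⁅B, Cfsg.conjBy B n⁆ = ⊥) {b₁ b₂ : G}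
    (h1 : b₁ ∈ B) (h2 : b₂ ∈ B) : shiftElem n (b₁ * b₂) = shiftElem n b₂ * shiftElem n b₁ := by
  calc shiftElem n (b₁ * b₂) = (b₁ * shiftElem n b₂) * b₁⁻¹ * shiftElem n b₁ := by unfold shiftElem; group
    _ = _ := by rw [← shiftElem_commute hB hn h2 h1, mul_inv_cancel_right]

theorem shiftElem_one (n : G) : shiftElem n 1 = 1 := by unfold shiftElem; group

theorem shiftElem_fix (hB : ∀ x ∈ B, ∀ y ∈ B, x * y = y * x) {n : G} (hn : ⁅B, Cfsg.conjBy B n⁆ = ⊥) {b : G}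
    (hb : b ∈ B) : Cfsg.conjBy B (shiftElem n b) = B :=
  conjBy_of_commute fun _ hy => shiftElem_commute hB hn hb hy

theorem shiftElem_left (hp : Cfsg.IsRankOnePair A B) (hA : ∀ x ∈ A, ∀ y ∈ A, x * y = y * x) {n : G}
    (hnA : ∀ x ∈ A, n * x = x * n) (hn : ⁅B, Cfsg.conjBy B n⁆ = ⊥) {b : G} (hb : b ∈ B) :
    ⁅A, Cfsg.conjBy A (shiftElem n b)⁆ = ⊥ ∧
      (Cfsg.conjBy B n ≠ B → b ≠ 1 → Cfsg.conjBy A (shiftElem n b) ≠ A) := by
  rcases eq_or_ne b 1 with rfl | hb1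
  · rw [shiftElem_one, conjBy_of_mem (one_mem A)]
    exact ⟨bot_of_commute hA, fun _ h => absurd rfl h⟩
  obtain ⟨a, ha, -, he⟩ := hp.cond_right b hb hb1
  have hAe : A = Cfsg.conjBy (Cfsg.conjBy B a⁻¹) b := by
    rw [he, conjBy_conjBy, mul_inv_cancel]; exact (conjBy_of_mem (one_mem A)).symm
  have hu : Cfsg.conjBy A (shiftElem n b) = Cfsg.conjBy (Cfsg.conjBy (Cfsg.conjBy B n) a⁻¹) b := by
    rw [conjBy_conjBy n a⁻¹, ← hnA a⁻¹ (inv_mem ha), ← conjBy_conjBy a⁻¹ n, he, conjBy_conjBy, conjBy_conjBy]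
    unfold shiftElem
    rw [← conjBy_conjBy n⁻¹, conjBy_of_commute (g := n⁻¹) fun x hx => by
      rw [inv_mul_eq_iff_eq_mul, ← mul_assoc, hnA x hx, mul_inv_cancel_right]]
  refine ⟨?_, fun hne _ h => hne ?_⟩
  · rw [hu]
    nth_rewrite 1 [hAe]
    rw [← conjBy_commutator, ← conjBy_commutator, hn, conjBy_eq_bot.mpr rfl, conjBy_eq_bot.mpr rfl]
  · rw [hu] at h
    nth_rewrite 1 [hAe] at h
    exact conjBy_injective a⁻¹ (conjBy_injective b h)

/-- A rank one pair in which some element centralizing `A` moves `B` to a different commuting subgroup is special. -/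
theorem special_of_shift (hp : Cfsg.IsRankOnePair A B) (hA : ∀ x ∈ A, ∀ y ∈ A, x * y = y * x)
    (hB : ∀ x ∈ B, ∀ y ∈ B, x * y = y * x) {n : G} (hnA : ∀ x ∈ A, n * x = x * n)
    (hn : ⁅B, Cfsg.conjBy B n⁆ = ⊥) (hne : Cfsg.conjBy B n ≠ B) : Cfsg.IsSpecialRankOnePair A B := by
  refine ⟨hp, fun a ha ha1 b hb _ he => ?_⟩
  set b' := (a * (b⁻¹ * a * b) * a⁻¹)⁻¹ with hb'def
  have hb' : b' ∈ B := by
    refine inv_mem ?_
    have h : b⁻¹ * a * b ∈ Cfsg.conjBy B a⁻¹ := by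
      rw [← he, mem_conjBy]; simpa [mul_assoc] using ha
    rw [mem_conjBy] at h
    simpa [mul_assoc] using h
  suffices hbb : b' = b by
    have h := congrArg (fun x => a⁻¹ * x⁻¹ * a) hbb
    simp only [hb'def, inv_inv] at h
    rw [← h]
    group
  have hna : n * a = a * n := hnA a ha
  obtain ⟨β, hβ, -, heβ⟩ := hp.cond_left a⁻¹ (inv_mem ha) (inv_ne_one.mpr ha1)
  rw [inv_inv] at heβ
  set u := shiftElem n b with hu
  set u' := shiftElem n b' with hu'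
  have key : b⁻¹ * (a⁻¹ * u * a * u⁻¹) * b = (a⁻¹ * u' * a * u'⁻¹) * u' := by
    have h1 : b⁻¹ * (a⁻¹ * u * a * u⁻¹) * b * n = (b⁻¹ * a⁻¹ * b) * n * (b⁻¹ * a * b) := by
      calc b⁻¹ * (a⁻¹ * u * a * u⁻¹) * b * n = b⁻¹ * a⁻¹ * u * a * n * b := by rw [hu]; unfold shiftElem; group
        _ = b⁻¹ * a⁻¹ * u * (n * a) * b := by rw [hna]; group
        _ = _ := by rw [hu]; unfold shiftElem; group
    have h2 : (b⁻¹ * a⁻¹ * b) * n * (b⁻¹ * a * b) = (a⁻¹ * u' * a * u'⁻¹) * u' * n := by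
      calc (b⁻¹ * a⁻¹ * b) * n * (b⁻¹ * a * b) = a⁻¹ * b' * (a * n) * a⁻¹ * b'⁻¹ * a := by rw [hb'def]; group
        _ = a⁻¹ * b' * n * b'⁻¹ * n⁻¹ * (n * a) := by rw [← hna]; group
        _ = (a⁻¹ * u' * a * u'⁻¹) * u' * n := by rw [hna, hu']; unfold shiftElem; group
    exact mul_right_cancel (h1.trans h2)
  have hAu := (shiftElem_left hp hA hnA hn hb).1
  -- the translated copy of `B` commutes with `B`
  set w := a⁻¹ * u * a * u⁻¹ with hw
  have hwB : Cfsg.conjBy B w = Cfsg.conjBy (Cfsg.conjBy (Cfsg.conjBy B a) u) a⁻¹ := by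
    rw [hw, ← conjBy_conjBy u⁻¹, conjBy_of_commute (g := u⁻¹) fun y hy => by
      rw [inv_mul_eq_iff_eq_mul, ← mul_assoc, shiftElem_commute hB hn hb hy, mul_inv_cancel_right],
      conjBy_conjBy, conjBy_conjBy, mul_assoc]
  have huβ : Cfsg.conjBy (Cfsg.conjBy B a) u = Cfsg.conjBy (Cfsg.conjBy A u) β⁻¹ := by
    rw [← heβ, conjBy_conjBy, conjBy_conjBy, shiftElem_commute hB hn hb (inv_mem hβ)]
  have hBw : ⁅B, Cfsg.conjBy B w⁆ = ⊥ := by
    have hBe : B = Cfsg.conjBy (Cfsg.conjBy A β⁻¹) a⁻¹ := by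
      rw [heβ, conjBy_conjBy, inv_mul_cancel]; exact (conjBy_of_mem (one_mem B)).symm
    rw [hwB, huβ]
    nth_rewrite 1 [hBe]
    rw [← conjBy_commutator, ← conjBy_commutator, hAu, conjBy_eq_bot.mpr rfl, conjBy_eq_bot.mpr rfl]
  have hfix : Cfsg.conjBy B w = Cfsg.conjBy B (a⁻¹ * u' * a) := by
    have h3 := congrArg (Cfsg.conjBy B) key
    rw [mul_assoc, ← conjBy_conjBy (w * b) b⁻¹, ← conjBy_conjBy b w, conjBy_of_mem hb,
      conjBy_of_commute (g := b⁻¹) (fun x hx => commute_of_commutator_eq_bot hBw (inv_mem hb) hx)] at h3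
    rw [h3, inv_mul_cancel_right]
  rw [hw, ← conjBy_conjBy u⁻¹, conjBy_of_commute (g := u⁻¹) (fun y hy => by
    rw [inv_mul_eq_iff_eq_mul, ← mul_assoc, shiftElem_commute hB hn hb hy, mul_inv_cancel_right])] at hfix
  rw [← conjBy_conjBy a (a⁻¹ * u), ← conjBy_conjBy a (a⁻¹ * u'), ← heβ] at hfix
  have hsplit : u = u' * shiftElem n (b * b'⁻¹) := by
    rw [hu, hu', ← shiftElem_mul hB hn (mul_mem hb (inv_mem hb')) hb', inv_mul_cancel_right]
  rw [← conjBy_conjBy u a⁻¹, ← conjBy_conjBy u' a⁻¹] at hfix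
  have hfix' := conjBy_injective a⁻¹ hfix
  rw [hsplit, ← conjBy_conjBy (shiftElem n (b * b'⁻¹)) u'] at hfix'
  have hfix'' := conjBy_injective u' hfix'
  have hmem := mul_mem hb (inv_mem hb')
  rw [conjBy_conjBy, shiftElem_commute hB hn hmem (inv_mem hβ), ← conjBy_conjBy] at hfix''
  have hAA := conjBy_injective β⁻¹ hfix''
  by_contra hbb
  exact (shiftElem_left hp hA hnA hn hmem).2 hne (fun h => hbb (mul_inv_eq_one.mp h).symm) hAA

/-- A member `C` commuting with `A` gives an element centralizing `A` that moves a common opposite. -/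
theorem exists_shift (hAC : ⁅A, C⁆ = ⊥) (hA : ∀ x ∈ A, ∀ y ∈ A, x * y = y * x) (hne : A ≠ C) {a c p : G}
    (ha : a ∈ A) (hc : c ∈ C) (hae : Cfsg.conjBy P a⁻¹ = Cfsg.conjBy A p⁻¹)
    (hce : Cfsg.conjBy P c⁻¹ = Cfsg.conjBy C p⁻¹) :
    (∀ x ∈ A, (a * c⁻¹) * x = x * (a * c⁻¹)) ∧ ⁅P, Cfsg.conjBy P (a * c⁻¹)⁆ = ⊥ ∧
      Cfsg.conjBy P (a * c⁻¹) ≠ P := by
  refine ⟨fun x hx => ?_, ?_, fun h => hne ?_⟩
  · rw [mul_assoc, ← commute_of_commutator_eq_bot hAC hx (inv_mem hc), ← mul_assoc, hA a ha x hx, mul_assoc]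
  · have hPe : P = Cfsg.conjBy (Cfsg.conjBy A p⁻¹) a := by
      rw [← hae, conjBy_conjBy, mul_inv_cancel]; exact (conjBy_of_mem (one_mem P)).symm
    have hC' : Cfsg.conjBy P (a * c⁻¹) = Cfsg.conjBy (Cfsg.conjBy C p⁻¹) a := by rw [← hce, conjBy_conjBy]
    rw [hC']
    nth_rewrite 1 [hPe]
    rw [← conjBy_commutator, ← conjBy_commutator, hAC, conjBy_eq_bot.mpr rfl, conjBy_eq_bot.mpr rfl]
  · apply conjBy_injective p⁻¹
    beta_reduce
    rw [← hae, ← hce]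
    apply conjBy_injective a
    beta_reduce
    rw [conjBy_conjBy, conjBy_conjBy, mul_inv_cancel, conjBy_of_mem (one_mem P), h]

/-- The trilinear identity: no member commuting with `A` and all its translates can centralize them. -/
theorem tri_false (hp : Cfsg.IsRankOnePair A P) (hCP : Cfsg.IsRankOnePair C P)
    (hA : ∀ x ∈ A, ∀ y ∈ A, x * y = y * x) (hP : ∀ x ∈ P, ∀ y ∈ P, x * y = y * x) (hAC : ⁅A, C⁆ = ⊥) (hne : A ≠ C)
    (hAB : Cfsg.IsRankOnePair A B)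
    (hM : ∀ g : G, ⁅A, Cfsg.conjBy A g⁆ = ⊥ → Cfsg.conjBy A g ≠ A → ⁅Cfsg.conjBy A g, B⁆ = ⊥)
    {x y w : G} (hx : x ∈ P) (hy : y ∈ P) (hw : w ∈ P) (hx1 : x ≠ 1) (hy1 : y ≠ 1) (hw1 : w ≠ 1)
    (hxy : x * y ≠ 1) (hxw : x * w ≠ 1) (hyw : y * w ≠ 1) (hxyw : x * y * w ≠ 1) : False := by
  refine not_commute hAB fun a ha b hb => ?_
  rcases eq_or_ne a 1 with rfl | ha1
  · simp
  obtain ⟨p, hpP, hp1, hae⟩ := hp.cond_left a ha ha1
  obtain ⟨c, hc, -, hce⟩ := hCP.cond_right p hpP hp1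
  obtain ⟨hnA, hn, hnne⟩ := exists_shift hAC hA hne ha hc hae.symm hce
  set n := a * c⁻¹ with hndef
  let U := shiftElem n
  have hUc : ∀ {q z : G}, q ∈ P → z ∈ P → U q * z = z * U q := fun hq hz => shiftElem_commute hP hn hq hz
  -- the element of the given pair is carried to the member `C`
  have hUa : U p * a * (U p)⁻¹ = c := by
    have hAC' : Cfsg.conjBy A (U p) = C := by
      have h1 : Cfsg.conjBy A (U p) = Cfsg.conjBy (Cfsg.conjBy (Cfsg.conjBy A p⁻¹) n) p := by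
        rw [conjBy_conjBy, conjBy_conjBy]
        change Cfsg.conjBy A (p * n * p⁻¹ * n⁻¹) = _
        rw [← conjBy_conjBy n⁻¹, conjBy_of_commute (g := n⁻¹) fun z hz => by
          rw [inv_mul_eq_iff_eq_mul, ← mul_assoc, hnA z hz, mul_inv_cancel_right]]
      rw [h1, hae, conjBy_conjBy a⁻¹ n, show n * a⁻¹ = c⁻¹ by
        rw [hnA _ (inv_mem ha), hndef, inv_mul_cancel_left], hce, conjBy_conjBy, mul_inv_cancel]
      exact conjBy_of_mem (one_mem C)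
    have hmem : U p * a * (U p)⁻¹ ∈ C := hAC' ▸ conj_mem_conjBy ha
    have hfix : Cfsg.conjBy P (U p * a * (U p)⁻¹)⁻¹ = Cfsg.conjBy P c⁻¹ := by
      rw [hce, ← hAC', conjBy_conjBy, ← hUc hpP (inv_mem hpP), ← conjBy_conjBy, hae, conjBy_conjBy,
        show (U p * a * (U p)⁻¹)⁻¹ = U p * a⁻¹ * (U p)⁻¹ by group, ← conjBy_conjBy (U p)⁻¹,
        conjBy_of_commute (g := (U p)⁻¹) fun z hz => by
          rw [inv_mul_eq_iff_eq_mul, ← mul_assoc, hUc hpP hz, mul_inv_cancel_right]]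
    have h2 := congrArg (fun X => Cfsg.conjBy X c) hfix
    simp only [conjBy_conjBy] at h2
    rw [mul_inv_cancel, conjBy_of_mem (one_mem P)] at h2
    have h3 := eq_one_of_fix hCP (mul_mem hc (inv_mem hmem)) h2
    exact (mul_inv_eq_one.mp h3).symm
  -- the translates of `A`
  let T : G → G := fun q => U q * a * (U q)⁻¹
  have hTA : ∀ q ∈ P, T q ∈ Cfsg.conjBy A (U q) := fun q _ => conj_mem_conjBy ha
  have hTT : ∀ q ∈ P, ∀ r ∈ P, T q * T r = T r * T q := by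
    intro q hq r hr
    refine commute_of_commutator_eq_bot ?_ (hTA q hq) (hTA r hr)
    have e : U r = U q * U (r * q⁻¹) := by
      rw [← shiftElem_mul hP hn (mul_mem hr (inv_mem hq)) hq, inv_mul_cancel_right]
    rw [e, ← conjBy_conjBy, ← conjBy_commutator, (shiftElem_left hp hA hnA hn (mul_mem hr (inv_mem hq))).1,
      conjBy_eq_bot.mpr rfl]
  have hT1 : T 1 = a := by simp [T, U, shiftElem_one]
  let V : G → Subgroup G := fun q => Cfsg.conjBy P (T 1 * (T q)⁻¹)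
  have hV : ∀ q ∈ P, V q = Cfsg.conjBy (Cfsg.conjBy A (U q)) (a * p⁻¹) := by
    intro q hq
    change Cfsg.conjBy P (T 1 * (T q)⁻¹) = _
    rw [hT1, show (T q)⁻¹ = U q * a⁻¹ * (U q)⁻¹ by simp [T, mul_assoc]]
    rw [← mul_assoc, ← conjBy_conjBy (U q)⁻¹, conjBy_of_commute (g := (U q)⁻¹) fun z hz => by
      rw [inv_mul_eq_iff_eq_mul, ← mul_assoc, hUc hq hz, mul_inv_cancel_right]]
    rw [← mul_assoc, ← conjBy_conjBy a⁻¹, ← hae, conjBy_conjBy, conjBy_conjBy, mul_assoc, mul_assoc,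
      hUc hq (inv_mem hpP)]
  have hVV : ∀ q ∈ P, ∀ r ∈ P, ⁅V q, V r⁆ = ⊥ := by
    intro q hq r hr
    rw [hV q hq, hV r hr, ← conjBy_commutator]
    have e : U r = U q * U (r * q⁻¹) := by
      rw [← shiftElem_mul hP hn (mul_mem hr (inv_mem hq)) hq, inv_mul_cancel_right]
    rw [e, ← conjBy_conjBy (U (r * q⁻¹)) (U q), ← conjBy_commutator,
      (shiftElem_left hp hA hnA hn (mul_mem hr (inv_mem hq))).1, conjBy_eq_bot.mpr rfl, conjBy_eq_bot.mpr rfl]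
  have hV1 : V 1 = P := by
    change Cfsg.conjBy P (T 1 * (T 1)⁻¹) = P
    rw [mul_inv_cancel]; exact conjBy_of_mem (one_mem P)
  have hVp : V p = Cfsg.conjBy P n := by
    change Cfsg.conjBy P (T 1 * (T p)⁻¹) = _
    rw [hT1, show T p = c from hUa]
  have hUV : ∀ q ∈ P, ∀ r ∈ P, ∀ z ∈ V r, U q * z = z * U q := by
    intro q hq r hr z hz
    have h1 := commute_of_commutator_eq_bot (hV1 ▸ hVV 1 (one_mem P) r hr) hq hz
    have h2 := commute_of_commutator_eq_bot (hVp ▸ hVV p hpP r hr)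
      (conj_mem_conjBy (g := n) (inv_mem hq)) hz
    have e : U q = q * (n * q⁻¹ * n⁻¹) := by simp [U, shiftElem, mul_assoc]
    rw [e, mul_assoc, h2, ← mul_assoc, h1, mul_assoc]
  have hUU : ∀ q ∈ P, ∀ r ∈ P, U q * U r = U r * U q := by
    intro q hq r hr
    have h1 := hUV q hq 1 (one_mem P) r (by rw [hV1]; exact hr)
    have h2 := hUV q hq p hpP (n * r⁻¹ * n⁻¹) (by rw [hVp]; exact conj_mem_conjBy (inv_mem hr))
    have e : U r = r * (n * r⁻¹ * n⁻¹) := by simp [U, shiftElem, mul_assoc]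
    rw [e, ← mul_assoc, h1, mul_assoc, h2, ← mul_assoc]
  have hTU : ∀ q ∈ P, ∀ r ∈ P, U q * T r * (U q)⁻¹ = T (q * r) := by
    intro q hq r hr
    change U q * (U r * a * (U r)⁻¹) * (U q)⁻¹ = U (q * r) * a * (U (q * r))⁻¹
    rw [show U (q * r) = U r * U q from shiftElem_mul hP hn hq hr, ← hUU q hq r hr]
    group
  have hmoveV : ∀ q ∈ P, ∀ r ∈ P, Cfsg.conjBy (V r) (T 1 * (T q)⁻¹) = V (q * r) := by
    intro q hq r hr
    have h1 : Cfsg.conjBy (V r) (U q) = V r := conjBy_of_commute fun z hz => hUV q hq r hr z hz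
    calc Cfsg.conjBy (V r) (T 1 * (T q)⁻¹) = Cfsg.conjBy (Cfsg.conjBy (V r) (U q)) (T 1 * (T q)⁻¹) := by rw [h1]
      _ = V (q * r) := by
        change Cfsg.conjBy (Cfsg.conjBy (Cfsg.conjBy P (T 1 * (T r)⁻¹)) (U q)) (T 1 * (T q)⁻¹) =
          Cfsg.conjBy P (T 1 * (T (q * r))⁻¹)
        have h3 : T 1 * (T q)⁻¹ * (U q * (T 1 * (T r)⁻¹)) = T 1 * (T (q * r))⁻¹ * U q := by
          rw [← hTU q hq r hr, hT1]
          change a * (U q * a * (U q)⁻¹)⁻¹ * _ = _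
          group
        have h4 : ∀ e : G, e = T 1 * (T (q * r))⁻¹ * U q →
            Cfsg.conjBy P e = Cfsg.conjBy P (T 1 * (T (q * r))⁻¹) := fun e he => by
          rw [he, ← conjBy_conjBy (U q), conjBy_of_commute (g := U q) fun z hz => hUc hq hz]
        rw [conjBy_conjBy, conjBy_conjBy]
        exact h4 _ (by rw [← h3]; group)
  -- the commutator commutes with every `U`
  set v := T 1 * (T y)⁻¹ with hv
  have hz : U w * (v * U x * v⁻¹) = (v * U x * v⁻¹) * U w := by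
    have e : v * U x * v⁻¹ = (v * x * v⁻¹) * (v * (n * x⁻¹ * n⁻¹) * v⁻¹) := by
      simp [U, shiftElem, mul_assoc]
    have m1 : v * x * v⁻¹ ∈ V (y * 1) := hmoveV y hy 1 (one_mem P) ▸ conj_mem_conjBy (hV1.symm ▸ hx)
    have m2 : v * (n * x⁻¹ * n⁻¹) * v⁻¹ ∈ V (y * p) :=
      hmoveV y hy p hpP ▸ conj_mem_conjBy (hVp.symm ▸ conj_mem_conjBy (inv_mem hx))
    rw [e, ← mul_assoc, hUV w hw _ (mul_mem hy (one_mem P)) _ m1, mul_assoc,
      hUV w hw _ (mul_mem hy hpP) _ m2, ← mul_assoc]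
  have hzv : U w * (U x * v * (U x)⁻¹ * v⁻¹) * (U w)⁻¹ = U x * v * (U x)⁻¹ * v⁻¹ := by
    have hinv : Commute (U w) (v * (U x)⁻¹ * v⁻¹) := by
      have : (v * U x * v⁻¹)⁻¹ = v * (U x)⁻¹ * v⁻¹ := by group
      exact this ▸ (show Commute (U w) (v * U x * v⁻¹) from hz).inv_right
    have := ((show Commute (U w) (U x) from hUU w hw x hx).mul_right hinv).eq
    rw [show U x * (v * (U x)⁻¹ * v⁻¹) = U x * v * (U x)⁻¹ * v⁻¹ by group] at this
    rw [this, mul_inv_cancel_right]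
  have hzT : U x * v * (U x)⁻¹ * v⁻¹ = T x * (T (x * y))⁻¹ * (T y * (T 1)⁻¹) := by
    rw [hv, show U x * (T 1 * (T y)⁻¹) * (U x)⁻¹ = (U x * T 1 * (U x)⁻¹) * (U x * T y * (U x)⁻¹)⁻¹ by group,
      hTU x hx 1 (one_mem P), hTU x hx y hy, mul_one, show (T 1 * (T y)⁻¹)⁻¹ = T y * (T 1)⁻¹ by group]
  rw [hzT, show U w * (T x * (T (x * y))⁻¹ * (T y * (T 1)⁻¹)) * (U w)⁻¹ =
    (U w * T x * (U w)⁻¹) * (U w * T (x * y) * (U w)⁻¹)⁻¹ * ((U w * T y * (U w)⁻¹) * (U w * T 1 * (U w)⁻¹)⁻¹) by group,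
    hTU w hw x hx, hTU w hw _ (mul_mem hx hy), hTU w hw y hy, hTU w hw 1 (one_mem P), mul_one] at hzv
  -- all translates other than `a` centralize `B`
  have hcent : ∀ q ∈ P, q ≠ 1 → T q * b = b * T q := fun q hq hq1 => by
    obtain ⟨h1, h2⟩ := shiftElem_left hp hA hnA hn hq
    exact commute_of_commutator_eq_bot (hM _ h1 (h2 hnne hq1)) (hTA q hq) hb
  have hmem : ∀ q ∈ P, q ≠ 1 → T q ∈ centralizer ({b} : Set G) := fun q hq hq1 =>
    mem_centralizer_singleton_iff.mpr (hcent q hq hq1)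
  have hsolve : T 1 = ((T x * (T (x * y))⁻¹ * T y)⁻¹ *
      (T (w * x) * (T (w * (x * y)))⁻¹ * (T (w * y) * (T w)⁻¹)))⁻¹ := by
    rw [hzv]; group
  have hin : T 1 ∈ centralizer ({b} : Set G) := by
    rw [hsolve]
    have e1 := hmem x hx hx1
    have e2 := hmem _ (mul_mem hx hy) hxy
    have e3 := hmem y hy hy1
    have e4 := hmem _ (mul_mem hw hx) (by rwa [hP w hw x hx])
    have e5 := hmem _ (mul_mem hw (mul_mem hx hy)) (by rwa [hP w hw _ (mul_mem hx hy)])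
    have e6 := hmem _ (mul_mem hw hy) (by rwa [hP w hw y hy])
    have e7 := hmem w hw hw1
    exact inv_mem (mul_mem (inv_mem (mul_mem (mul_mem e1 (inv_mem e2)) e3))
      (mul_mem (mul_mem e4 (inv_mem e5)) (mul_mem e6 (inv_mem e7))))
  rw [hT1] at hin
  exact mem_centralizer_singleton_iff.mp hin

/-- Three elements with all seven products non-trivial, unless the group has at most four elements. -/
theorem exists_triple {Q : Subgroup G} (hQ : ∀ x ∈ Q, ∀ y ∈ Q, x * y = y * x) (h3 : 3 < ENat.card Q) :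
    (∃ x ∈ Q, ∃ y ∈ Q, ∃ w ∈ Q, x ≠ 1 ∧ y ≠ 1 ∧ w ≠ 1 ∧ x * y ≠ 1 ∧ x * w ≠ 1 ∧ y * w ≠ 1 ∧ x * y * w ≠ 1) ∨
      ((∀ x ∈ Q, x * x = 1) ∧ ∃ x y : G, (Q : Set G) ⊆ {1, x, y, x * y}) := by
  classical
  by_cases hbig : ∃ x ∈ Q, x ≠ 1 ∧ x * x ≠ 1 ∧ x * x * x ≠ 1
  · obtain ⟨x, hx, h1, h2, h3'⟩ := hbig
    exact Or.inl ⟨x, hx, x, hx, x, hx, h1, h1, h1, h2, h2, h2, h3'⟩
  push Not at hbig
  have hnot : ∀ s : Finset G, s.card ≤ 3 → ∃ y ∈ Q, y ∉ s := by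
    intro s hs
    by_contra hno
    push Not at hno
    have hle : ENat.card Q ≤ ENat.card s := by
      exact ENat.card_le_card_of_injective (f := fun q : Q => (⟨q.1, hno q.1 q.2⟩ : s))
        fun q r h => Subtype.ext (congrArg (fun z : s => (z : G)) h)
    rw [ENat.card_eq_coe_fintype_card (α := s), Fintype.card_coe] at hle
    exact absurd (h3.trans_le (hle.trans (Nat.cast_le.mpr hs))) (lt_irrefl _)
  by_cases h2 : ∀ x ∈ Q, x * x = 1
  · by_cases hsmall : ∃ x y : G, (Q : Set G) ⊆ {1, x, y, x * y}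
    · exact Or.inr ⟨h2, hsmall⟩
    push Not at hsmall
    obtain ⟨x, hx, hx'⟩ := hnot {1} (by simp)
    obtain ⟨y, hy, hy'⟩ := hnot {1, x} ((Finset.card_insert_le _ _).trans (by simp))
    obtain ⟨w, hw, hw'⟩ := Set.not_subset.mp (hsmall x y)
    simp only [Finset.mem_singleton, Finset.mem_insert, not_or] at hx' hy'
    simp only [Set.mem_insert_iff, Set.mem_singleton_iff, not_or] at hw'
    have hinv : ∀ z ∈ Q, ∀ u : G, z * u = 1 → u = z := fun z hz u hu => by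
      rw [← inv_eq_of_mul_eq_one_right hu, inv_eq_of_mul_eq_one_right (h2 z hz)]
    refine Or.inl ⟨x, hx, y, hy, w, hw, hx', hy'.1, hw'.1, ?_, ?_, ?_, ?_⟩
    · exact fun h => hy'.2 (hinv x hx y h)
    · exact fun h => hw'.2.1 (hinv x hx w h)
    · exact fun h => hw'.2.2.1 (hinv y hy w h)
    · exact fun h => hw'.2.2.2 (hinv _ (mul_mem hx hy) w h)
  · push Not at h2
    obtain ⟨x, hx, hxx⟩ := h2
    have hx1 : x ≠ 1 := by rintro rfl; exact hxx (one_mul 1)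
    have hx3 := hbig x hx hx1 hxx
    obtain ⟨y, hy, hy'⟩ := hnot {1, x, x * x} (Finset.card_le_three)
    simp only [Finset.mem_singleton, Finset.mem_insert, not_or] at hy'
    refine Or.inl ⟨x, hx, y, hy, x, hx, hx1, hy'.1, hx1, ?_, hxx, ?_, ?_⟩
    · intro h
      exact hy'.2.2 (mul_left_cancel (h.trans (by rw [← mul_assoc, hx3]) : x * y = x * (x * x)))
    · intro h
      rw [hQ y hy x hx] at h
      exact hy'.2.2 (mul_left_cancel (h.trans (by rw [← mul_assoc, hx3]) : x * y = x * (x * x)))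
    · intro h
      rw [mul_assoc, hQ y hy x hx, ← mul_assoc] at h
      exact hy'.2.1 (mul_left_cancel (h.trans hx3.symm) : y = x)

theorem upper_map_card {k : Type*} [Field k] (φ : Matrix.SpecialLinearGroup (Fin 2) k →* G)
    (hk : φ.ker ≤ Subgroup.center _) {Q : Subgroup G} (hQ : (Cfsg.upperUnipotentSL2 k).map φ ≤ Q) :
    ENat.card k ≤ ENat.card Q := by
  refine ENat.card_le_card_of_injective
    (f := fun t : k => (⟨φ (Cfsg.Agent.Lib.QuadPair.xU t), hQ ⟨_, mem_upper.mpr ⟨t, rfl⟩, rfl⟩⟩ : Q))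
    fun s t h => ?_
  have h' : φ (Cfsg.Agent.Lib.QuadPair.xU s) = φ (Cfsg.Agent.Lib.QuadPair.xU t) := congrArg Subtype.val h
  have hm : (Cfsg.Agent.Lib.QuadPair.xU s)⁻¹ * Cfsg.Agent.Lib.QuadPair.xU t ∈ φ.ker := by
    rw [MonoidHom.mem_ker, map_mul, map_inv, h', inv_mul_cancel]
  rw [← Cfsg.Agent.Lib.QuadPair.xU_neg, ← Cfsg.Agent.Lib.QuadPair.xU_add] at hm
  have h01 := (central_entries (hk hm)).1
  simp [Cfsg.Agent.Lib.QuadPair.coe_xU] at h01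
  exact neg_add_eq_zero.mp h01

theorem lower_map_card {k : Type*} [Field k] (φ : Matrix.SpecialLinearGroup (Fin 2) k →* G)
    (hk : φ.ker ≤ Subgroup.center _) {Q : Subgroup G} (hQ : (Cfsg.lowerUnipotentSL2 k).map φ ≤ Q) :
    ENat.card k ≤ ENat.card Q := by
  refine ENat.card_le_card_of_injective
    (f := fun t : k => (⟨φ (Cfsg.Agent.Lib.QuadPair.yL t), hQ ⟨_, mem_lower.mpr ⟨t, rfl⟩, rfl⟩⟩ : Q))
    fun s t h => ?_
  have h' : φ (Cfsg.Agent.Lib.QuadPair.yL s) = φ (Cfsg.Agent.Lib.QuadPair.yL t) := congrArg Subtype.val h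
  have hm : (Cfsg.Agent.Lib.QuadPair.yL s)⁻¹ * Cfsg.Agent.Lib.QuadPair.yL t ∈ φ.ker := by
    rw [MonoidHom.mem_ker, map_mul, map_inv, h', inv_mul_cancel]
  rw [← Cfsg.Agent.Lib.QuadPair.yL_neg, ← Cfsg.Agent.Lib.QuadPair.yL_add] at hm
  have h10 := (central_entries (hk hm)).2
  simp [Cfsg.Agent.Lib.QuadPair.coe_yL] at h10
  exact neg_add_eq_zero.mp h10

theorem pairs_special {G : Type u} [Group G] {S : Set (Subgroup G)} (hS : Cfsg.IsRootSubgroupClass S)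
    (hcomm : ∃ A ∈ S, ∃ C ∈ S, A ≠ C ∧ ⁅A, C⁆ = ⊥)
    (hH : Cfsg.IsDegenerateRootSet S → (∀ A ∈ S, ∀ a ∈ A, 0 < orderOf a ∧ orderOf a ≤ 3) →
      ∀ A ∈ S, ∀ B ∈ Cfsg.rankOnePartners S A, ∃ A₀ B₀ : Subgroup G, A₀ ≤ A ∧ B₀ ≤ B ∧
        ∃ (k : Type u) (_ : Field k), 3 < ENat.card k ∧ Cfsg.IsPSL2PairOver k A₀ B₀)
    {A B : Subgroup G} (hA : A ∈ S) (hB : B ∈ S) (hAB : Cfsg.IsRankOnePair A B) :
    Cfsg.IsSpecialRankOnePair A B := by
  have hF := class_partners hS hA hB hAB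
  obtain ⟨A₁, hA₁, C₁, hC₁, hne₁, hc₁⟩ := hcomm
  by_cases hdeg : Cfsg.IsDegenerateRootSet S
  swap
  · have hnd : Cfsg.IsNondegenerateRootSet S := by
      refine ⟨⟨A₁, hA₁, C₁, hC₁, hne₁, hc₁⟩, ⟨A, hA, B, hB, hAB⟩, ?_⟩
      by_contra hno
      exact hdeg fun X hX Y hY h => hno ⟨X, hX, Y, hY, h⟩
    obtain ⟨L, hL⟩ := exists_linePartner hS hnd hA
    obtain ⟨M, hM, -, hE, -, -⟩ := line_member hS.1 hF hA hL hB hAB
    exact special_of_chain hS.1 hF hA hB hM.1.1 hAB hM.1.2.2 hE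
  have hab : ∀ X ∈ S, ∀ x ∈ X, ∀ y ∈ X, x * y = y * x := fun X hX x hx y hy => comm_of_mem hS.1 hX hx hy
  obtain ⟨C₀, hC₀, hAC₀, hne₀⟩ : ∃ C ∈ S, ⁅A, C⁆ = ⊥ ∧ A ≠ C := by
    obtain ⟨g, rfl⟩ := hS.2.2 A₁ hA₁ A hA
    exact ⟨_, hS.1.conj_mem C₁ hC₁ g, by rw [← conjBy_commutator, hc₁, conjBy_eq_bot],
      fun h => hne₁ (conjBy_injective g h)⟩
  by_cases hgood : ∃ D ∈ S, ⁅A, D⁆ = ⊥ ∧ A ≠ D ∧ Cfsg.IsRankOnePair D B
  · obtain ⟨D, hD, hAD, hne, hDB⟩ := hgood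
    obtain ⟨b, hb, hb1⟩ := exists_ne_one_left (Cfsg.RankOnePair_symm hAB)
    obtain ⟨a, ha, -, hae⟩ := hAB.cond_right b hb hb1
    obtain ⟨d, hd, -, hde⟩ := hDB.cond_right b hb hb1
    obtain ⟨h1, h2, h3⟩ := exists_shift hAD (hab A hA) hne ha hd hae hde
    exact special_of_shift hAB (hab A hA) (hab B hB) h1 h2 h3
  push Not at hgood
  have hM : ∀ g : G, ⁅A, Cfsg.conjBy A g⁆ = ⊥ → Cfsg.conjBy A g ≠ A → ⁅Cfsg.conjBy A g, B⁆ = ⊥ := fun g h1 (h2 : Cfsg.conjBy A g ≠ A) =>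
    commutator_eq_bot_of_not_pair hS.1 hdeg (hS.1.conj_mem A hA g) hB
      (hgood _ (hS.1.conj_mem A hA g) h1 h2.symm)
  obtain ⟨C, hC, hAC, hne, P, hP, hCP, hAP⟩ : ∃ C ∈ S, ⁅A, C⁆ = ⊥ ∧ A ≠ C ∧ ∃ P ∈ S,
      Cfsg.IsRankOnePair C P ∧ Cfsg.IsRankOnePair A P := by
    by_contra hno
    push Not at hno
    have hconn : Cfsg.IsConnectedFamily (Cfsg.FAdj S) S :=
      (connected_iff hS.1 ⟨A₁, hA₁, C₁, hC₁, hne₁⟩).mpr ⟨hS.2, A, hA, fun hi => (hi.2 B).1 ⟨hA, hB, hAB⟩⟩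
    have key : ∀ {E : Subgroup G}, Relation.ReflTransGen (Cfsg.FAdj S) C₀ E → ⁅A, E⁆ = ⊥ ∧ A ≠ E := by
      intro E hE
      induction hE with
      | refl => exact ⟨hAC₀, hne₀⟩
      | @tail X Y _ hXY ih =>
        refine ⟨commutator_eq_bot_of_not_pair hS.1 hdeg hA hXY.2.1
          (hno X hXY.1 ih.1 ih.2 Y hXY.2.1 hXY.2.2), ?_⟩
        rintro rfl
        exact not_pair_of_bot (by rw [Subgroup.commutator_comm]; exact ih.1) hXY.2.2
    exact (key (hconn C₀ hC₀ A hA)).2 rfl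
  have htri : ∀ x ∈ P, ∀ y ∈ P, ∀ w ∈ P, x ≠ 1 → y ≠ 1 → w ≠ 1 → x * y ≠ 1 → x * w ≠ 1 → y * w ≠ 1 →
      x * y * w ≠ 1 → False := fun x hx y hy w hw h1 h2 h3 h4 h5 h6 h7 =>
    tri_false hAP hCP (hab A hA) (hab P hP) hAC hne hAB hM hx hy hw h1 h2 h3 h4 h5 h6 h7
  have hord : ∀ X ∈ S, ∀ x ∈ X, 0 < orderOf x ∧ orderOf x ≤ 3 := by
    intro X hX x hx
    obtain ⟨g, hg⟩ := hS.2.2 X hX P hP
    have hxP : g * x * g⁻¹ ∈ P := hg ▸ conj_mem_conjBy hx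
    suffices h : x = 1 ∨ x ^ 2 = 1 ∨ x ^ 3 = 1 by
      rcases h with rfl | h | h
      · simp
      · exact ⟨orderOf_pos_iff.mpr (isOfFinOrder_iff_pow_eq_one.mpr ⟨2, by norm_num, h⟩),
          (Nat.le_of_dvd (by norm_num) (orderOf_dvd_of_pow_eq_one h)).trans (by norm_num)⟩
      · exact ⟨orderOf_pos_iff.mpr (isOfFinOrder_iff_pow_eq_one.mpr ⟨3, by norm_num, h⟩),
          Nat.le_of_dvd (by norm_num) (orderOf_dvd_of_pow_eq_one h)⟩
    by_contra hno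
    push Not at hno
    obtain ⟨h1, h2, h3⟩ := hno
    set q := g * x * g⁻¹
    have e1 : q ≠ 1 := fun h => h1 (conj_eq_one_iff.mp h)
    have e2 : q * q ≠ 1 := fun h => h2 (conj_eq_one_iff.mp ((show g * x ^ 2 * g⁻¹ = q * q by
      simp [q, pow_two, mul_assoc]).trans h))
    have e3 : q * q * q ≠ 1 := fun h => h3 (conj_eq_one_iff.mp ((show g * x ^ 3 * g⁻¹ = q * q * q by
      simp [q, pow_succ, mul_assoc]).trans h))
    exact htri q hxP q hxP q hxP e1 e1 e1 e2 e2 e2 e3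
  obtain ⟨A₀, B₀, hA₀, hB₀, k, ik, hk3, φ, hr, hker, hmA, hmB⟩ := hH hdeg hord A hA B ⟨hB, hAB⟩
  have hcard : ∀ X ∈ S, 3 < ENat.card X → ∃ x y : G, (X : Set G) ⊆ {1, x, y, x * y} := by
    intro X hX h3
    rcases exists_triple (hab X hX) h3 with ⟨x, hx, y, hy, w, hw, h1, h2, h3', h4, h5, h6, h7⟩ | ⟨-, h⟩
    · obtain ⟨g, hg⟩ := hS.2.2 X hX P hP
      have hm : ∀ z ∈ X, g * z * g⁻¹ ∈ P := fun z hz => hg ▸ conj_mem_conjBy hz
      have hne : ∀ z : G, z ≠ 1 → g * z * g⁻¹ ≠ 1 := fun z hz h => hz (conj_eq_one_iff.mp h)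
      refine (htri _ (hm x hx) _ (hm y hy) _ (hm w hw) (hne _ h1) (hne _ h2) (hne _ h3') ?_ ?_ ?_ ?_).elim
      · exact fun h => hne _ h4 (by rw [← h]; group)
      · exact fun h => hne _ h5 (by rw [← h]; group)
      · exact fun h => hne _ h6 (by rw [← h]; group)
      · exact fun h => hne _ h7 (by rw [← h]; group)
    · exact h
  have heq : ∀ X ∈ S, ∀ X₀ : Subgroup G, X₀ ≤ X → 3 < ENat.card X₀ → X₀ = X := by
    intro X hX X₀ hle h3
    obtain ⟨x, y, hsub⟩ := hcard X hX (h3.trans_le (ENat.card_le_card_of_injective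
      (f := Subgroup.inclusion hle) (Subgroup.inclusion_injective hle)))
    refine le_antisymm hle fun z hz => ?_
    by_contra hz0
    classical
    have h4 : ({1, x, y, x * y} : Finset G).card ≤ 4 := Finset.card_le_four
    have hzm : z ∈ ({1, x, y, x * y} : Finset G) := by simpa using hsub hz
    have hsub0 : ∀ t : X₀, (t : G) ∈ ({1, x, y, x * y} : Finset G).erase z := fun t =>
      Finset.mem_erase.mpr ⟨fun h => hz0 (h ▸ t.2), by simpa using hsub (hle t.2)⟩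
    have hle' := ENat.card_le_card_of_injective (f := fun t : X₀ => (⟨t.1, hsub0 t⟩ : ↥(({1, x, y, x * y} : Finset G).erase z)))
      fun s t h => Subtype.ext (congrArg (fun z : ↥(({1, x, y, x * y} : Finset G).erase _) => (z : G)) h)
    rw [ENat.card_eq_coe_fintype_card (α := ↥(({1, x, y, x * y} : Finset G).erase z)), Fintype.card_coe,
      Finset.card_erase_of_mem hzm] at hle'
    have h5 := h3.trans_le hle'
    rw [Nat.ofNat_lt_cast] at h5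
    omega
  have e1 : A₀ = A := heq A hA A₀ hA₀ (hk3.trans_le (upper_map_card φ hker hmA.le))
  have e2 : B₀ = B := heq B hB B₀ hB₀ (hk3.trans_le (lower_map_card φ hker hmB.le))
  rw [← e1, ← e2, ← hmA, ← hmB]
  exact isSpecial_of_hom hker

end Cfsg.Agent.Lib.RootSub
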