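import Cfsg.Prelude.Def_RootSubgroups

/-!
Root involutions: triples `a, b, a * b` of commuting members.
-/

set_option autoImplicit false

namespace Cfsg.Agent.Lib.RootSub

variable {G : Type*} [Group G] {D : Set G}

theorem rinv_sq (hD : Cfsg.IsRootInvolutionSet D) {a : G} (ha : a ∈ D) : a * a = 1 := by
  rw [← pow_two, ← hD.orderOf_eq a ha]; exact pow_orderOf_eq_one a

theorem rinv_inv (hD : Cfsg.IsRootInvolutionSet D) {a : G} (ha : a ∈ D) : a⁻¹ = a :=
  inv_eq_of_mul_eq_one_right (rinv_sq hD ha)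

theorem rinv_cancel (hD : Cfsg.IsRootInvolutionSet D) {a : G} (ha : a ∈ D) (x : G) : a * (a * x) = x := by
  rw [← mul_assoc, rinv_sq hD ha, one_mul]

theorem rinv_cancel' (hD : Cfsg.IsRootInvolutionSet D) {a : G} (ha : a ∈ D) (x : G) : x * a * a = x := by
  rw [mul_assoc, rinv_sq hD ha, mul_one]

theorem rinv_conj (hD : Cfsg.IsRootInvolutionSet D) {a x : G} (ha : a ∈ D) (hx : x ∈ D) : x * a * x ∈ D := by
  have := hD.conj_mem a ha x
  rwa [rinv_inv hD hx] at this

theorem rinv_order_comm (a b : G) : orderOf (a * b) = orderOf (b * a) := by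
  rw [← (MulAut.conj b).orderOf_eq (a * b)]
  simp [mul_assoc]

theorem eq_one_of_odd {g : G} (ho : Odd (orderOf g)) {k : ℕ} (h : g ^ (2 ^ k) = 1) : g = 1 := by
  rw [← orderOf_eq_one_iff]
  exact Nat.eq_one_of_dvd_coprimes (Nat.Coprime.pow_right k ((Nat.coprime_two_right).mpr ho)) dvd_rfl
    (orderOf_dvd_of_pow_eq_one h)

/-- Commuting members with product of odd order are equal. -/
theorem rinv_eq_of_commute_odd (hD : Cfsg.IsRootInvolutionSet D) {a b : G} (ha : a ∈ D) (hb : b ∈ D)
    (hc : a * b = b * a) (ho : Odd (orderOf (a * b))) : a = b := by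
  have h : a * b = 1 := eq_one_of_odd ho (k := 1) (by
    rw [pow_one, pow_two]
    nth_rewrite 2 [hc]
    rw [mul_assoc, rinv_cancel hD hb, rinv_sq hD ha])
  rw [mul_eq_one_iff_eq_inv, rinv_inv hD hb] at h
  exact h

/-- Members with product of order four: the square commutes with both. -/
theorem rinv_four (hD : Cfsg.IsRootInvolutionSet D) {a b : G} (ha : a ∈ D) (hb : b ∈ D)
    (h : orderOf (a * b) = 4) :
    (a * b) ^ 2 ∈ D ∧ a * (a * b) ^ 2 = b * a * b ∧ a * (a * b) ^ 2 = (a * b) ^ 2 * a ∧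
      b * (a * b) ^ 2 = (a * b) ^ 2 * b ∧ a * b ≠ b * a := by
  have hne : a * b ≠ b * a := fun e => by
    have h2 : (a * b) ^ 2 = 1 := by
      rw [pow_two]
      nth_rewrite 2 [e]
      rw [mul_assoc, rinv_cancel hD hb, rinv_sq hD ha]
    have := orderOf_dvd_of_pow_eq_one h2
    rw [h] at this
    norm_num at this
  have h4 : (a * b) ^ 2 = (b * a) ^ 2 := by
    have h4 : (a * b) ^ 4 = 1 := h ▸ pow_orderOf_eq_one (a * b)
    have : (a * b) ^ 2 * (a * b) ^ 2 = 1 := by rw [← pow_add]; exact h4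
    rw [← inv_eq_of_mul_eq_one_right this, ← inv_pow, mul_inv_rev, rinv_inv hD ha, rinv_inv hD hb]
  have hz : (a * b) ^ 2 ∈ D := by
    rcases hD.pair a ha b hb with e | e | e
    · exact absurd e hne
    · rw [h] at e; exact absurd e (by decide)
    · exact e.2
  have e1 : a * (a * b) ^ 2 = b * a * b := by
    rw [pow_two, mul_assoc a b, rinv_cancel hD ha, mul_assoc]
  refine ⟨hz, e1, ?_, ?_, hne⟩
  · rw [e1, h4, pow_two]
    simp [mul_assoc, rinv_sq hD ha]
  · conv_lhs => rw [h4]
    rw [pow_two, pow_two, mul_assoc b a, rinv_cancel hD hb]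
    simp [mul_assoc, rinv_sq hD hb]

theorem rinv_four_of (hD : Cfsg.IsRootInvolutionSet D) {a b : G} (ha : a ∈ D) (hb : b ∈ D)
    (hne : a * b ≠ b * a) (ho : ¬ Odd (orderOf (a * b))) : orderOf (a * b) = 4 := by
  rcases hD.pair a ha b hb with e | e | e
  · exact absurd e hne
  · exact absurd e ho
  · exact e.1

/-- An element commuting with `a` has odd product with `b` only if it is `b`. -/
theorem rinv_commute_odd (hD : Cfsg.IsRootInvolutionSet D) {a b x : G} (ha : a ∈ D) (hb : b ∈ D)
    (hab : a * b = b * a) (habD : a * b ∈ D) (hx : x ∈ D) (hxa : x * a = a * x)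
    (ho : Odd (orderOf (x * b))) : x = b := by
  by_contra hne
  have hn1 : x * b ≠ 1 := fun e => hne (by rwa [mul_eq_one_iff_eq_inv, rinv_inv hD hb] at e)
  have hcomm : Commute (x * b) a := by
    show x * b * a = a * (x * b)
    rw [mul_assoc, ← hab, ← mul_assoc, hxa, mul_assoc]
  have e : x * (a * b) = x * b * a := by rw [hab, mul_assoc]
  have hcop : Nat.Coprime (orderOf (x * b)) (orderOf a) := by
    rw [hD.orderOf_eq a ha]; exact Nat.coprime_two_right.mpr ho
  have hord : orderOf (x * (a * b)) = orderOf (x * b) * 2 := by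
    rw [e, hcomm.orderOf_mul_eq_mul_orderOf_of_coprime hcop, hD.orderOf_eq a ha]
  rcases hD.pair x hx _ habD with h | h | h
  · exact hne (rinv_eq_of_commute_odd hD hx hb (by
      have h' : x * b * a = b * x * a := by
        rw [← e, h, hab, mul_assoc, ← hxa, mul_assoc]
      exact mul_right_cancel h') ho)
  · rw [hord] at h
    exact absurd h (by rw [Nat.odd_mul]; exact fun hh => absurd hh.2 (by decide))
  · rw [hord] at h
    have : orderOf (x * b) = 2 := by omega
    rw [this] at ho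
    exact absurd ho (by decide)

/-- No member has odd product with exactly one of `a, b, a * b`. -/
theorem rinv_pattern (hD : Cfsg.IsRootInvolutionSet D) {a b x : G} (ha : a ∈ D) (hb : b ∈ D)
    (hab : a * b = b * a) (habD : a * b ∈ D) (hx : x ∈ D) (hne : x ≠ a)
    (ho : Odd (orderOf (a * x))) (h4 : orderOf (x * b) = 4) (h4' : orderOf (x * (a * b)) = 4) : False := by
  obtain ⟨hz, hzeq, hxz, hbz, hnb⟩ := rinv_four hD hx hb h4
  obtain ⟨c, hc⟩ : ∃ c, c = a * b := ⟨_, rfl⟩
  rw [← hc] at habD h4'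
  obtain ⟨hz', hz'eq, hxz', hcz', hnc⟩ := rinv_four hD hx habD h4'
  set z := (x * b) ^ 2 with hzdef
  set z' := (x * c) ^ 2 with hz'def
  have hax : a * x ≠ x * a := fun e => hne (rinv_eq_of_commute_odd hD ha hx e ho).symm
  have hbc : b * c = a := by rw [hc, hab, rinv_cancel hD hb]
  have hac : a * c = c * a := by rw [hc, ← mul_assoc, mul_assoc a b a, ← hab, ← mul_assoc]
  have xbx : x * b * x = b * z := by
    rw [hbz, hzdef, pow_two]
    simp [mul_assoc, rinv_sq hD hb]
  have xcx : x * c * x = c * z' := by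
    rw [hcz', hz'def, pow_two]
    simp [mul_assoc, rinv_sq hD habD]
  -- `x a x = z a z'`
  have hkey : x * a * x = z * a * z' := by
    calc x * a * x = x * (b * c) * x := by rw [hbc]
      _ = (x * b * x) * (x * c * x) := by simp [mul_assoc, rinv_cancel hD hx]
      _ = (b * z) * (c * z') := by rw [xbx, xcx]
      _ = z * (b * c) * z' := by rw [hbz]; simp [mul_assoc]
      _ = _ := by rw [hbc]
  have hkey' : z * a * z' = z' * a * z := by
    have e : (x * a * x)⁻¹ = x * a * x := by simp [mul_assoc, rinv_inv hD hx, rinv_inv hD ha]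
    have e2 : z * a * z' = (z * a * z')⁻¹ := by rw [← hkey]; exact e.symm
    rw [e2]
    simp [mul_assoc, rinv_inv hD hz, rinv_inv hD hz', rinv_inv hD ha]
  -- `z` and `a` have product of order four
  have hzb : (b * z) ∈ D := by rw [← xbx]; exact rinv_conj hD hb hx
  have hz'c : (c * z') ∈ D := by rw [← xcx]; exact rinv_conj hD habD hx
  have hanz : a ≠ z := fun e => hax (by rw [e]; exact hxz.symm)
  have hza : a * z ≠ z * a := by
    intro e
    -- then `b` commutes with `a` and `x a x`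
    have h1 : b * (x * a * x) = (x * a * x) * b := by
      have h2 : a * (b * z) = (b * z) * a := by rw [← mul_assoc, hab, mul_assoc, e, mul_assoc]
      calc b * (x * a * x) = x * ((x * b * x) * a) * x := by simp [mul_assoc, rinv_cancel hD hx]
        _ = x * (a * (x * b * x)) * x := by rw [xbx, h2]
        _ = (x * a * x) * b := by simp [mul_assoc, rinv_sq hD hx]
    have h3 : Commute b ((a * x) ^ 2) := by
      rw [pow_two, show a * x * (a * x) = a * (x * a * x) by simp [mul_assoc]]
      exact Commute.mul_right hab.symm h1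
    obtain ⟨k, hk⟩ := ho
    have h4'' : Commute b (a * x) := by
      have h5 : ((a * x) ^ 2) ^ (k + 1) = a * x := by
        rw [← pow_mul, show 2 * (k + 1) = orderOf (a * x) + 1 by omega, pow_succ, pow_orderOf_eq_one, one_mul]
      rw [← h5]; exact h3.pow_right _
    apply hnb
    have h6 : b * x = x * b := by
      have := Commute.mul_right (show Commute b a from hab.symm) h4''
      rwa [rinv_cancel hD ha] at this
    exact h6.symm
  have hzao : orderOf (z * a) = 4 := by
    refine rinv_four_of hD hz ha (Ne.symm hza) fun e => hanz ?_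
    rw [rinv_order_comm] at e
    exact rinv_commute_odd hD hb hz hbz hzb ha hab e
  obtain ⟨hw, hweq, hwz, hwa, -⟩ := rinv_four hD hz ha hzao
  set w := (z * a) ^ 2 with hwdef
  -- `R = z w z'` is the square of `a x`
  have hR : (a * x) ^ 2 = z * w * z' := by
    rw [hweq, pow_two, show a * x * (a * x) = a * (x * a * x) by simp [mul_assoc], hkey]
    simp [mul_assoc]
  have hfin : (z * w * z') ^ 4 = 1 → False := by
    intro e
    rw [← hR, ← pow_mul] at e
    have := eq_one_of_odd ho (k := 3) (by simpa using e)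
    rw [mul_eq_one_iff_eq_inv, rinv_inv hD hx] at this
    exact hne this.symm
  -- `g = z' z z'` and `h = a z a` commute
  set g := z' * z * z' with hg
  set h := a * z * a with hh
  have hgD : g ∈ D := rinv_conj hD hz hz'
  have hhD : h ∈ D := rinv_conj hD hz ha
  have hzh : z * w = h := by rw [hweq, hh]
  have hhz : z * h = h * z := by rw [← hzh, mul_assoc z w z, ← hwz, ← mul_assoc]
  have hgh : g * h = (z' * a) ^ 2 := by
    calc g * h = z' * z * (z' * a * z) * a := by simp [hg, hh, mul_assoc]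
      _ = z' * z * (z * a * z') * a := by rw [hkey']
      _ = _ := by simp [pow_two, mul_assoc, rinv_cancel hD hz]
  by_cases hzz' : z = z'
  · apply hfin
    rw [← hzz', hwz, rinv_cancel' hD hz, show (4 : ℕ) = 2 * 2 from rfl, pow_mul, pow_two w, rinv_sq hD hw,
      one_pow]
  -- the order of `z' a`
  have hz'a : a * z' ≠ z' * a := by
    intro e
    have hghe : g * h = 1 := by
      rw [hgh, pow_two]
      nth_rewrite 2 [← e]
      rw [mul_assoc, rinv_cancel hD ha, rinv_sq hD hz']
    rw [mul_eq_one_iff_eq_inv, rinv_inv hD hhD, ← hzh] at hghe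
    -- `z' z z' = z w`
    apply hfin
    have e1 : z * w * z' = z' * z := by rw [← hghe, hg, rinv_cancel' hD hz']
    have e2 : (z' * z) ^ 2 = w := by
      rw [pow_two, show z' * z * (z' * z) = (z' * z * z') * z by simp [mul_assoc], ← hg, hghe, hwz,
        rinv_cancel' hD hz]
    rw [e1, show (4 : ℕ) = 2 * 2 from rfl, pow_mul, e2, pow_two, rinv_sq hD hw]
  have hz'ao : orderOf (z' * a) = 4 := by
    refine rinv_four_of hD hz' ha (Ne.symm hz'a) fun e => hax ?_
    rw [rinv_order_comm] at e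
    rw [rinv_commute_odd hD habD hz' hcz' hz'c ha hac e]
    exact hxz'.symm
  have hw' : (z' * a) ^ 2 ∈ D := (rinv_four hD hz' ha hz'ao).1
  have hghD : g * h ∈ D := hgh ▸ hw'
  have hghc : g * h = h * g := by
    have := rinv_inv hD hghD
    rw [mul_inv_rev, rinv_inv hD hgD, rinv_inv hD hhD] at this
    exact this.symm
  have hnodd : ¬ Odd (orderOf (z * z')) := by
    intro e
    have hgz : Odd (orderOf (z * g)) := by
      rw [show z * g = (z * z') ^ 2 by simp [hg, pow_two, mul_assoc],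
        Nat.Coprime.orderOf_pow (Nat.coprime_two_right.mpr e)]
      exact e
    have hzg := rinv_commute_odd hD hhD hgD hghc.symm (hghc ▸ hghD) hz hhz hgz
    apply hzz'
    refine rinv_eq_of_commute_odd hD hz hz' ?_ e
    conv_lhs => rw [hzg, hg, rinv_cancel' hD hz']
  have q04 : (z * z') ^ 4 = 1 := by
    rcases hD.pair z hz z' hz' with e | e | e
    · rw [show (4 : ℕ) = 2 * 2 from rfl, pow_mul, pow_two (z * z')]
      nth_rewrite 2 [e]
      rw [mul_assoc, rinv_cancel hD hz', rinv_sq hD hz, one_pow]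
    · exact absurd e hnodd
    · rw [← e.1]; exact pow_orderOf_eq_one _
  set q₀ := (z * z') ^ 2 with hq₀
  have q₀sq : q₀ * q₀ = 1 := by rw [hq₀, ← pow_add]; exact q04
  have hswap : z * z' = q₀ * (z' * z) := by
    rw [hq₀, pow_two]
    simp [mul_assoc, rinv_sq hD hz, rinv_cancel hD hz']
  have hq₀' : q₀ = (z' * z) ^ 2 := by
    have := inv_eq_of_mul_eq_one_right q₀sq
    rw [hq₀, ← inv_pow, mul_inv_rev, rinv_inv hD hz, rinv_inv hD hz'] at this
    exact hq₀ ▸ this.symm
  have q₀z : q₀ * z = z * q₀ := by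
    conv_rhs => rw [hq₀']
    rw [hq₀, pow_two, pow_two]
    simp [mul_assoc]
  have q₀z' : q₀ * z' = z' * q₀ := by
    conv_lhs => rw [hq₀']
    rw [hq₀, pow_two, pow_two]
    simp [mul_assoc]
  have hgq : g = q₀ * z := by
    rw [hq₀', hg, pow_two]
    simp [mul_assoc, rinv_sq hD hz]
  have hgz : g * z = z * g := by rw [hgq, ← mul_assoc z q₀ z, ← q₀z]
  have hgw : g * w = w * g := by
    have e : w = z * h := by rw [← hzh, rinv_cancel hD hz]
    rw [e, ← mul_assoc, hgz, mul_assoc, hghc, ← mul_assoc]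
  have hq₀w : q₀ * w = w * q₀ := by
    have e : q₀ = g * z := by rw [hgq, rinv_cancel' hD hz]
    rw [e, mul_assoc, hwz, ← mul_assoc, hgw, mul_assoc]
  -- `z'` and `w`
  have hwz'4 : (w * z') ^ 4 = 1 := by
    rcases hD.pair w hw z' hz' with e | e | e
    · rw [show (4 : ℕ) = 2 * 2 from rfl, pow_mul, pow_two (w * z')]
      nth_rewrite 2 [e]
      rw [mul_assoc, rinv_cancel hD hz', rinv_sq hD hw, one_pow]
    · have hwc : w * c = c * w := by
        have hwb : Commute w b := by
          rw [hwdef]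
          exact (Commute.mul_left (show Commute z b from hbz.symm) (show Commute a b from hab)).pow_left 2
        rw [hc]
        exact Commute.mul_right (show Commute w a from hwa.symm) hwb
      have := rinv_commute_odd hD habD hz' hcz' hz'c hw hwc e
      rw [this, rinv_sq hD hz', one_pow]
    · rw [← e.1]; exact pow_orderOf_eq_one _
  set q₁ := (w * z') ^ 2 with hq₁
  have q₁sq : q₁ * q₁ = 1 := by rw [hq₁, ← pow_add]; exact hwz'4
  apply hfin
  have hR2 : (z * w * z') ^ 2 = q₀ * q₁ := by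
    have hz'z : z' * z = q₀ * (z * z') := by rw [hswap, ← mul_assoc, q₀sq, one_mul]
    calc (z * w * z') ^ 2 = z * w * (z' * z) * w * z' := by simp [pow_two, mul_assoc]
      _ = z * (w * q₀) * (z * z') * w * z' := by rw [hz'z]; simp [mul_assoc]
      _ = (z * q₀) * (w * z) * z' * w * z' := by rw [← hq₀w]; simp [mul_assoc]
      _ = (q₀ * z) * (z * w) * z' * w * z' := by rw [← q₀z, ← hwz]
      _ = _ := by simp [hq₁, pow_two, mul_assoc, rinv_cancel hD hz]
  rw [show (4 : ℕ) = 2 * 2 from rfl, pow_mul, hR2, pow_two]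
  have hc01 : q₀ * q₁ = q₁ * q₀ := by
    rw [hq₁]
    exact (Commute.mul_right (show Commute q₀ w from hq₀w) (show Commute q₀ z' from q₀z')).pow_right 2
  calc q₀ * q₁ * (q₀ * q₁) = q₀ * (q₁ * q₀) * q₁ := by simp [mul_assoc]
    _ = q₀ * (q₀ * q₁) * q₁ := by rw [hc01]
    _ = q₀ * q₀ * (q₁ * q₁) := by simp [mul_assoc]
    _ = 1 := by rw [q₀sq, q₁sq, one_mul]

theorem oddAdj_symm {a b : G} (h : Cfsg.OddAdj D a b) : Cfsg.OddAdj D b a :=
  ⟨h.2.1, h.1, h.2.2.1.symm, by rw [rinv_order_comm]; exact h.2.2.2⟩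

/-- An odd partner of `a` is an odd partner of `b` or of `a * b`. -/
theorem rinv_split (hD : Cfsg.IsRootInvolutionSet D) {a b x : G} (hb : b ∈ D) (hab : a * b = b * a)
    (habD : a * b ∈ D) (h : Cfsg.OddAdj D a x) : Cfsg.OddAdj D b x ∨ Cfsg.OddAdj D (a * b) x := by
  obtain ⟨ha, hx, hne, ho⟩ := h
  have hcaD : b * a ∈ D := hab ▸ habD
  have hab' : b * (a * b) = a := by rw [hab, rinv_cancel hD hb]
  have hcb : (a * b) * b = a := rinv_cancel' hD hb a
  have ho' : Odd (orderOf (x * a)) := by rwa [rinv_order_comm]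
  have nC : ∀ {p : G}, p ∈ D → p * a = a * p → p * a ∈ D → x * p ≠ p * x := fun hp e hpD e' =>
    hne (rinv_commute_odd hD hp ha e hpD hx e' ho').symm
  have nb : x ≠ b := fun e => nC hb hab.symm hcaD (e ▸ rfl)
  have hca : (a * b) * a = a * (a * b) := by
    rw [mul_assoc, ← hab]
  have hcaD' : (a * b) * a ∈ D := by rw [hca, rinv_cancel hD ha]; exact hb
  have nc : x ≠ a * b := fun e => nC habD hca hcaD' (e ▸ rfl)
  by_contra hno
  push Not at hno
  obtain ⟨h1, h2⟩ := hno
  have o1 : ¬ Odd (orderOf (x * b)) := fun e => h1 ⟨hb, hx, nb.symm, by rwa [rinv_order_comm]⟩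
  have o2 : ¬ Odd (orderOf (x * (a * b))) := fun e => h2 ⟨habD, hx, nc.symm, by rwa [rinv_order_comm]⟩
  exact rinv_pattern hD ha hb hab habD hx hne.symm ho (rinv_four_of hD hx hb (nC hb hab.symm hcaD) o1)
    (rinv_four_of hD hx habD (nC habD hca hcaD') o2)

theorem exists_conj_of_odd (hD : Cfsg.IsRootInvolutionSet D) {a b : G} (ha : a ∈ D) (hb : b ∈ D)
    (ho : Odd (orderOf (a * b))) : ∃ g : G, g * a * g⁻¹ = b := by
  obtain ⟨k, hk⟩ := ho
  refine ⟨(a * b) ^ k, ?_⟩
  have hinvr : ∀ j : ℕ, a * ((a * b) ^ j)⁻¹ = (a * b) ^ j * a := by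
    intro j
    induction j with
    | zero => simp
    | succ j ih =>
      have hback : ((a * b) ^ (j + 1))⁻¹ = ((a * b) ^ j)⁻¹ * (b * a) := by
        rw [pow_succ', mul_inv_rev, mul_inv_rev, rinv_inv hD ha, rinv_inv hD hb]
      rw [hback, ← mul_assoc a, ih, pow_succ]
      simp [mul_assoc]
  rw [mul_assoc, hinvr, ← mul_assoc, ← pow_add, show k + k = 2 * k by omega]
  have h1 : (a * b) ^ (2 * k) = (a * b)⁻¹ :=
    eq_inv_of_mul_eq_one_left (by rw [← pow_succ, ← hk, pow_orderOf_eq_one])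
  rw [h1, mul_inv_rev, rinv_inv hD ha, rinv_inv hD hb, rinv_cancel' hD ha]

theorem oddAdj_conj (hD : Cfsg.IsRootInvolutionSet D) {a b : G} (g : G) (h : Cfsg.OddAdj D a b) :
    Cfsg.OddAdj D (g * a * g⁻¹) (g * b * g⁻¹) := by
  refine ⟨hD.conj_mem a h.1 g, hD.conj_mem b h.2.1 g, fun e => h.2.2.1 ?_, ?_⟩
  · exact mul_left_cancel (mul_right_cancel e)
  · rw [show g * a * g⁻¹ * (g * b * g⁻¹) = (MulAut.conj g) (a * b) by simp [mul_assoc], MulEquiv.orderOf_eq]
    exact h.2.2.2

theorem oddReach_symm {a b : G} (h : Relation.ReflTransGen (Cfsg.OddAdj D) a b) :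
    Relation.ReflTransGen (Cfsg.OddAdj D) b a := by
  induction h with
  | refl => exact Relation.ReflTransGen.refl
  | tail _ e ih => exact Relation.ReflTransGen.head (oddAdj_symm e) ih

theorem oddReach_conj (hD : Cfsg.IsRootInvolutionSet D) {a b : G} (g : G)
    (h : Relation.ReflTransGen (Cfsg.OddAdj D) a b) :
    Relation.ReflTransGen (Cfsg.OddAdj D) (g * a * g⁻¹) (g * b * g⁻¹) := by
  induction h with
  | refl => exact Relation.ReflTransGen.refl
  | tail _ e ih => exact ih.tail (oddAdj_conj hD g e)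

theorem isolated_of_four (hD : Cfsg.IsRootInvolutionSet D) {a b : G} (ha : a ∈ D) (hb : b ∈ D)
    (h4 : orderOf (a * b) = 4) (hne : ¬ Relation.ReflTransGen (Cfsg.OddAdj D) a b) :
    Cfsg.IsIsolatedElem (Cfsg.OddAdj D) D ((a * b) ^ 2) := by
  obtain ⟨hz, e1, hza, hzb, -⟩ := rinv_four hD ha hb h4
  set z := (a * b) ^ 2 with hzdef
  have h4' : orderOf (b * a) = 4 := by rw [rinv_order_comm]; exact h4
  obtain ⟨-, e2, -, -, -⟩ := rinv_four hD hb ha h4'
  have hz' : (b * a) ^ 2 = z := by
    have h44 : z * z = 1 := rinv_sq hD hz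
    rw [← inv_eq_of_mul_eq_one_right h44, hzdef, ← inv_pow, mul_inv_rev, rinv_inv hD ha, rinv_inv hD hb]
  rw [hz'] at e2
  suffices key : ∀ u, ¬ Cfsg.OddAdj D z u from ⟨hz, fun u => ⟨key u, fun h => key u (oddAdj_symm h)⟩⟩
  intro u hu
  have ra : ∀ {p q : G}, p ∈ D → q ∈ D → p * z = z * p → q * z = z * q → p * z = q * p * q →
      Cfsg.OddAdj D p u ∨ Cfsg.OddAdj D (p * z) u → Relation.ReflTransGen (Cfsg.OddAdj D) z p := by
    intro p q hp hq hpz hqz hpq h
    rcases h with h | h
    · exact (Relation.ReflTransGen.single hu).tail (oddAdj_symm h)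
    · have h1 := oddReach_conj hD q ((Relation.ReflTransGen.single hu).tail (oddAdj_symm h))
      rw [rinv_inv hD hq, hqz, rinv_cancel' hD hq, hpq] at h1
      simpa [mul_assoc, rinv_cancel hD hq, rinv_sq hD hq] using h1
  have s1 : Cfsg.OddAdj D a u ∨ Cfsg.OddAdj D (a * z) u := by
    rw [hza]
    exact rinv_split hD ha hza.symm (by rw [← hza, e1]; exact rinv_conj hD ha hb) hu
  have s2 : Cfsg.OddAdj D b u ∨ Cfsg.OddAdj D (b * z) u := by
    rw [hzb]
    exact rinv_split hD hb hzb.symm (by rw [← hzb, e2]; exact rinv_conj hD hb ha) hu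
  exact hne ((oddReach_symm (ra ha hb hza hzb e1 s1)).trans (ra hb ha hzb hza e2 s2))

end Cfsg.Agent.Lib.RootSub
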