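import Mathlib
import Cfsg.Agent.Lib.RootSub.RootInvolutions
import Cfsg.Agent.Lib.Involutions.BaerSuzuki
import Cfsg.Agent.Lib.Involutions.Isolated
import Cfsg.Agent.Lib.Cores.PCore

/-!
Root involutions with connected odd graph: the same odd partners means the same commuting members.
-/

set_option autoImplicit false

namespace Cfsg.Agent.Lib.RootSub

variable {G : Type*} [Group G] {D : Set G}

theorem so_not_comm_of_odd (hD : Cfsg.IsRootInvolutionSet D) {a x : G} (ha : a ∈ D)
    (hx : x ∈ Cfsg.oddPartners D a) : a * x ≠ x * a :=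
  fun e => hx.2.1 (rinv_eq_of_commute_odd hD ha hx.1 e hx.2.2).symm

theorem so_trichotomy (hD : Cfsg.IsRootInvolutionSet D) {a x : G} (ha : a ∈ D) (hx : x ∈ D)
    (hno : x ∉ Cfsg.oddPartners D a) : a * x = x * a ∨ orderOf (a * x) = 4 := by
  by_cases hc : a * x = x * a
  · exact Or.inl hc
  · refine Or.inr (rinv_four_of hD ha hx hc fun ho => hno ⟨hx, ?_, ho⟩)
    rintro rfl
    exact hc rfl

theorem so_pow_four (hD : Cfsg.IsRootInvolutionSet D) {s u : G} (hs : s ∈ D) (hu : u ∈ D)
    (hno : u ∉ Cfsg.oddPartners D s) :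
    (s * u) ^ 4 = 1 ∧ ((s * u) ^ 2 = 1 ∨ (s * u) ^ 2 ∈ D) ∧
      s * (s * u) ^ 2 = (s * u) ^ 2 * s ∧ u * (s * u) ^ 2 = (s * u) ^ 2 * u := by
  rcases so_trichotomy hD hs hu hno with h | h
  · have h2 : (s * u) ^ 2 = 1 := by
      rw [pow_two]
      nth_rewrite 2 [h]
      rw [mul_assoc, rinv_cancel hD hu, rinv_sq hD hs]
    refine ⟨?_, Or.inl h2, by simp [h2], by simp [h2]⟩
    rw [show (4 : ℕ) = 2 * 2 from rfl, pow_mul, h2, one_pow]
  · obtain ⟨hz, -, c1, c2, -⟩ := rinv_four hD hs hu h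
    exact ⟨h ▸ pow_orderOf_eq_one _, Or.inr hz, c1, c2⟩

theorem so_mem_conj (hD : Cfsg.IsRootInvolutionSet D) {a x : G} (g : G) :
    x ∈ Cfsg.oddPartners D (g * a * g⁻¹) ↔ g⁻¹ * x * g ∈ Cfsg.oddPartners D a := by
  have key : orderOf (g * a * g⁻¹ * x) = orderOf (a * (g⁻¹ * x * g)) := by
    rw [← (MulAut.conj g).orderOf_eq (a * (g⁻¹ * x * g))]
    simp [mul_assoc]
  constructor
  · rintro ⟨hx, hne, ho⟩
    refine ⟨by simpa using hD.conj_mem x hx g⁻¹, fun e => hne ?_, key ▸ ho⟩
    rw [← e]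
    group
  · rintro ⟨hx, hne, ho⟩
    refine ⟨?_, fun e => hne (by rw [e]; group), key ▸ ho⟩
    have := hD.conj_mem _ hx g
    simpa [mul_assoc] using this

/-- An involution of `D` fixing the odd partners of `b` maps those of `b` to those of `y b y`. -/
theorem so_conj_same (hD : Cfsg.IsRootInvolutionSet D) {a b g : G}
    (hab : Cfsg.oddPartners D a = Cfsg.oddPartners D b) :
    Cfsg.oddPartners D (g * a * g⁻¹) = Cfsg.oddPartners D (g * b * g⁻¹) := by
  ext x
  rw [so_mem_conj hD, so_mem_conj hD, hab]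

theorem so_conj_exists (hD : Cfsg.IsRootInvolutionSet D)
    (hc : Cfsg.IsConnectedSet (Cfsg.OddAdj D) D) {a b : G} (ha : a ∈ D) (hb : b ∈ D) :
    ∃ g : G, g * a * g⁻¹ = b := by
  have h := hc a ha b hb
  clear hb
  induction h with
  | refl => exact ⟨1, by simp⟩
  | @tail c e _ he ih =>
    obtain ⟨g, hg⟩ := ih
    obtain ⟨k, hk⟩ := exists_conj_of_odd hD he.1 he.2.1 he.2.2.2
    exact ⟨k * g, by rw [← hk, ← hg]; group⟩

theorem so_eq_of_subset [Finite G] (hD : Cfsg.IsRootInvolutionSet D)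
    (hc : Cfsg.IsConnectedSet (Cfsg.OddAdj D) D) {a b : G} (ha : a ∈ D) (hb : b ∈ D)
    (h : Cfsg.oddPartners D a ⊆ Cfsg.oddPartners D b) :
    Cfsg.oddPartners D a = Cfsg.oddPartners D b := by
  obtain ⟨g, rfl⟩ := so_conj_exists hD hc ha hb
  refine Set.eq_of_subset_of_ncard_le h (le_of_eq ?_) (Set.toFinite _)
  have : Cfsg.oddPartners D (g * a * g⁻¹) = (MulAut.conj g) '' Cfsg.oddPartners D a := by
    ext x
    rw [so_mem_conj hD]
    constructor
    · exact fun hx => ⟨_, hx, by simp [mul_assoc]⟩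
    · rintro ⟨w, hw, rfl⟩
      simpa [mul_assoc] using hw
  rw [this, Set.ncard_image_of_injective _ (MulAut.conj g).injective]

/-- If `a` and `a b` have the same odd partners, so has `b`. -/
theorem so_same_of_triple [Finite G] (hD : Cfsg.IsRootInvolutionSet D)
    (hc : Cfsg.IsConnectedSet (Cfsg.OddAdj D) D) {a b : G} (ha : a ∈ D) (hb : b ∈ D)
    (hab : a * b = b * a) (habD : a * b ∈ D)
    (h : Cfsg.oddPartners D (a * b) = Cfsg.oddPartners D a) :
    Cfsg.oddPartners D b = Cfsg.oddPartners D a := by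
  refine so_eq_of_subset hD hc hb ha fun x hx => ?_
  rcases rinv_split hD ha hab.symm (hab ▸ habD) (x := x) ⟨hb, hx.1, hx.2.1.symm, hx.2.2⟩ with e | e
  · exact ⟨e.2.1, e.2.2.1.symm, e.2.2.2⟩
  · rw [← hab] at e
    rw [← h]
    exact ⟨e.2.1, e.2.2.1.symm, e.2.2.2⟩

/-- Members with the same commuting members have the same odd partners. -/
theorem so_odd_subset (hD : Cfsg.IsRootInvolutionSet D) {d e : G} (hd : d ∈ D) (he : e ∈ D)
    (h : Cfsg.commutingMembers D d = Cfsg.commutingMembers D e) :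
    Cfsg.oddPartners D d ⊆ Cfsg.oddPartners D e := by
  intro x hx
  by_contra hxe
  rcases so_trichotomy hD he hx.1 hxe with hc | h4
  · have : x ∈ Cfsg.commutingMembers D d := h ▸ ⟨hx.1, hc.symm⟩
    exact so_not_comm_of_odd hD hd hx this.2.symm
  · obtain ⟨-, h1, h2, -, -⟩ := rinv_four hD he hx.1 h4
    have hf : x * e * x ∈ Cfsg.commutingMembers D d := by
      rw [h]
      refine ⟨rinv_conj hD he hx.1, ?_⟩
      rw [← h1, mul_assoc, ← h2]
    have hg : x * d * x ∈ Cfsg.commutingMembers D d := by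
      rw [h]
      refine ⟨rinv_conj hD hd hx.1, ?_⟩
      calc x * d * x * e = x * (d * (x * e * x)) * x := by simp [mul_assoc, rinv_sq hD hx.1]
        _ = x * (x * e * x * d) * x := by rw [hf.2]
        _ = e * (x * d * x) := by simp [mul_assoc, rinv_cancel hD hx.1]
    have h4' : (d * x) ^ (2 ^ 2) = 1 := by
      have e2 : (d * x) ^ 2 = (d * x)⁻¹ ^ 2 := by
        rw [mul_inv_rev, rinv_inv hD hd, rinv_inv hD hx.1, pow_two, pow_two]
        calc d * x * (d * x) = d * (x * d * x) := by simp [mul_assoc]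
          _ = x * d * x * d := hg.2.symm
          _ = _ := by simp [mul_assoc]
      rw [show (2 ^ 2 : ℕ) = 2 + 2 from rfl, pow_add]
      nth_rewrite 2 [e2]
      rw [inv_pow, mul_inv_cancel]
    have := eq_one_of_odd hx.2.2 h4'
    rw [mul_eq_one_iff_eq_inv, rinv_inv hD hx.1] at this
    exact hx.2.1 this.symm

/-- Members with the same odd partners never have product of order four. -/
theorem so_no_four [Finite G] (hD : Cfsg.IsRootInvolutionSet D)
    (hc : Cfsg.IsConnectedSet (Cfsg.OddAdj D) D) {d e : G} (hd : d ∈ D) (he : e ∈ D)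
    (h : Cfsg.oddPartners D d = Cfsg.oddPartners D e) (h4 : orderOf (d * e) = 4) : False := by
  haveI : Fact (Nat.Prime 2) := ⟨Nat.prime_two⟩
  obtain ⟨hz, h1, h2, -, -⟩ := rinv_four hD hd he h4
  set z := (d * e) ^ 2 with hzdef
  set O := Cfsg.oddPartners D d with hO
  set Ω : Set G := {f | f ∈ D ∧ Cfsg.oddPartners D f = O} with hΩ
  have hdzO : Cfsg.oddPartners D (d * z) = O := by
    rw [h1]
    nth_rewrite 2 [← rinv_inv hD he]
    rw [so_conj_same hD (a := d) (b := e) (hO ▸ h), mul_inv_cancel_right]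
    exact h.symm
  have hzΩ : z ∈ Ω := ⟨hz, so_same_of_triple hD hc hd hz h2 (by rw [h1]; exact rinv_conj hD hd he) hdzO⟩
  have hfix : ∀ f ∈ Ω, ∀ w ∈ Ω, f * w * f⁻¹ ∈ Ω := fun f hf w hw =>
    ⟨hD.conj_mem w hw.1 f, by
      rw [so_conj_same hD (a := w) (b := f) (hw.2.trans hf.2.symm), mul_inv_cancel_right]
      exact hf.2⟩
  set P := Subgroup.closure Ω with hP
  have hconjP : ∀ g ∈ P, ∀ w ∈ Ω, g * w * g⁻¹ ∈ Ω := by
    intro g hg
    induction hg using Subgroup.closure_induction_left with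
    | one => simp
    | mul_left a ha b _ ih =>
      intro w hw
      have := hfix a ha _ (ih w hw)
      simpa [mul_assoc] using this
    | inv_mul_cancel a ha b _ ih =>
      intro w hw
      have := hfix a ha _ (ih w hw)
      simpa [mul_assoc, rinv_inv hD ha.1] using this
  have hPp : IsPGroup 2 P := by
    have hmem : ∀ w ∈ Ω, ∀ hwP : w ∈ P, (⟨w, hwP⟩ : P) ∈ Cfsg.pCore 2 ↥P := by
      intro w hw hwP
      have hX : IsPGroup 2 (Subgroup.zpowers (⟨w, hwP⟩ : P)) := by
        refine IsPGroup.of_card (n := 1) ?_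
        rw [Nat.card_zpowers, Subgroup.orderOf_mk, hD.orderOf_eq w hw.1, pow_one]
      obtain ⟨N, hN, hNp, hle⟩ := Cfsg.Agent.Lib.Involutions.baer_suzuki _ hX fun g => by
        set v : P := g * ⟨w, hwP⟩ * g⁻¹ with hv
        have hvΩ : (v : G) ∈ Ω := by simpa [hv] using hconjP g g.2 w hw
        have hno : (v : G) ∉ Cfsg.oddPartners D w := by
          rw [hw.2, ← hvΩ.2]
          exact fun hh => hh.2.1 rfl
        have h4 : ((⟨w, hwP⟩ : P) * v) ^ (2 ^ 2) = 1 :=
          Subtype.ext (by simpa using (so_pow_four hD hw.1 hvΩ.1 hno).1)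
        refine (Cfsg.Agent.Lib.Involutions.isPGroup_two_closure_pair
          (by rw [Subgroup.orderOf_mk]; exact hD.orderOf_eq w hw.1)
          (by rw [← Subgroup.orderOf_coe]; exact hD.orderOf_eq _ hvΩ.1) h4).to_le (sup_le ?_ ?_)
        · exact Subgroup.zpowers_le.mpr (Subgroup.subset_closure (by simp))
        · rw [MonoidHom.map_zpowers]
          exact Subgroup.zpowers_le.mpr (Subgroup.subset_closure (by simp [hv]))
      exact le_sSup (show N ∈ {H : Subgroup P | H.Normal ∧ IsPGroup 2 H} from ⟨hN, hNp⟩)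
        (hle (Subgroup.mem_zpowers _))
    have htop : Cfsg.pCore 2 ↥P = ⊤ := by
      rw [eq_top_iff, ← Subgroup.closure_closure_coe_preimage (k := Ω), Subgroup.closure_le]
      exact fun w hw => hmem w.1 hw w.2
    have := Cfsg.Agent.Lib.Cores.pCore_isPGroup 2 ↥P
    rw [htop] at this
    exact this.of_equiv Subgroup.topEquiv
  have hdP : d ∈ P := Subgroup.subset_closure ⟨hd, rfl⟩
  have heP : e ∈ P := Subgroup.subset_closure ⟨he, h.symm⟩
  have hzC : z ∈ ⁅P, P⁆ := by
    have := Subgroup.commutator_mem_commutator hdP heP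
    rw [commutatorElement_def, rinv_inv hD hd, rinv_inv hD he] at this
    simpa [hzdef, pow_two, mul_assoc] using this
  have hle : P ≤ ⁅P, P⁆ := by
    rw [hP, Subgroup.closure_le]
    intro f hf
    obtain ⟨g, hg⟩ := so_conj_exists hD hc hz hf.1
    have hmap : P.map (MulAut.conj g).toMonoidHom ≤ P := by
      rw [hP, MonoidHom.map_closure]
      refine Subgroup.closure_mono ?_
      rintro _ ⟨w, hw, rfl⟩
      refine ⟨by simpa using hD.conj_mem w hw.1 g, ?_⟩
      have := so_conj_same hD (g := g) (a := w) (b := z) (hw.2.trans hzΩ.2.symm)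
      rw [hg, hf.2] at this
      simpa using this
    have := Subgroup.mem_map_of_mem (MulAut.conj g).toMonoidHom hzC
    rw [Subgroup.map_commutator] at this
    exact Subgroup.commutator_mono hmap hmap (by simpa [hg] using this)
  haveI : Group.IsNilpotent P := hPp.isNilpotent
  haveI : Nontrivial P := ⟨⟨⟨d, hdP⟩, 1, fun e' => by
    have := congrArg Subtype.val e'
    have h2' := hD.orderOf_eq d hd
    simp only [Subgroup.coe_one] at this
    rw [this, orderOf_one] at h2'
    omega⟩⟩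
  have hlt := IsSolvable.commutator_lt_top_of_nontrivial ↥P
  refine hlt.ne (eq_top_iff.mpr fun w _ => ?_)
  have hmem := hle w.2
  rw [← Subgroup.map_subtype_commutator] at hmem
  obtain ⟨w', hw', e'⟩ := hmem
  rwa [← Subtype.ext e']

end Cfsg.Agent.Lib.RootSub
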