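import Mathlib
import Cfsg.Agent.Lib.RootSub.SameOdd

/-!
Every product partner of `a` outside its class is a commutator with `a`.
-/

set_option autoImplicit false
set_option maxHeartbeats 1000000

namespace Cfsg.Agent.Lib.RootSub

variable {G : Type*} [Group G] {D : Set G}

/-- The alternating orbit sequence `y, (x y)², (z (x y)²)², …`. -/
def ecSeq (z x y : G) : ℕ → G
  | 0 => y
  | n + 1 => if Even n then (x * ecSeq z x y n) ^ 2 else (z * ecSeq z x y n) ^ 2

theorem exact_commutator [Finite G] (hD : Cfsg.IsRootInvolutionSet D)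
    {z y x : G} (hz : z ∈ D) (hy : y ∈ D)
    (hyz : y * z = z * y) (hyzD : y * z ∈ D) (hxz : x ∈ Cfsg.oddPartners D z)
    (hxy : orderOf (x * y) = 4) : ∃ u ∈ D, orderOf (z * u) = 4 ∧ (z * u) ^ 2 = y := by
  classical
  have hx : x ∈ D := hxz.1
  have hzx : z * x ≠ x * z := so_not_comm_of_odd hD hz hxz
  have hz2 := rinv_sq hD hz
  have hx2 := rinv_sq hD hx
  have hy2 := rinv_sq hD hy
  -- `x` is odd with `z y`
  have hzyD : z * y ∈ D := hyz ▸ hyzD
  have hoddzy : Odd (orderOf (x * (z * y))) := by
    by_contra hno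
    have hne : x * (z * y) ≠ (z * y) * x := fun e => hxz.2.1 (rinv_commute_odd hD hzyD hz
      (by rw [mul_assoc, hyz]) (by rw [mul_assoc, hyz, rinv_cancel hD hz]; exact hy) hx e
      (by rw [rinv_order_comm]; exact hxz.2.2))
    exact rinv_pattern hD hz hy hyz.symm hzyD hx hxz.2.1 hxz.2.2 hxy (rinv_four_of hD hx hzyD hne hno)
  -- the orbit sequence
  set f := ecSeq z x y with hf
  have hf0 : f 0 = y := rfl
  have hfe : ∀ n, Even n → f (n + 1) = (x * f n) ^ 2 := fun n hn => by simp [hf, ecSeq, hn]
  have hfo : ∀ n, Odd n → f (n + 1) = (z * f n) ^ 2 := fun n hn => by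
    simp [hf, ecSeq, Nat.not_even_iff_odd.mpr hn]
  obtain ⟨hf1D, hxf1, hxf1c, hyf1, -⟩ := rinv_four hD hx hy hxy
  have hf1 : f 1 = (x * y) ^ 2 := hfe 0 Even.zero
  rw [← hf1] at hf1D hxf1 hxf1c hyf1
  have hzf1 : z * f 1 ≠ f 1 * z := fun e => hxz.2.1 (rinv_commute_odd hD hf1D hx hxf1c.symm
    (by rw [← hxf1c, hxf1]; exact rinv_conj hD hx hy) hz e hxz.2.2).symm
  have key : ∀ n, (∀ i ≤ n, ∀ j ≤ n, Commute (f i) (f j)) ∧
      ∀ i ≤ n, (f i = 1 ∨ f i ∈ D) ∧ (Even i → Commute z (f i)) ∧ (Odd i → Commute x (f i)) := by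
    intro n
    induction n with
    | zero =>
      refine ⟨fun i hi j hj => ?_, fun i hi => ?_⟩
      · rw [Nat.le_zero.mp hi, Nat.le_zero.mp hj]
      · rw [Nat.le_zero.mp hi, hf0]
        exact ⟨Or.inr hy, fun _ => hyz.symm, fun h => absurd h (by decide)⟩
    | succ n ih =>
      obtain ⟨hcom, hprop⟩ := ih
      have h01 : ∀ i, 1 ≤ i → i ≤ n → Commute (f i) (f 0) ∧ Commute (f i) (f 1) :=
        fun i h1 h2 => ⟨hcom i h2 0 (Nat.zero_le _), hcom i h2 1 (h1.trans h2)⟩
      -- the new element
      obtain ⟨s, hsD, hs, hsx, hno, hpar⟩ : ∃ s, s ∈ D ∧ f (n + 1) = (s * f n) ^ 2 ∧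
          (s = x ∧ Even n ∨ s = z ∧ Odd n) ∧ (f n ∈ D → f n ∉ Cfsg.oddPartners D s) ∧
          ∀ j ≤ n, s * f j * s = f j ∨ j + 1 ≤ n + 1 ∧ s * f j * s = (s * f j) ^ 2 * f j ∧
            f (j + 1) = (s * f j) ^ 2 := by
        have hinv : ∀ j ≤ n, f j * f j = 1 := fun j hj => by
          rcases (hprop j hj).1 with e | e
          · rw [e, one_mul]
          · exact rinv_sq hD e
        have hswap : ∀ (s : G), ∀ j ≤ n, s * f j * s = (s * f j) ^ 2 * f j := fun s j hj => by
          rw [pow_two]
          simp [mul_assoc, hinv j hj]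
        rcases Nat.even_or_odd n with hn | hn
        · refine ⟨x, hx, hfe n hn, Or.inl ⟨rfl, hn⟩, fun hD' ho => ?_, fun j hj => ?_⟩
          · by_cases h0 : n = 0
            · subst h0
              rw [hf0] at ho
              have := ho.2.2
              rw [hxy] at this
              exact absurd this (by decide)
            · have := rinv_commute_odd hD hf1D hx hxf1c.symm
                (by rw [← hxf1c, hxf1]; exact rinv_conj hD hx hy) hD'
                (h01 n (Nat.one_le_iff_ne_zero.mpr h0) le_rfl).2 (by rw [rinv_order_comm]; exact ho.2.2)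
              exact ho.2.1 this
          · rcases Nat.even_or_odd j with hj' | hj'
            · exact Or.inr ⟨by omega, hswap x j hj, hfe j hj'⟩
            · exact Or.inl (by rw [((hprop j hj).2.2 hj').eq, rinv_cancel' hD hx])
        · refine ⟨z, hz, hfo n hn, Or.inr ⟨rfl, hn⟩, fun hD' ho => ?_, fun j hj => ?_⟩
          · have := rinv_commute_odd hD hy hz hyz hyzD hD'
              (hf0 ▸ (hcom n le_rfl 0 (Nat.zero_le _)).eq) (by rw [rinv_order_comm]; exact ho.2.2)
            exact ho.2.1 this
          · rcases Nat.even_or_odd j with hj' | hj'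
            · exact Or.inl (by rw [((hprop j hj).2.1 hj').eq, rinv_cancel' hD hz])
            · exact Or.inr ⟨by omega, hswap z j hj, hfo j hj'⟩
      have hnew : (f (n + 1) = 1 ∨ f (n + 1) ∈ D) ∧ Commute s (f (n + 1)) ∧
          Commute (f n) (f (n + 1)) := by
        rcases (hprop n le_rfl).1 with e | e
        · have : f (n + 1) = 1 := by rw [hs, e, mul_one, pow_two, rinv_sq hD hsD]
          rw [this]
          exact ⟨Or.inl rfl, Commute.one_right _, Commute.one_right _⟩
        · obtain ⟨-, h2, h3, h4⟩ := so_pow_four hD hsD e (hno e)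
          rw [hs]
          exact ⟨h2, h3, h4⟩
      -- it commutes with the earlier ones
      have hnewc : ∀ j ≤ n, Commute (f j) (f (n + 1)) := by
        intro j hj
        by_cases hjn : j = n
        · rw [hjn]; exact hnew.2.2
        have hsn : s * f n * s = f (n + 1) * f n := by
          have hinv : f n * f n = 1 := by
            rcases (hprop n le_rfl).1 with e | e
            · rw [e, one_mul]
            · exact rinv_sq hD e
          rw [hs, pow_two]
          simp [mul_assoc, hinv]
        have hcc : Commute (s * f j * s) (f (n + 1) * f n) := by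
          rw [← hsn]
          show s * f j * s * (s * f n * s) = s * f n * s * (s * f j * s)
          simp only [mul_assoc, rinv_cancel hD hsD]
          rw [← mul_assoc (f j), (hcom j hj n le_rfl).eq, mul_assoc]
        have clean : ∀ w, Commute w (f (n + 1) * f n) → Commute w (f n) → Commute w (f (n + 1)) := by
          intro w h1 h2
          have := h1.mul_right h2.inv_right
          rwa [mul_inv_cancel_right] at this
        rcases hpar j hj with e | ⟨-, e, e'⟩
        · rw [e] at hcc
          exact clean _ hcc (hcom j hj n le_rfl)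
        · rw [e, ← e'] at hcc
          have hj1 : j + 1 ≤ n := by omega
          have hj1n : Commute (f (j + 1)) (f (n + 1)) := by
            rcases hpar (j + 1) hj1 with e2 | ⟨-, -, e2⟩
            · have hcc2 : Commute (s * f (j + 1) * s) (f (n + 1) * f n) := by
                rw [← hsn]
                show s * f (j + 1) * s * (s * f n * s) = s * f n * s * (s * f (j + 1) * s)
                simp only [mul_assoc, rinv_cancel hD hsD]
                rw [← mul_assoc (f (j + 1)), (hcom _ hj1 n le_rfl).eq, mul_assoc]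
              rw [e2] at hcc2
              exact clean _ hcc2 (hcom _ hj1 n le_rfl)
            · rcases hsx with ⟨rfl, -⟩ | ⟨rfl, -⟩
              · rcases Nat.even_or_odd j with hj' | hj'
                · have := ((hprop _ hj1).2.2 hj'.add_one).eq
                  have e3 : s * f (j + 1) * s = f (j + 1) := by rw [this, rinv_cancel' hD hsD]
                  have hcc2 : Commute (s * f (j + 1) * s) (f (n + 1) * f n) := by
                    rw [← hsn]
                    show s * f (j + 1) * s * (s * f n * s) = s * f n * s * (s * f (j + 1) * s)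
                    simp only [mul_assoc, rinv_cancel hD hsD]
                    rw [← mul_assoc (f (j + 1)), (hcom _ hj1 n le_rfl).eq, mul_assoc]
                  rw [e3] at hcc2
                  exact clean _ hcc2 (hcom _ hj1 n le_rfl)
                · have e3 : s * f j * s = f j := by
                    rw [((hprop j hj).2.2 hj').eq, rinv_cancel' hD hsD]
                  have : f (j + 1) * f j = f j := by rw [e', ← e, e3]
                  rw [mul_eq_right.mp this]
                  exact Commute.one_left _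
              · rcases Nat.even_or_odd j with hj' | hj'
                · have e3 : s * f j * s = f j := by
                    rw [((hprop j hj).2.1 hj').eq, rinv_cancel' hD hsD]
                  have : f (j + 1) * f j = f j := by rw [e', ← e, e3]
                  rw [mul_eq_right.mp this]
                  exact Commute.one_left _
                · have := ((hprop _ hj1).2.1 hj'.add_one).eq
                  have e3 : s * f (j + 1) * s = f (j + 1) := by rw [this, rinv_cancel' hD hsD]
                  have hcc2 : Commute (s * f (j + 1) * s) (f (n + 1) * f n) := by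
                    rw [← hsn]
                    show s * f (j + 1) * s * (s * f n * s) = s * f n * s * (s * f (j + 1) * s)
                    simp only [mul_assoc, rinv_cancel hD hsD]
                    rw [← mul_assoc (f (j + 1)), (hcom _ hj1 n le_rfl).eq, mul_assoc]
                  rw [e3] at hcc2
                  exact clean _ hcc2 (hcom _ hj1 n le_rfl)
          refine clean _ ?_ (hcom j hj n le_rfl)
          have := hj1n.mul_right (hcom _ hj1 n le_rfl)
          have h5 := this.inv_left.mul_left hcc
          rwa [inv_mul_cancel_left] at h5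
      refine ⟨fun i hi j hj => ?_, fun i hi => ?_⟩
      · rcases Nat.of_le_succ hi with hi' | rfl <;> rcases Nat.of_le_succ hj with hj' | rfl
        · exact hcom i hi' j hj'
        · exact hnewc i hi'
        · exact (hnewc j hj').symm
        · exact Commute.refl _
      · rcases Nat.of_le_succ hi with hi' | rfl
        · exact hprop i hi'
        · refine ⟨hnew.1, fun he => ?_, fun ho => ?_⟩
          · rcases hsx with ⟨rfl, hn⟩ | ⟨rfl, -⟩
            · exact absurd he (Nat.not_even_iff_odd.mpr hn.add_one)
            · exact hnew.2.1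
          · rcases hsx with ⟨rfl, -⟩ | ⟨rfl, hn⟩
            · exact hnew.2.1
            · exact absurd ho (Nat.not_odd_iff_even.mpr hn.add_one)
  have hfc : ∀ i j, Commute (f i) (f j) := fun i j =>
    (key (max i j)).1 i (le_max_left _ _) j (le_max_right _ _)
  have hff : ∀ i, f i * f i = 1 := fun i => by
    rcases ((key i).2 i le_rfl).1 with e | e
    · rw [e, one_mul]
    · exact rinv_sq hD e
  have hzf : ∀ i, Even i → Commute z (f i) := fun i => ((key i).2 i le_rfl).2.1
  have hxf : ∀ i, Odd i → Commute x (f i) := fun i => ((key i).2 i le_rfl).2.2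
  -- the subgroups `U' ≤ U`
  set U := Subgroup.closure (Set.range f) with hU
  set U' := Subgroup.closure (Set.range fun i => f (i + 1)) with hU'
  have hfU : ∀ i, f i ∈ U := fun i => Subgroup.subset_closure ⟨i, rfl⟩
  have hfU' : ∀ i, f (i + 1) ∈ U' := fun i => Subgroup.subset_closure ⟨i, rfl⟩
  have hU'U : U' ≤ U := by
    rw [hU', Subgroup.closure_le]
    rintro _ ⟨i, rfl⟩
    exact hfU _
  have hcomm : ∀ a ∈ U, ∀ b ∈ U, a * b = b * a := by
    intro a ha b hb
    induction ha, hb using Subgroup.closure_induction₂ with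
    | mem a b ha hb => obtain ⟨i, rfl⟩ := ha; obtain ⟨j, rfl⟩ := hb; exact hfc i j
    | one_left => simp
    | one_right => simp
    | mul_left a b c _ _ _ h1 h2 => exact (Commute.mul_left h1 h2)
    | mul_right a b c _ _ _ h1 h2 => exact (Commute.mul_right h1 h2)
    | inv_left a b _ _ h => exact (Commute.inv_left h)
    | inv_right a b _ _ h => exact (Commute.inv_right h)
  have hconjS : ∀ s, s = z ∨ s = x → ∀ i, (s * f i * s = f i) ∨ (s * f i * s = f (i + 1) * f i) := by
    intro s hs i
    have hsw : ∀ s : G, s * f i * s = (s * f i) ^ 2 * f i := fun s => by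
      rw [pow_two]
      simp [mul_assoc, hff i]
    rcases hs with rfl | rfl <;> rcases Nat.even_or_odd i with hi | hi
    · exact Or.inl (by rw [(hzf i hi).eq, rinv_cancel' hD hz])
    · exact Or.inr (by rw [hfo i hi]; exact hsw _)
    · exact Or.inr (by rw [hfe i hi]; exact hsw _)
    · exact Or.inl (by rw [(hxf i hi).eq, rinv_cancel' hD hx])
  have hsD : ∀ s, s = z ∨ s = x → s ∈ D := by rintro s (rfl | rfl) <;> assumption
  have hinvS : ∀ (S : Set G), (∀ s, s = z ∨ s = x → ∀ w ∈ S, s * w * s ∈ Subgroup.closure S) →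
      ∀ s, s = z ∨ s = x → ∀ w ∈ Subgroup.closure S, s * w * s ∈ Subgroup.closure S := by
    intro S hS s hs w hw
    have hs2 : s * s = 1 := rinv_sq hD (hsD s hs)
    induction hw using Subgroup.closure_induction with
    | mem w hw => exact hS s hs w hw
    | one => simp [hs2]
    | mul a b _ _ h1 h2 =>
      have := mul_mem h1 h2
      simpa [mul_assoc, rinv_cancel hD (hsD s hs)] using this
    | inv a _ h =>
      have := inv_mem h
      simpa [mul_assoc, rinv_inv hD (hsD s hs)] using this
  have hUs : ∀ s, s = z ∨ s = x → ∀ w ∈ U, s * w * s ∈ U := hinvS _ (by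
    rintro s hs _ ⟨i, rfl⟩
    rcases hconjS s hs i with e | e <;> rw [e]
    · exact hfU i
    · exact mul_mem (hfU _) (hfU i))
  have hU's : ∀ s, s = z ∨ s = x → ∀ w ∈ U', s * w * s ∈ U' := hinvS _ (by
    rintro s hs _ ⟨i, rfl⟩
    rcases hconjS s hs (i + 1) with e | e <;> rw [e]
    · exact hfU' i
    · exact mul_mem (hfU' _) (hfU' i))
  -- the rotations
  set T := z * x with hT
  have hTinv : T⁻¹ = x * z := by rw [hT, mul_inv_rev, rinv_inv hD hz, rinv_inv hD hx]
  set Z := Subgroup.zpowers T with hZ
  have hTodd : Odd (orderOf T) := hxz.2.2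
  have hrot : ∀ (S : Subgroup G), (∀ s, s = z ∨ s = x → ∀ w ∈ S, s * w * s ∈ S) →
      ∀ t ∈ Z, ∀ w ∈ S, t * w * t⁻¹ ∈ S := by
    intro S hS t ht
    rw [hZ, Subgroup.zpowers_eq_closure] at ht
    induction ht using Subgroup.closure_induction_left with
    | one => simp
    | mul_left a ha b _ ih =>
      intro w hw
      rw [Set.mem_singleton_iff] at ha
      have := hS z (Or.inl rfl) _ (hS x (Or.inr rfl) _ (ih w hw))
      rw [ha]
      simpa [hT, mul_assoc, rinv_inv hD hz, rinv_inv hD hx] using this
    | inv_mul_cancel a ha b _ ih =>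
      intro w hw
      rw [Set.mem_singleton_iff] at ha
      have := hS x (Or.inr rfl) _ (hS z (Or.inl rfl) _ (ih w hw))
      rw [ha]
      simpa [hT, mul_assoc, rinv_inv hD hz, rinv_inv hD hx] using this
  have hzt : ∀ t ∈ Z, z * t * z = t⁻¹ := by
    intro t ht
    obtain ⟨i, rfl⟩ := Subgroup.mem_zpowers_iff.mp ht
    have h1 : MulAut.conj z (T ^ i) = (MulAut.conj z T) ^ i := map_zpow _ _ _
    simp only [MulAut.conj_apply, rinv_inv hD hz] at h1
    rw [h1, ← inv_zpow, hTinv, hT]
    simp [mul_assoc, rinv_cancel hD hz]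
  letI : CommGroup ↥U := { (inferInstance : Group ↥U) with
    mul_comm := fun a b => Subtype.ext (hcomm a a.2 b b.2) }
  haveI : Fintype ↥Z := Fintype.ofFinite _
  let c : ↥Z → ↥U →* ↥U := fun t =>
    { toFun := fun u => ⟨t * u * (t : G)⁻¹, hrot U hUs t t.2 u u.2⟩
      map_one' := Subtype.ext (by simp)
      map_mul' := fun a b => Subtype.ext (by simp [mul_assoc]) }
  let π : ↥U →* ↥U :=
    { toFun := fun u => ∏ t, c t u
      map_one' := by simp
      map_mul' := fun a b => by simp [Finset.prod_mul_distrib] }
  let σz : ↥U →* ↥U :=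
    { toFun := fun u => ⟨z * u * z, hUs z (Or.inl rfl) u u.2⟩
      map_one' := Subtype.ext (by simp [hz2])
      map_mul' := fun a b => Subtype.ext (by simp [mul_assoc, rinv_cancel hD hz]) }
  let σx : ↥U →* ↥U :=
    { toFun := fun u => ⟨x * u * x, hUs x (Or.inr rfl) u u.2⟩
      map_one' := Subtype.ext (by simp [hx2])
      map_mul' := fun a b => Subtype.ext (by simp [mul_assoc, rinv_cancel hD hx]) }
  have hπz : ∀ u, π (σz u) = σz (π u) := by
    intro u
    show ∏ t, c t (σz u) = σz (∏ t, c t u)
    rw [map_prod]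
    refine Fintype.prod_equiv (Equiv.inv _) _ _ fun t => Subtype.ext ?_
    show (t : G) * (z * u * z) * (t : G)⁻¹ = z * (((t⁻¹ : ↥Z) : G) * u * ((t⁻¹ : ↥Z) : G)⁻¹) * z
    rw [InvMemClass.coe_inv, inv_inv, ← hzt t t.2]
    simp [mul_assoc, rinv_cancel hD hz]
  have hπT : ∀ u, π (c ⟨T, Subgroup.mem_zpowers T⟩ u) = π u := by
    intro u
    refine Fintype.prod_equiv (Equiv.mulRight ⟨T, Subgroup.mem_zpowers T⟩) _ _ fun t => Subtype.ext ?_
    show (t : G) * (T * u * T⁻¹) * (t : G)⁻¹ = ((t : G) * T) * u * ((t : G) * T)⁻¹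
    simp [mul_assoc]
  have hσx : ∀ u, σx u = σz (c ⟨T, Subgroup.mem_zpowers T⟩ u) := by
    intro u
    refine Subtype.ext ?_
    show x * (u : G) * x = z * (T * u * T⁻¹) * z
    rw [hTinv, hT]
    simp [mul_assoc, rinv_cancel hD hz, hz2]
  have hπx : ∀ u, π (σx u) = σx (π u) := by
    intro u
    have hfixT : ∀ u, c ⟨T, Subgroup.mem_zpowers T⟩ (π u) = π u := by
      intro u
      show c ⟨T, Subgroup.mem_zpowers T⟩ (∏ t, c t u) = ∏ t, c t u
      rw [map_prod]
      refine Fintype.prod_equiv (Equiv.mulLeft ⟨T, Subgroup.mem_zpowers T⟩) _ _ fun t => Subtype.ext ?_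
      show T * ((t : G) * u * (t : G)⁻¹) * T⁻¹ = (T * (t : G)) * u * (T * (t : G))⁻¹
      simp [mul_assoc]
    rw [hσx, hπz, hπT, hσx, hfixT]
  let F : ℕ → ↥U := fun i => ⟨f i, hfU i⟩
  have hUexp : ∀ u : ↥U, u * u = 1 := by
    intro u
    have hu : (u : G) * (u : G) = 1 := by
      obtain ⟨u, hu⟩ := u
      show u * u = 1
      induction hu using Subgroup.closure_induction with
      | mem w hw => obtain ⟨i, rfl⟩ := hw; exact hff i
      | one => simp
      | mul a b ha hb h1 h2 =>
        calc a * b * (a * b) = a * (b * a) * b := by simp [mul_assoc]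
          _ = a * (a * b) * b := by rw [hcomm b hb a ha]
          _ = (a * a) * (b * b) := by simp [mul_assoc]
          _ = 1 := by rw [h1, h2, one_mul]
      | inv a _ h => rw [← mul_inv_rev, h, inv_one]
    exact Subtype.ext hu
  set y0 := π (F 0) with hy0
  have hσy : σz (F 0) = F 0 := Subtype.ext (show z * y * z = y by
    rw [hyz.symm, rinv_cancel' hD hz])
  have hy0z : σz y0 = y0 := by rw [hy0, ← hπz, hσy]
  have hy0x : σx y0 = y0 := by
    rw [hσx]
    have hfixT : c ⟨T, Subgroup.mem_zpowers T⟩ y0 = y0 := by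
      show c ⟨T, Subgroup.mem_zpowers T⟩ (∏ t, c t (F 0)) = ∏ t, c t (F 0)
      rw [map_prod]
      refine Fintype.prod_equiv (Equiv.mulLeft ⟨T, Subgroup.mem_zpowers T⟩) _ _ fun t => Subtype.ext ?_
      show T * ((t : G) * y * (t : G)⁻¹) * T⁻¹ = (T * (t : G)) * y * (T * (t : G))⁻¹
      simp [mul_assoc]
    rw [hfixT, hy0z]
  have hπ1 : ∀ i, π (F (i + 1)) = 1 := by
    have hrel : ∀ i, F (i + 1) = (if Even i then σx (F i) else σz (F i)) * F i := by
      intro i
      refine Subtype.ext ?_
      split_ifs with h
      · show f (i + 1) = x * f i * x * f i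
        rw [hfe i h, pow_two]
        simp [mul_assoc]
      · show f (i + 1) = z * f i * z * f i
        rw [hfo i (Nat.not_even_iff_odd.mp h), pow_two]
        simp [mul_assoc]
    intro i
    induction i with
    | zero =>
      rw [hrel, if_pos Even.zero, map_mul, hπx, ← hy0, hy0x, hUexp]
    | succ i ih =>
      rw [hrel]
      split_ifs
      · rw [map_mul, hπx, ih, map_one, one_mul]
      · rw [map_mul, hπz, ih, map_one, one_mul]
  have hπU' : ∀ u : ↥U, (u : G) ∈ U' → π u = 1 := by
    rintro ⟨u, hu⟩ hu'
    simp only at hu'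
    induction hu' using Subgroup.closure_induction with
    | mem w hw => obtain ⟨i, rfl⟩ := hw; exact hπ1 i
    | one => exact map_one π
    | mul a b ha hb h1 h2 =>
      rw [show (⟨a * b, hu⟩ : ↥U) = ⟨a, hU'U ha⟩ * ⟨b, hU'U hb⟩ from rfl, map_mul,
        h1, h2, one_mul]
    | inv a ha h =>
      rw [show (⟨a⁻¹, hu⟩ : ↥U) = (⟨a, hU'U ha⟩)⁻¹ from rfl, map_inv, h, inv_one]
  -- `y0` is congruent to `y` modulo `U'`
  have hty : ∀ t ∈ Z, t * y * t⁻¹ * y⁻¹ ∈ U' := by
    have hTy : T * y * T⁻¹ * y⁻¹ ∈ U' := by
      have h1 : x * y * x = f 1 * y := by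
        rw [hf1, pow_two]
        simp [mul_assoc, hy2]
      have h2 : T * y * T⁻¹ = z * f 1 * z * y := by
        rw [hTinv, hT]
        calc z * x * y * (x * z) = z * (x * y * x) * z := by simp [mul_assoc]
          _ = z * f 1 * (y * z) := by rw [h1]; simp [mul_assoc]
          _ = _ := by rw [hyz]; simp [mul_assoc]
      rw [h2, mul_inv_cancel_right]
      exact hU's z (Or.inl rfl) _ (hfU' 0)
    intro t ht
    have ht' := ht
    rw [hZ, Subgroup.zpowers_eq_closure] at ht'
    induction ht' using Subgroup.closure_induction_left with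
    | one => simp
    | mul_left a ha b hb ih =>
      rw [Set.mem_singleton_iff] at ha
      subst ha
      have hb' : b ∈ Z := by rwa [hZ, Subgroup.zpowers_eq_closure]
      have := mul_mem (hrot U' hU's T (Subgroup.mem_zpowers T) _ (ih hb')) hTy
      simpa [mul_assoc] using this
    | inv_mul_cancel a ha b hb ih =>
      rw [Set.mem_singleton_iff] at ha
      subst ha
      have hb' : b ∈ Z := by rwa [hZ, Subgroup.zpowers_eq_closure]
      have hTi : T⁻¹ * y * T * y⁻¹ ∈ U' := by
        have := hrot U' hU's T⁻¹ (inv_mem (Subgroup.mem_zpowers T)) _ (inv_mem hTy)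
        simpa [mul_assoc] using this
      have := mul_mem (hrot U' hU's T⁻¹ (inv_mem (Subgroup.mem_zpowers T)) _ (ih hb')) hTi
      simpa [mul_assoc] using this
  have hcard : Fintype.card ↥Z = orderOf T := by
    rw [← Nat.card_eq_fintype_card, hZ, Nat.card_zpowers]
  have hmod : (y0 : G) * y ∈ U' := by
    set W := U'.subgroupOf U with hW
    have h1 : QuotientGroup.mk' W y0 = QuotientGroup.mk' W (F 0) := by
      show QuotientGroup.mk' W (∏ t, c t (F 0)) = _
      rw [map_prod, Finset.prod_congr rfl (g := fun _ => QuotientGroup.mk' W (F 0)) fun t _ => ?_]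
      · rw [Finset.prod_const, Finset.card_univ, hcard]
        obtain ⟨k, hk⟩ := hTodd
        rw [hk, pow_succ, pow_mul, pow_two, ← map_mul, hUexp, map_one, one_pow, one_mul]
      · refine (QuotientGroup.eq_iff_div_mem.mpr ?_)
        rw [hW, Subgroup.mem_subgroupOf]
        simpa [c, F, hf0, div_eq_mul_inv] using hty t t.2
    have h2 := QuotientGroup.eq_iff_div_mem.mp h1
    rw [hW, Subgroup.mem_subgroupOf] at h2
    simpa [F, hf0, div_eq_mul_inv, rinv_inv hD hy] using h2
  -- parity
  have hy01 : y0 = 1 := by
    have hzc : Commute (y0 : G) z := by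
      have := congrArg Subtype.val hy0z
      show (y0 : G) * z = z * y0
      conv_lhs => rw [← this]
      simp [σz, mul_assoc, hz2]
    have hxc : Commute (y0 : G) x := by
      have := congrArg Subtype.val hy0x
      show (y0 : G) * x = x * y0
      conv_lhs => rw [← this]
      simp [σx, mul_assoc, hx2]
    set y' := (y0 : G) * y with hy'
    set Dh := Subgroup.closure ({z, x} : Set G) with hDh
    set H := U' ⊔ Dh with hH
    set w := x * (z * y') with hw
    have hcy' : Commute (y0 : G) y' := hcomm _ y0.2 _ (hU'U hmod)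
    have hcw : Commute (y0 : G) w := hxc.mul_right (hzc.mul_right hcy')
    have hy02 : (y0 : G) * y0 = 1 := congrArg Subtype.val (hUexp y0)
    have heq : x * (z * y) = (y0 : G) * w := by
      have : y = (y0 : G) * y' := by rw [hy', ← mul_assoc, hy02, one_mul]
      conv_lhs => rw [this]
      rw [hw, ← mul_assoc z, ← hzc.eq, mul_assoc, ← mul_assoc x, ← hxc.eq, mul_assoc]
    have hy0H : (y0 : G) ∈ H := by
      have h1 := pow_orderOf_eq_one (x * (z * y))
      generalize hm : orderOf (x * (z * y)) = m at h1 hoddzy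
      rw [heq, hcw.mul_pow] at h1
      obtain ⟨k, rfl⟩ := hoddzy
      have h2 : (y0 : G) ^ (2 * k + 1) = y0 := by
        rw [pow_succ, pow_mul, pow_two, hy02, one_pow, one_mul]
      rw [h2, mul_eq_one_iff_eq_inv] at h1
      rw [h1]
      refine inv_mem (pow_mem (mul_mem ?_ (mul_mem ?_ ?_)) _)
      · exact le_sup_right (a := U') (Subgroup.subset_closure (by simp))
      · exact le_sup_right (a := U') (Subgroup.subset_closure (by simp))
      · exact le_sup_left (b := Dh) hmod
    have hnorm : Dh ≤ Subgroup.normalizer (U' : Set G) := by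
      rw [hDh, Subgroup.closure_le]
      intro s hs
      have hs' : s = z ∨ s = x := by simpa using hs
      rw [SetLike.mem_coe, Subgroup.mem_normalizer_iff]
      intro w
      rw [rinv_inv hD (hsD s hs')]
      refine ⟨hU's s hs' w, fun h => ?_⟩
      have := hU's s hs' _ h
      simpa [mul_assoc, rinv_cancel hD (hsD s hs'), rinv_sq hD (hsD s hs')] using this
    have hmem : (y0 : G) ∈ (H : Set G) := hy0H
    rw [hH, Subgroup.coe_mul_of_right_le_normalizer_left U' Dh hnorm] at hmem
    obtain ⟨u, hu, t, ht, hut⟩ := Set.mem_mul.mp hmem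
    have htU : t ∈ U := by
      have : t = u⁻¹ * y0 := by rw [← hut, inv_mul_cancel_left]
      rw [this]
      exact mul_mem (inv_mem (hU'U hu)) y0.2
    -- an element of `U` among the dihedral ones is trivial
    have hform : t ∈ Z ∨ z * t ∈ Z := by
      rw [SetLike.mem_coe, hDh] at ht
      clear hut htU
      induction ht using Subgroup.closure_induction_left with
      | one => exact Or.inl (one_mem _)
      | mul_left a ha b _ ih =>
        rcases ha with rfl | rfl
        · rcases ih with h | h
          · exact Or.inr (by rwa [rinv_cancel hD hz])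
          · exact Or.inl h
        · have hzxb : z * (a * b) = T * b := by rw [hT, mul_assoc]
          rcases ih with h | h
          · exact Or.inr (by rw [hzxb]; exact mul_mem (Subgroup.mem_zpowers T) h)
          · refine Or.inl ?_
            have : a * b = T⁻¹ * (z * b) := by rw [hTinv, mul_assoc, rinv_cancel hD hz]
            rw [this]
            exact mul_mem (inv_mem (Subgroup.mem_zpowers T)) h
      | inv_mul_cancel a ha b _ ih =>
        rcases ha with rfl | rfl
        · rw [rinv_inv hD hz]
          rcases ih with h | h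
          · exact Or.inr (by rwa [rinv_cancel hD hz])
          · exact Or.inl h
        · rw [rinv_inv hD hx]
          have hzxb : z * (a * b) = T * b := by rw [hT, mul_assoc]
          rcases ih with h | h
          · exact Or.inr (by rw [hzxb]; exact mul_mem (Subgroup.mem_zpowers T) h)
          · refine Or.inl ?_
            have : a * b = T⁻¹ * (z * b) := by rw [hTinv, mul_assoc, rinv_cancel hD hz]
            rw [this]
            exact mul_mem (inv_mem (Subgroup.mem_zpowers T)) h
    have ht2 : t * t = 1 := congrArg Subtype.val (hUexp ⟨t, htU⟩)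
    have ht1 : t = 1 := by
      rcases hform with h | h
      · have hdvd : orderOf t ∣ orderOf T := orderOf_dvd_of_mem_zpowers h
        exact eq_one_of_odd (Odd.of_dvd_nat hTodd hdvd) (k := 1) (by rw [pow_one, pow_two, ht2])
      · exfalso
        obtain ⟨i, hi⟩ := Subgroup.mem_zpowers_iff.mp h
        have ht' : t = z * T ^ i := by rw [hi, rinv_cancel hD hz]
        have hTt : T * t * T⁻¹ * t ∈ U := mul_mem (hrot U hUs T (Subgroup.mem_zpowers T) t htU) htU
        have e : T * t * T⁻¹ * t = T ^ (2 : ℕ) := by
          have hcm : T ^ i * T⁻¹ = T⁻¹ * T ^ i := ((Commute.refl T).zpow_left i).inv_right.eq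
          have hzTi : z * T ^ i * z = (T ^ i)⁻¹ :=
            hzt _ (zpow_mem (Subgroup.mem_zpowers T) i)
          rw [ht']
          calc T * (z * T ^ i) * T⁻¹ * (z * T ^ i) = T * z * (T ^ i * T⁻¹) * z * T ^ i := by
                simp [mul_assoc]
            _ = T * z * T⁻¹ * (T ^ i * z * T ^ i) := by rw [hcm]; simp [mul_assoc]
            _ = T * (z * T⁻¹ * z) * ((z * T ^ i * z) * T ^ i) := by
                simp [mul_assoc, rinv_cancel hD hz]
            _ = T * T * 1 := by
                rw [hzTi, inv_mul_cancel, hzt _ (inv_mem (Subgroup.mem_zpowers T)), inv_inv]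
            _ = _ := by rw [mul_one, pow_two]
        rw [e] at hTt
        have h4 : (T ^ 2) * (T ^ 2) = 1 := congrArg Subtype.val (hUexp ⟨_, hTt⟩)
        have : T = 1 := eq_one_of_odd hTodd (k := 2) (by rw [← h4, ← pow_add]; norm_num)
        rw [hT, mul_eq_one_iff_eq_inv, rinv_inv hD hx] at this
        exact hzx ((congrArg (· * x) this).trans (congrArg (x * ·) this.symm))
    rw [ht1, mul_one] at hut
    have h1 : π y0 = y0 := by
      show ∏ t, c t y0 = y0
      rw [Finset.prod_congr rfl (g := fun _ => y0) fun t _ => ?_]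
      · rw [Finset.prod_const, Finset.card_univ, hcard]
        obtain ⟨k, hk⟩ := hTodd
        rw [hk, pow_succ, pow_mul, pow_two, hUexp, one_pow, one_mul]
      · refine Subtype.ext ?_
        show (t : G) * y0 * (t : G)⁻¹ = y0
        have hct : Commute (t : G) (y0 : G) := by
          obtain ⟨i, hi⟩ := Subgroup.mem_zpowers_iff.mp t.2
          rw [← hi]
          exact ((hzc.symm.mul_left hxc.symm).zpow_left i)
        rw [hct.eq, mul_inv_cancel_right]
    rw [← h1]
    exact hπU' y0 (by rw [← hut]; exact hu)
  -- the square of the two steps is injective on the kernel of `π`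
  have hσz2 : ∀ u, σz (σz u) = u := fun u => Subtype.ext (by
    show z * (z * (u : G) * z) * z = u
    simp [mul_assoc, rinv_cancel hD hz, hz2])
  have hσx2 : ∀ u, σx (σx u) = u := fun u => Subtype.ext (by
    show x * (x * (u : G) * x) * x = u
    simp [mul_assoc, rinv_cancel hD hx, hx2])
  have hfix1 : ∀ u, σz u = u → σx u = u → π u = 1 → u = 1 := by
    intro u h1 h2 h3
    have hT : c ⟨T, Subgroup.mem_zpowers T⟩ u = u := by
      have := congrArg σz (hσx u)
      rw [hσz2, h2, h1] at this
      exact this.symm
    have hall : ∀ t, c t u = u := by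
      intro t
      refine Subtype.ext ?_
      show (t : G) * u * (t : G)⁻¹ = u
      have hc' : Commute T (u : G) := mul_inv_eq_iff_eq_mul.mp (congrArg Subtype.val hT)
      obtain ⟨i, hi⟩ := Subgroup.mem_zpowers_iff.mp t.2
      rw [← hi, (hc'.zpow_left i).eq, mul_inv_cancel_right]
    rw [← h3]
    show u = ∏ t, c t u
    rw [Finset.prod_congr rfl (g := fun _ => u) fun t _ => hall t, Finset.prod_const,
      Finset.card_univ, hcard]
    obtain ⟨k, hk⟩ := hTodd
    rw [hk, pow_succ, pow_mul, pow_two, hUexp, one_pow, one_mul]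
  let sx : ↥U → ↥U := fun u => σx u * u
  let sz : ↥U → ↥U := fun u => σz u * u
  let Φ : ↥U → ↥U := fun u => sz (sx u)
  have hΦmul : ∀ u v, Φ (u * v) = Φ u * Φ v := fun u v => by
    show σz (σx (u * v) * (u * v)) * (σx (u * v) * (u * v)) = _
    simp only [Φ, sz, sx, map_mul]
    ac_rfl
  have hΦker : ∀ u, σz u = u → π u = 1 → Φ u = 1 → u = 1 := by
    intro u h1 h2 h3
    refine hfix1 u h1 ?_ h2
    have he : σx u * u = 1 := by
      refine hfix1 _ ?_ ?_ ?_
      · have h4 : σz (σx u * u) * (σx u * u) = 1 := h3
        exact mul_right_cancel (h4.trans (hUexp _).symm)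
      · rw [map_mul, hσx2, mul_comm]
      · rw [map_mul, hπx, h2, map_one, one_mul]
    exact mul_right_cancel (he.trans (hUexp u).symm)
  have hΦfix : ∀ u, σz (Φ u) = Φ u := fun u => by
    show σz (σz (sx u) * sx u) = σz (sx u) * sx u
    rw [map_mul, hσz2, mul_comm]
  have hπΦ : ∀ u, π u = 1 → π (Φ u) = 1 := fun u h => by
    show π (σz (σx u * u) * (σx u * u)) = 1
    simp only [map_mul, hπz, hπx, h, map_one, mul_one]
  have hΦF : ∀ k, Φ (F (2 * k)) = F (2 * (k + 1)) := by
    intro k
    have e1 : sx (F (2 * k)) = F (2 * k + 1) := Subtype.ext (by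
      show x * f (2 * k) * x * f (2 * k) = f (2 * k + 1)
      rw [hfe _ (even_two_mul k), pow_two]
      simp [mul_assoc])
    show sz (sx (F (2 * k))) = _
    rw [e1]
    refine Subtype.ext ?_
    show z * f (2 * k + 1) * z * f (2 * k + 1) = f (2 * k + 1 + 1)
    rw [hfo _ (odd_two_mul_add_one k), pow_two]
    simp [mul_assoc]
  obtain ⟨i, j, hij, hFij⟩ := Finite.exists_ne_map_eq_of_infinite (fun k => F (2 * k))
  wlog hlt : i < j generalizing i j
  · exact this j i hij.symm hFij.symm (by omega)
  -- cancel the iterations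
  obtain ⟨m, hm, hFm⟩ : ∃ m, 0 < m ∧ F (2 * m) = F 0 := by
    refine ⟨j - i, by omega, ?_⟩
    have : ∀ k, k ≤ i → F (2 * (i - k)) = F (2 * (j - k)) := by
      intro k hk
      induction k with
      | zero => exact hFij
      | succ k ih =>
        have h := ih (by omega)
        rw [show i - k = i - (k + 1) + 1 by omega, show j - k = j - (k + 1) + 1 by omega,
          ← hΦF, ← hΦF] at h
        set u := F (2 * (i - (k + 1)))
        set v := F (2 * (j - (k + 1)))
        have hzF : ∀ n, σz (F (2 * n)) = F (2 * n) := fun n => Subtype.ext (by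
          show z * f (2 * n) * z = f (2 * n)
          rw [(hzf _ (even_two_mul n)).eq, rinv_cancel' hD hz])
        have hπF : ∀ n, π (F n) = 1 := fun n => by
          rcases n with _ | n
          · exact hy01
          · exact hπ1 n
        have huv : u * v = 1 := by
          refine hΦker _ ?_ ?_ ?_
          · rw [map_mul, hzF, hzF]
          · rw [map_mul, hπF, hπF, one_mul]
          · rw [hΦmul, h, hUexp]
        exact mul_right_cancel (huv.trans (hUexp v).symm)
    have h := this i le_rfl
    rw [Nat.sub_self, mul_zero] at h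
    exact h.symm
  have hm' : 2 * m = (2 * m - 1) + 1 := by omega
  have hsq : (z * f (2 * m - 1)) ^ 2 = y := by
    rw [← hfo (2 * m - 1) ⟨m - 1, by omega⟩, ← hm']
    exact congrArg Subtype.val hFm
  have hyne : y ≠ 1 := fun e => by
    have := hD.orderOf_eq y hy
    rw [e, orderOf_one] at this
    omega
  refine ⟨f (2 * m - 1), ?_, ?_, hsq⟩
  · refine ((key (2 * m - 1)).2 _ le_rfl).1.resolve_left fun e => hyne ?_
    rw [← hsq, e, mul_one, pow_two, hz2]
  · have h4 : (z * f (2 * m - 1)) ^ (2 ^ (1 + 1)) = 1 := by
      rw [show (2 : ℕ) ^ (1 + 1) = 2 * 2 from rfl, pow_mul, hsq, pow_two, hy2]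
    exact orderOf_eq_prime_pow (p := 2) (n := 1) (by rw [pow_one, hsq]; exact hyne) h4

end Cfsg.Agent.Lib.RootSub
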