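import Cfsg.Agent.Lib.RootSub.RankOne
import Cfsg.Prelude.Def_Transfer

/-!
Rank one groups acting with quadratic unipotent subgroups.
-/

namespace Cfsg.Agent.Lib.RootSub

open Subgroup
open scoped commutatorElement

variable {X : Type*} [Group X] {N : Type*} [AddCommGroup N] [DistribMulAction X N]

variable (X N) in
/-- The action as endomorphisms. -/
def rep : X →* AddMonoid.End N := DistribMulAction.toAddMonoidEnd X N

theorem rep_apply (x : X) (v : N) : (rep X N x) v = x • v := rfl

/-- The endomorphism `x - 1`. -/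
def delta (x : X) : AddMonoid.End N := rep X N x - 1

local notation "ρ" => rep X N

theorem rho_eq (x : X) : (ρ x : AddMonoid.End N) = 1 + delta x := by
  simp [delta]

theorem delta_one : delta (1 : X) = (0 : AddMonoid.End N) := by simp [delta]

theorem delta_mul (x y : X) : delta (x * y) = (delta x + delta y + delta x * delta y : AddMonoid.End N) := by
  simp only [delta, map_mul]; noncomm_ring

theorem delta_mul' (x y : X) : delta (x * y) = (delta x * ρ y + delta y : AddMonoid.End N) := by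
  simp only [delta, map_mul]; noncomm_ring

theorem delta_mul'' (x y : X) : delta (x * y) = (ρ x * delta y + delta x : AddMonoid.End N) := by
  simp only [delta, map_mul]; noncomm_ring

theorem delta_conj (g x : X) : delta (g * x * g⁻¹) = (ρ g * delta x * ρ g⁻¹ : AddMonoid.End N) := by
  have h : (ρ g * ρ g⁻¹ : AddMonoid.End N) = 1 := by rw [← map_mul, mul_inv_cancel, map_one]
  simp only [delta, map_mul, mul_sub, sub_mul, mul_one, h]

theorem delta_eq_zero_iff (hf : ∀ x : X, (∀ v : N, x • v = v) → x = 1) {x : X} :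
    delta x = (0 : AddMonoid.End N) ↔ x = 1 := by
  refine ⟨fun h => hf x fun v => ?_, fun h => h ▸ delta_one⟩
  have := DFunLike.congr_fun h v
  change x • v - v = 0 at this
  exact sub_eq_zero.mp this

/-- All products of two differences from `A` vanish. -/
def ActsQuadratically (A : Subgroup X) (N : Type*) [AddCommGroup N] [DistribMulAction X N] : Prop :=
  ∀ a ∈ A, ∀ a' ∈ A, delta a' * delta a = (0 : AddMonoid.End N)

theorem actsQuadratically_of {A : Subgroup X}
    (hq : ∀ a ∈ A, ∀ a' ∈ A, ∀ n : N, a' • (a • n - n) = a • n - n) : ActsQuadratically A N := by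
  intro a ha a' ha'
  refine AddMonoidHom.ext fun n => ?_
  change a' • (a • n - n) - (a • n - n) = 0
  rw [hq a ha a' ha' n, sub_self]

theorem ActsQuadratically.conjBy {A : Subgroup X} (h : ActsQuadratically A N) (g : X) :
    ActsQuadratically (Cfsg.conjBy A g) N := by
  intro u hu v hv
  obtain ⟨a, ha, rfl⟩ : ∃ a ∈ A, g * a * g⁻¹ = u := ⟨g⁻¹ * u * g, mem_conjBy.mp hu, by group⟩
  obtain ⟨b, hb, rfl⟩ : ∃ b ∈ A, g * b * g⁻¹ = v := ⟨g⁻¹ * v * g, mem_conjBy.mp hv, by group⟩
  have e : (ρ g⁻¹ * ρ g : AddMonoid.End N) = 1 := by rw [← map_mul, inv_mul_cancel, map_one]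
  rw [delta_conj, delta_conj]
  calc (ρ g * delta b * ρ g⁻¹ * (ρ g * delta a * ρ g⁻¹) : AddMonoid.End N)
      = ρ g * (delta b * (ρ g⁻¹ * ρ g) * delta a) * ρ g⁻¹ := by noncomm_ring
    _ = 0 := by rw [e, mul_one, h a ha b hb]; simp

theorem ActsQuadratically.delta_mul {A : Subgroup X} (h : ActsQuadratically A N) {x y : X}
    (hx : x ∈ A) (hy : y ∈ A) : delta (x * y) = (delta x + delta y : AddMonoid.End N) := by
  rw [Cfsg.Agent.Lib.RootSub.delta_mul, h y hy x hx, add_zero]

theorem ActsQuadratically.delta_inv {A : Subgroup X} (h : ActsQuadratically A N) {x : X}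
    (hx : x ∈ A) : delta x⁻¹ = (-delta x : AddMonoid.End N) := by
  have := h.delta_mul (inv_mem hx) hx
  rw [inv_mul_cancel, delta_one] at this
  exact eq_neg_of_add_eq_zero_left this.symm

theorem ActsQuadratically.delta_pow {A : Subgroup X} (h : ActsQuadratically A N) {x : X}
    (hx : x ∈ A) (n : ℕ) : delta (x ^ n) = (n • delta x : AddMonoid.End N) := by
  induction n with
  | zero => simp [delta_one]
  | succ n ih => rw [pow_succ, h.delta_mul (pow_mem hx n) hx, ih, succ_nsmul]

/-- The key computation: paired elements agree up to an element fixing everything. -/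
theorem quadratic_special {A B : Subgroup X} (h : Cfsg.IsRankOneGroup X A B)
    (hqA : ActsQuadratically A N)
    (hX : ∃ x y : X, (delta y * delta x : AddMonoid.End N) ≠ 0) {a b : X}
    (ha : a ∈ A) (hb : b ∈ B) (he : Cfsg.conjBy A b⁻¹ = Cfsg.conjBy B a⁻¹) :
    b⁻¹ * a * b = a⁻¹ * b⁻¹ * a := by
  obtain ⟨htop, hp⟩ := h
  have hker : (ρ).ker ≤ center X := by
    rcases normal_sup_or_central ⟨htop, hp⟩ (ρ).ker inferInstance with hsup | hle
    · exfalso
      obtain ⟨x, y, hxy⟩ := hX
      obtain ⟨k, hk, u, hu, rfl⟩ := mem_sup_of_normal_left.mp (hsup ▸ mem_top x : x ∈ (ρ).ker ⊔ A)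
      obtain ⟨l, hl, v, hv, rfl⟩ := mem_sup_of_normal_left.mp (hsup ▸ mem_top y : y ∈ (ρ).ker ⊔ A)
      apply hxy
      rw [MonoidHom.mem_ker] at hk hl
      have e1 : delta (k * u) = (delta u : AddMonoid.End N) := by simp [delta, map_mul, hk]
      have e2 : delta (l * v) = (delta v : AddMonoid.End N) := by simp [delta, map_mul, hl]
      rw [e1, e2, hqA u hu v hv]
    · exact hle
  have hqC := hqA.conjBy b⁻¹
  obtain ⟨x₀, -, hx₀⟩ := exists_conj hp
  have hqB : ActsQuadratically B N := hx₀ ▸ hqA.conjBy x₀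
  set c := b⁻¹ * a * b with hc
  set d := a⁻¹ * b⁻¹ * a with hd
  have hcC : c ∈ Cfsg.conjBy A b⁻¹ := by simpa [hc] using conj_mem_conjBy (g := b⁻¹) ha
  have hdC : d ∈ Cfsg.conjBy A b⁻¹ := by
    rw [he]; simpa [hd] using conj_mem_conjBy (g := a⁻¹) (inv_mem hb)
  set g := c * d⁻¹ with hg
  have hgC : g ∈ Cfsg.conjBy A b⁻¹ := mul_mem hcC (inv_mem hdC)
  set α : AddMonoid.End N := delta a with hα
  set β : AddMonoid.End N := delta b with hβ
  have hαα : α * α = 0 := hqA a ha a ha
  have hββ : β * β = 0 := hqB b hb b hb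
  have hcβ : (1 + β) * (1 - β) = 1 := by
    calc (1 + β) * (1 - β) = 1 - β * β := by noncomm_ring
      _ = 1 := by rw [hββ, sub_zero]
  have hcα : (1 + α) * (1 - α) = 1 := by
    calc (1 + α) * (1 - α) = 1 - α * α := by noncomm_ring
      _ = 1 := by rw [hαα, sub_zero]
  have hδc : ∀ u ∈ A, (delta (b⁻¹ * u * b) : AddMonoid.End N) = (1 - β) * delta u * (1 + β) := by
    intro u _
    have := delta_conj (N := N) b⁻¹ u
    rw [inv_inv] at this
    rw [this, rho_eq, rho_eq, hqB.delta_inv hb, ← hβ, sub_eq_add_neg]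
  have hδd : ∀ v ∈ B, (delta (a⁻¹ * v⁻¹ * a) : AddMonoid.End N) = -((1 - α) * delta v * (1 + α)) := by
    intro v hv
    have := delta_conj (N := N) a⁻¹ v⁻¹
    rw [inv_inv] at this
    rw [this, rho_eq, rho_eq, hqA.delta_inv ha, hqB.delta_inv hv, ← hα, sub_eq_add_neg]
    noncomm_ring
  have hmemc : ∀ u ∈ A, b⁻¹ * u * b ∈ Cfsg.conjBy A b⁻¹ := fun u hu => by
    simpa using conj_mem_conjBy (g := b⁻¹) hu
  have hmemd : ∀ v ∈ B, a⁻¹ * v⁻¹ * a ∈ Cfsg.conjBy A b⁻¹ := fun v hv => by
    rw [he]; simpa using conj_mem_conjBy (g := a⁻¹) (inv_mem hv)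
  have rel1 : ∀ u ∈ A, ∀ v ∈ B, delta u * (1 + β) * (1 - α) * delta v = (0 : AddMonoid.End N) := by
    intro u hu v hv
    have h0 := hqC _ (hmemd v hv) _ (hmemc u hu)
    rw [hδc u hu, hδd v hv, mul_neg, neg_eq_zero] at h0
    calc delta u * (1 + β) * (1 - α) * delta v
        = ((1 + β) * (1 - β)) * delta u * (1 + β) * (1 - α) * delta v * ((1 + α) * (1 - α)) := by
          rw [hcβ, hcα, one_mul, mul_one]
      _ = (1 + β) * ((1 - β) * delta u * (1 + β) * ((1 - α) * delta v * (1 + α))) * (1 - α) := by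
          noncomm_ring
      _ = 0 := by rw [h0]; simp
  have rel2 : ∀ u ∈ A, ∀ v ∈ B, delta v * (1 + α) * (1 - β) * delta u = (0 : AddMonoid.End N) := by
    intro u hu v hv
    have h0 := hqC _ (hmemc u hu) _ (hmemd v hv)
    rw [hδc u hu, hδd v hv, neg_mul, neg_eq_zero] at h0
    calc delta v * (1 + α) * (1 - β) * delta u
        = ((1 + α) * (1 - α)) * delta v * (1 + α) * (1 - β) * delta u * ((1 + β) * (1 - β)) := by
          rw [hcβ, hcα, one_mul, mul_one]
      _ = (1 + α) * ((1 - α) * delta v * (1 + α) * ((1 - β) * delta u * (1 + β))) * (1 - β) := by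
          noncomm_ring
      _ = 0 := by rw [h0]; simp
  set ξ : AddMonoid.End N := delta g with hξ
  have hξeq : ξ = α + β - β * α * β - α * β * α := by
    rw [hξ, hg, hqC.delta_mul hcC (inv_mem hdC), hqC.delta_inv hdC, hc, hd, hδc a ha, hδd b hb, ← hα,
      ← hβ]
    noncomm_ring
  have hAl : ∀ u ∈ A, delta u * ξ = 0 ∧ ξ * delta u = (0 : AddMonoid.End N) := by
    intro u hu
    have h1 : delta u * α = (0 : AddMonoid.End N) := hqA a ha u hu
    have h2 : α * delta u = (0 : AddMonoid.End N) := hqA u hu a ha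
    constructor
    · calc delta u * ξ = delta u * (1 + β) * (1 - α) * β + delta u * α * (1 - β * α + β) - delta u * (β * β) := by
            rw [hξeq]; noncomm_ring
        _ = 0 := by rw [rel1 u hu b hb, h1, hββ]; simp
    · calc ξ * delta u = β * (1 + α) * (1 - β) * delta u + (1 - α * β - β) * (α * delta u) + β * β * delta u := by
            rw [hξeq]; noncomm_ring
        _ = 0 := by rw [rel2 u hu b hb, h2, hββ]; simp
  have hBl : ∀ v ∈ B, delta v * ξ = 0 ∧ ξ * delta v = (0 : AddMonoid.End N) := by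
    intro v hv
    have h1 : delta v * β = (0 : AddMonoid.End N) := hqB b hb v hv
    have h2 : β * delta v = (0 : AddMonoid.End N) := hqB v hv b hb
    constructor
    · calc delta v * ξ = delta v * (1 + α) * (1 - β) * α + delta v * β * (1 - α * β + α) - delta v * (α * α) := by
            rw [hξeq]; noncomm_ring
        _ = 0 := by rw [rel2 a ha v hv, h1, hαα]; simp
    · calc ξ * delta v = α * (1 + β) * (1 - α) * delta v + (1 - β * α - α) * (β * delta v) + α * α * delta v := by
            rw [hξeq]; noncomm_ring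
        _ = 0 := by rw [rel1 a ha v hv, h2, hαα]; simp
  have hcent : ∀ y : X, (ρ y * ξ : AddMonoid.End N) = ξ ∧ ξ * ρ y = ξ := by
    intro y
    have hy : y ∈ A ⊔ B := htop ▸ mem_top y
    rw [Subgroup.sup_eq_closure] at hy
    induction hy using Subgroup.closure_induction with
    | mem u hu =>
      rcases hu with hu | hu
      · rw [rho_eq, add_mul, mul_add, (hAl u hu).1, (hAl u hu).2, one_mul, mul_one, add_zero]
        exact ⟨rfl, rfl⟩
      · rw [rho_eq, add_mul, mul_add, (hBl u hu).1, (hBl u hu).2, one_mul, mul_one, add_zero]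
        exact ⟨rfl, rfl⟩
    | one => simp
    | mul u v _ _ hu hv => rw [map_mul]; exact ⟨by rw [mul_assoc, hv.1, hu.1], by rw [← mul_assoc, hu.2, hv.2]⟩
    | inv u _ hu =>
      have e1 : (ρ u⁻¹ * ρ u : AddMonoid.End N) = 1 := by rw [← map_mul, inv_mul_cancel, map_one]
      have e2 : (ρ u * ρ u⁻¹ : AddMonoid.End N) = 1 := by rw [← map_mul, mul_inv_cancel, map_one]
      constructor
      · conv_lhs => rw [← hu.1, ← mul_assoc, e1, one_mul]
      · conv_lhs => rw [← hu.2, mul_assoc, e2, mul_one]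
  have hgZ : g ∈ Subgroup.upperCentralSeries X 2 := by
    rw [Subgroup.mem_upperCentralSeries_succ_iff]
    intro y
    rw [Subgroup.upperCentralSeries_one]
    apply hker
    rw [MonoidHom.mem_ker, commutatorElement_def]
    have hcomm : (ρ g * ρ y : AddMonoid.End N) = ρ y * ρ g := by
      rw [rho_eq g, ← hξ, add_mul, mul_add, (hcent y).1, (hcent y).2, one_mul, mul_one]
    rw [map_mul, map_mul, map_mul, hcomm, mul_assoc (ρ y) (ρ g), ← map_mul _ g, mul_inv_cancel,
      map_one, mul_one, ← map_mul, mul_inv_cancel, map_one]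
  rw [upperCentralSeries_two ⟨htop, hp⟩] at hgZ
  have hg1 : g = 1 := eq_one_of_fix (isRankOnePair_conjBy hp b⁻¹) hgC
    (conjBy_of_commute fun x _ => ((mem_center_iff.mp hgZ) x).symm)
  exact mul_inv_eq_one.mp hg1

/-- A rank one group cannot act with all products of four differences zero. -/
theorem exists_delta_prod_ne_zero {A B : Subgroup X} (h : Cfsg.IsRankOneGroup X A B)
    (hf : ∀ x : X, (∀ v : N, x • v = v) → x = 1) :
    ¬ ∀ x y z w : X, delta x * delta y * delta z * delta w = (0 : AddMonoid.End N) := by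
  intro h4
  apply not_isNilpotent h
  let I : ℕ → AddSubgroup (AddMonoid.End N) := fun j => AddSubgroup.closure
    {f | ∃ l : List X, ∃ z : X, l.length = j ∧ f = (l.map delta).prod * ρ z}
  have hI1 : ∀ x : X, (delta x : AddMonoid.End N) ∈ I 1 := fun x =>
    AddSubgroup.subset_closure ⟨[x], 1, rfl, by simp⟩
  have hright : ∀ (j : ℕ) (f : AddMonoid.End N), f ∈ I j → ∀ z : X, f * ρ z ∈ I j := by
    intro j f hf z
    induction hf using AddSubgroup.closure_induction with
    | mem u hu =>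
      obtain ⟨l, w, hl, rfl⟩ := hu
      exact AddSubgroup.subset_closure ⟨l, w * z, hl, by rw [map_mul, mul_assoc]⟩
    | zero => rw [zero_mul]; exact zero_mem _
    | add u v _ _ hu hv => rw [add_mul]; exact add_mem hu hv
    | neg u _ hu => rw [neg_mul]; exact neg_mem hu
  have hstep : ∀ (j : ℕ) (f : AddMonoid.End N), f ∈ I j → ∀ y : X,
      f * delta y ∈ I (j + 1) ∧ delta y * f ∈ I (j + 1) := by
    intro j f hf y
    induction hf using AddSubgroup.closure_induction with
    | mem u hu =>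
      obtain ⟨l, w, hl, rfl⟩ := hu
      refine ⟨AddSubgroup.subset_closure ⟨l ++ [w * y * w⁻¹], w, by simp [hl], ?_⟩,
        AddSubgroup.subset_closure ⟨y :: l, w, by simp [hl], by simp [mul_assoc]⟩⟩
      have e : (ρ w⁻¹ * ρ w : AddMonoid.End N) = 1 := by rw [← map_mul, inv_mul_cancel, map_one]
      rw [List.map_append, List.prod_append, List.map_singleton, List.prod_singleton, delta_conj]
      simp only [mul_assoc, e, mul_one]
    | zero => simp [zero_mem]
    | add u v _ _ hu hv => rw [add_mul, mul_add]; exact ⟨add_mem hu.1 hv.1, add_mem hu.2 hv.2⟩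
    | neg u _ hu => rw [neg_mul, mul_neg]; exact ⟨neg_mem hu.1, neg_mem hu.2⟩
  have hI4 : ∀ f ∈ I 4, f = (0 : AddMonoid.End N) := by
    intro f hf
    induction hf using AddSubgroup.closure_induction with
    | mem u hu =>
      obtain ⟨l, w, hl, rfl⟩ := hu
      match l, hl with
      | [a, b, c, d], _ => simp [← mul_assoc, h4]
    | zero => rfl
    | add u v _ _ hu hv => rw [hu, hv, add_zero]
    | neg u _ hu => rw [hu, neg_zero]
  let L : ℕ → Subgroup X := fun j =>
    { carrier := {x | (delta x : AddMonoid.End N) ∈ I j}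
      one_mem' := by simp [delta_one, zero_mem]
      mul_mem' := fun {x y} hx hy => by
        change delta (x * y) ∈ I j
        rw [delta_mul']
        exact add_mem (hright j _ hx y) hy
      inv_mem' := fun {x} hx => by
        change delta x⁻¹ ∈ I j
        have : (delta x⁻¹ : AddMonoid.End N) = -(delta x * ρ x⁻¹) := by
          have := delta_mul' (N := N) x x⁻¹
          rw [mul_inv_cancel, delta_one] at this
          exact eq_neg_of_add_eq_zero_right this.symm
        rw [this]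
        exact neg_mem (hright j _ hx _) }
  have hlcs : ∀ n, (⊤ : Subgroup X).lowerCentralSeries n ≤ L (n + 1) := by
    intro n
    induction n with
    | zero => exact fun x _ => hI1 x
    | succ n ih =>
      refine commutator_le.mpr fun x hx y _ => ?_
      change delta ⁅x, y⁆ ∈ I (n + 1 + 1)
      have e : (delta ⁅x, y⁆ : AddMonoid.End N) = (delta x * delta y - delta y * delta x) * ρ (x⁻¹ * y⁻¹) := by
        have h1 : (ρ (y * x) * ρ (x⁻¹ * y⁻¹) : AddMonoid.End N) = 1 := by
          rw [← map_mul]; simp [mul_assoc]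
        calc (delta ⁅x, y⁆ : AddMonoid.End N) = ρ (x * y) * ρ (x⁻¹ * y⁻¹) - ρ (y * x) * ρ (x⁻¹ * y⁻¹) := by
              rw [h1, ← map_mul, delta, commutatorElement_def]; simp [mul_assoc]
          _ = _ := by rw [← sub_mul, map_mul, map_mul, rho_eq x, rho_eq y]; congr 1; noncomm_ring
      rw [e]
      exact hright _ _ (sub_mem (hstep _ _ (ih hx) y).1 (hstep _ _ (ih hx) y).2) _
  rw [Subgroup.nilpotent_iff_lowerCentralSeries]
  refine ⟨3, eq_bot_iff.mpr fun x hx => mem_bot.mpr ?_⟩
  exact (delta_eq_zero_iff hf).mp (hI4 _ (hlcs 3 hx))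

theorem torsion_dichotomy {A B : Subgroup X} (h : Cfsg.IsRankOneGroup X A B)
    (hf : ∀ x : X, (∀ v : N, x • v = v) → x = 1) (hq : ActsQuadratically A N) :
    (∀ a ∈ A, a ≠ 1 → ¬ IsOfFinOrder a) ∨ ∃ p : ℕ, p.Prime ∧ Cfsg.IsElementaryAbelian p A := by
  have hab : IsMulCommutative A := by
    refine ⟨⟨fun u v => Subtype.ext ?_⟩⟩
    change (u : X) * v = v * u
    rw [← mul_inv_eq_one, ← delta_eq_zero_iff hf, hq.delta_mul (mul_mem u.2 v.2)
      (inv_mem (mul_mem v.2 u.2)), hq.delta_inv (mul_mem v.2 u.2), hq.delta_mul u.2 v.2, hq.delta_mul v.2 u.2]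
    abel
  rw [or_iff_not_imp_left]
  intro hfin
  push Not at hfin
  obtain ⟨a₀, ha₀, ha₀1, hfin⟩ := hfin
  obtain ⟨p, hp, hpn⟩ := Nat.exists_prime_and_dvd (fun e => ha₀1 (orderOf_eq_one_iff.mp e))
  refine ⟨p, hp, hab, ?_⟩
  by_contra hne
  push Not at hne
  obtain ⟨a₁, ha₁, ha₁p⟩ := hne
  set t := a₀ ^ (orderOf a₀ / p) with ht
  have htp : t ^ p = 1 := by rw [ht, ← pow_mul, Nat.div_mul_cancel hpn, pow_orderOf_eq_one]
  have ht1 : t ≠ 1 := by
    intro e
    have h1 := orderOf_dvd_of_pow_eq_one e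
    have hpos : 0 < orderOf a₀ := hfin.orderOf_pos
    have h2 := Nat.le_of_dvd (Nat.div_pos (Nat.le_of_dvd hpos hpn) hp.pos) h1
    have h3 := Nat.div_lt_self hpos hp.one_lt
    omega
  set P : AddMonoid.End N := (p : AddMonoid.End N) with hP
  have hPc : ∀ f : AddMonoid.End N, P * f = f * P := fun f => (Nat.cast_commute p f).eq
  let K₁ : Subgroup X :=
    { carrier := {x | (delta x * P : AddMonoid.End N) = 0}
      one_mem' := by simp [delta_one]
      mul_mem' := fun {x y} (hx : delta x * P = 0) (hy : delta y * P = 0) => by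
        change delta (x * y) * P = 0
        rw [delta_mul'', add_mul, mul_assoc, hy, hx, mul_zero, add_zero]
      inv_mem' := fun {x} (hx : delta x * P = 0) => by
        change delta x⁻¹ * P = 0
        have := delta_mul'' (N := N) x⁻¹ x
        rw [inv_mul_cancel, delta_one] at this
        rw [eq_neg_of_add_eq_zero_right this.symm, neg_mul, mul_assoc, hx, mul_zero, neg_zero] }
  let K₂ : Subgroup X :=
    { carrier := {x | ∃ f : AddMonoid.End N, delta x = P * f}
      one_mem' := ⟨0, by simp [delta_one]⟩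
      mul_mem' := by
        rintro x y ⟨f, hx⟩ ⟨g, hy⟩
        exact ⟨ρ x * g + f, by rw [delta_mul'', hx, hy, mul_add, ← mul_assoc, ← hPc, mul_assoc]⟩
      inv_mem' := by
        rintro x ⟨f, hx⟩
        refine ⟨-(ρ x⁻¹ * f), ?_⟩
        have := delta_mul'' (N := N) x⁻¹ x
        rw [inv_mul_cancel, delta_one] at this
        rw [eq_neg_of_add_eq_zero_right this.symm, hx, ← mul_assoc, ← hPc, mul_assoc, mul_neg] }
  have hn₁ : K₁.Normal := ⟨fun x (hx : delta x * P = 0) g => by
    change delta (g * x * g⁻¹) * P = 0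
    rw [delta_conj, mul_assoc, ← hPc, ← mul_assoc, mul_assoc _ _ P, hx, mul_zero, zero_mul]⟩
  have hn₂ : K₂.Normal := ⟨by
    rintro x ⟨f, hx⟩ g
    refine ⟨ρ g * f * ρ g⁻¹, ?_⟩
    rw [delta_conj, hx, ← mul_assoc (ρ g) P, ← hPc]
    simp only [mul_assoc]⟩
  have hsup : ∀ (K : Subgroup X) (_ : K.Normal) (u : X), u ∈ A → u ≠ 1 → u ∈ K → K ⊔ A = ⊤ := by
    intro K hK u hu hu1 huK
    refine (normal_sup_or_central h K hK).resolve_right fun hle => hu1 ?_
    exact eq_one_of_fix h.2 hu (conjBy_of_commute fun x _ => ((mem_center_iff.mp (hle huK)) x).symm)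
  have hs₁ : K₁ ⊔ A = ⊤ := hsup K₁ hn₁ t (pow_mem ha₀ _) ht1 (by
    change delta t * P = 0
    rw [← hPc, hP, ← nsmul_eq_mul, ← hq.delta_pow (pow_mem ha₀ _), htp, delta_one])
  have hs₂ : K₂ ⊔ A = ⊤ := hsup K₂ hn₂ (a₁ ^ p) (pow_mem ha₁ _) ha₁p
    ⟨delta a₁, by rw [hq.delta_pow ha₁, nsmul_eq_mul]⟩
  refine exists_delta_prod_ne_zero (N := N) h hf fun x y z w => ?_
  have d1 : ∀ x : X, ∃ a ∈ A, (delta x * P : AddMonoid.End N) = P * delta a := by
    intro x
    obtain ⟨k, hk, a, ha, rfl⟩ := mem_sup_of_normal_left.mp (hs₁ ▸ mem_top x : x ∈ K₁ ⊔ A)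
    refine ⟨a, ha, ?_⟩
    have hk' : delta k * P = 0 := hk
    rw [delta_mul'', add_mul, hk', add_zero, mul_assoc, ← hPc (delta a), ← mul_assoc, rho_eq, add_mul,
      one_mul, hk', add_zero]
  have d2 : ∀ x : X, ∃ a ∈ A, ∃ f : AddMonoid.End N, delta x = delta a + P * f := by
    intro x
    obtain ⟨k, ⟨f, hk⟩, a, ha, rfl⟩ := mem_sup_of_normal_left.mp (hs₂ ▸ mem_top x : x ∈ K₂ ⊔ A)
    refine ⟨a, ha, f * delta a + f, ?_⟩
    rw [delta_mul, hk]
    noncomm_ring
  obtain ⟨a, ha, hx⟩ := d1 x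
  obtain ⟨b, hb, hy⟩ := d1 y
  obtain ⟨c, hc, f, hz⟩ := d2 z
  obtain ⟨d, hd, g, hw⟩ := d2 w
  have hzw : ∃ r : AddMonoid.End N, delta z * delta w = P * r := by
    refine ⟨f * delta d + (delta c + P * f) * g, ?_⟩
    rw [hz, hw, mul_add, add_mul, hq d hd c hc, zero_add, mul_add P, ← mul_assoc _ P g, ← hPc]
    noncomm_ring
  obtain ⟨r, hr⟩ := hzw
  rw [mul_assoc (delta x * delta y), hr, mul_assoc, ← mul_assoc (delta y), hy, ← mul_assoc,
    ← mul_assoc (delta x) P, hx, mul_assoc P, hq b hb a ha]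
  simp

end Cfsg.Agent.Lib.RootSub
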