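import Cfsg.Agent.Lib.RootSub.RankOne

/-!
Special rank one groups with abelian unipotent subgroups: the scaling identity.
-/

namespace Cfsg.Agent.Lib.RootSub

open Subgroup

variable {G : Type*} [Group G] {A B : Subgroup G}

/-- `a` and `c` are paired: they satisfy the braid relation. -/
def IsBraidPair (A B : Subgroup G) (a c : G) : Prop :=
  a ∈ A ∧ a ≠ 1 ∧ c ∈ B ∧ c ≠ 1 ∧ a * c * a = c * a * c

namespace IsBraidPair

variable {a c : G}

theorem symm (h : IsBraidPair A B a c) : IsBraidPair B A c a :=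
  ⟨h.2.2.1, h.2.2.2.1, h.1, h.2.1, h.2.2.2.2.symm⟩

theorem inv (h : IsBraidPair A B a c) : IsBraidPair A B a⁻¹ c⁻¹ :=
  ⟨inv_mem h.1, inv_ne_one.mpr h.2.1, inv_mem h.2.2.1, inv_ne_one.mpr h.2.2.2.1,
    by rw [← mul_inv_rev, ← mul_inv_rev, ← mul_inv_rev, ← mul_inv_rev, ← mul_assoc, ← mul_assoc, h.2.2.2.2]⟩

theorem conj_eq (h : IsBraidPair A B a c) : c * a * c⁻¹ = a⁻¹ * c * a := by
  have e := h.2.2.2.2
  calc c * a * c⁻¹ = a⁻¹ * (a * c * a) * c⁻¹ := by group
    _ = a⁻¹ * (c * a * c) * c⁻¹ := by rw [e]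
    _ = _ := by group

theorem conjBy_eq (hp : Cfsg.IsRankOnePair A B) (_hA : ∀ x ∈ A, ∀ y ∈ A, x * y = y * x)
    (h : IsBraidPair A B a c) : Cfsg.conjBy A c = Cfsg.conjBy B a⁻¹ := by
  have hm1 : Cfsg.conjBy A c ∈ Cfsg.unipotentSubgroups A B :=
    conj_mem_unipotents left_mem_unipotents (mem_sup_right h.2.2.1)
  have hm2 : Cfsg.conjBy B a⁻¹ ∈ Cfsg.unipotentSubgroups A B :=
    conj_mem_unipotents (right_mem_unipotents hp) (mem_sup_left (inv_mem h.1))
  have hu : c * a * c⁻¹ ∈ Cfsg.conjBy B a⁻¹ := by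
    rw [h.conj_eq]
    simpa using conj_mem_conjBy (g := a⁻¹) h.2.2.1
  refine (eq_of_fix hp hm2 hm1 hu (by simp [conj_eq_one_iff, h.2.1]) ?_).symm
  rw [conjBy_conjBy, inv_mul_cancel_right, ← conjBy_conjBy, conjBy_of_mem h.1]

/-- The swapping element. -/
theorem swap_conj (h : IsBraidPair A B a c) : (a * c * a) * a * (a * c * a)⁻¹ = c := by
  rw [mul_inv_eq_iff_eq_mul]
  conv_lhs => rw [h.2.2.2.2]
  group

theorem swap_conj' (h : IsBraidPair A B a c) : (a * c * a) * c * (a * c * a)⁻¹ = a := by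
  rw [mul_inv_eq_iff_eq_mul]
  conv_rhs => rw [h.2.2.2.2]
  group

theorem swap_left (hp : Cfsg.IsRankOnePair A B) (hA : ∀ x ∈ A, ∀ y ∈ A, x * y = y * x)
    (h : IsBraidPair A B a c) : Cfsg.conjBy A (a * c * a) = B := by
  rw [← conjBy_conjBy, conjBy_of_mem h.1, ← conjBy_conjBy, h.conjBy_eq hp hA, conjBy_conjBy,
    mul_inv_cancel, conjBy_one]

theorem swap_right (hp : Cfsg.IsRankOnePair A B) (hB : ∀ x ∈ B, ∀ y ∈ B, x * y = y * x)
    (h : IsBraidPair A B a c) : Cfsg.conjBy B (a * c * a) = A := by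
  rw [h.2.2.2.2]
  exact h.symm.swap_left (Cfsg.RankOnePair_symm hp) hB

end IsBraidPair

/-- A rank one pair with abelian unipotent subgroups in which every element is paired. -/
structure IsBraided (A B : Subgroup G) : Prop where
  pair : Cfsg.IsRankOnePair A B
  comm_left : ∀ x ∈ A, ∀ y ∈ A, x * y = y * x
  comm_right : ∀ x ∈ B, ∀ y ∈ B, x * y = y * x
  exists_right : ∀ a ∈ A, a ≠ 1 → ∃ c, IsBraidPair A B a c
  exists_left : ∀ c ∈ B, c ≠ 1 → ∃ a, IsBraidPair A B a c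

theorem isBraided_of_special (hs : Cfsg.IsSpecialRankOnePair A B)
    (hab : Cfsg.HasAbelianUnipotents A B) : IsBraided A B := by
  have key : ∀ a ∈ A, a ≠ 1 → ∀ b ∈ B, b ≠ 1 → Cfsg.conjBy A b⁻¹ = Cfsg.conjBy B a⁻¹ →
      IsBraidPair A B a b⁻¹ := by
    intro a ha ha1 b hb hb1 h
    refine ⟨ha, ha1, inv_mem hb, inv_ne_one.mpr hb1, ?_⟩
    have := hs.2 a ha ha1 b hb hb1 h
    calc a * b⁻¹ * a = a * (b⁻¹ * a * b) * b⁻¹ := by group
      _ = a * (a⁻¹ * b⁻¹ * a) * b⁻¹ := by rw [this]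
      _ = _ := by group
  refine ⟨hs.1, fun x hx y hy => congrArg Subtype.val (hab.1.is_comm.comm ⟨x, hx⟩ ⟨y, hy⟩),
    fun x hx y hy => congrArg Subtype.val (hab.2.is_comm.comm ⟨x, hx⟩ ⟨y, hy⟩), ?_, ?_⟩
  · intro a ha ha1
    obtain ⟨b, hb, hb1, he⟩ := hs.1.cond_left a ha ha1
    exact ⟨b⁻¹, key a ha ha1 b hb hb1 he⟩
  · intro c hc hc1
    obtain ⟨a, ha, ha1, he⟩ := hs.1.cond_right c⁻¹ (inv_mem hc) (inv_ne_one.mpr hc1)
    refine ⟨a, ?_⟩
    have := key a ha ha1 c⁻¹ (inv_mem hc) (inv_ne_one.mpr hc1) he.symm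
    rwa [inv_inv] at this

namespace IsBraided

variable {a a' c c' : G}

theorem symm (h : IsBraided A B) : IsBraided B A :=
  ⟨Cfsg.RankOnePair_symm h.pair, h.comm_right, h.comm_left,
    fun c hc hc1 => (h.exists_left c hc hc1).imp fun _ hp => hp.symm,
    fun a ha ha1 => (h.exists_right a ha ha1).imp fun _ hp => hp.symm⟩

theorem unique_right (h : IsBraided A B) (h₁ : IsBraidPair A B a c) (h₂ : IsBraidPair A B a c') :
    c = c' := by
  have he := (h₁.conjBy_eq h.pair h.comm_left).trans (h₂.conjBy_eq h.pair h.comm_left).symm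
  have : c'⁻¹ * c = 1 := by
    apply eq_one_of_fix (Cfsg.RankOnePair_symm h.pair) (mul_mem (inv_mem h₂.2.2.1) h₁.2.2.1)
    rw [← conjBy_conjBy, he, conjBy_conjBy, inv_mul_cancel, conjBy_one]
  exact (inv_mul_eq_one.mp this).symm

theorem unique_left (h : IsBraided A B) (h₁ : IsBraidPair A B a c) (h₂ : IsBraidPair A B a' c) :
    a = a' := h.symm.unique_right h₁.symm h₂.symm

theorem pair_of_conjBy (h : IsBraided A B) (ha : a ∈ A) (hc : c ∈ B)
    (he : Cfsg.conjBy A c = Cfsg.conjBy B a⁻¹) : IsBraidPair A B a c := by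
  have ha1 : a ≠ 1 := by
    rintro rfl
    rw [inv_one, conjBy_one, conjBy_eq_iff, conjBy_of_mem (inv_mem hc)] at he
    exact h.pair.ne he
  obtain ⟨c', hp⟩ := h.exists_right a ha ha1
  have he' := he.trans (hp.conjBy_eq h.pair h.comm_left).symm
  have : c'⁻¹ * c = 1 := by
    apply eq_one_of_fix (Cfsg.RankOnePair_symm h.pair) (mul_mem (inv_mem hp.2.2.1) hc)
    rw [← conjBy_conjBy, he', conjBy_conjBy, inv_mul_cancel, conjBy_one]
  rw [← inv_mul_eq_one.mp this]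
  exact hp

theorem torsionFree_right (h : IsBraided A B) {k : ℕ} (hk : ∀ u ∈ A, u ^ k = 1 → u = 1) :
    ∀ v ∈ B, v ^ k = 1 → v = 1 := by
  intro v hv hvk
  obtain ⟨a, ha, ha1⟩ := exists_ne_one_left h.pair
  obtain ⟨c, hp⟩ := h.exists_right a ha ha1
  have hm := mem_conjBy.mp ((hp.swap_left h.pair h.comm_left).ge hv)
  have := hk _ hm (by
    rw [show (a * c * a)⁻¹ * v * (a * c * a) = (a * c * a)⁻¹ * v * ((a * c * a)⁻¹)⁻¹ by group, conj_pow, hvk]
    group)
  simpa [mul_inv_eq_one, inv_mul_eq_one, mul_assoc] using congrArg (fun u => (a * c * a) * u * (a * c * a)⁻¹) this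

/-- The scaling identity `b(m a) ^ m = b(a)`. -/
theorem scaling (h : IsBraided A B) (m : ℕ) (hm1 : 1 ≤ m)
    (hm : ∀ k, 1 ≤ k → k < m → ∀ u ∈ A, u ^ k = 1 → u = 1) :
    ∀ a c d : G, IsBraidPair A B a c → IsBraidPair A B (a ^ m) d → d ^ m = c := by
  induction m, hm1 using Nat.le_induction with
  | base =>
    intro a c d hc hd
    rw [pow_one] at hd ⊢
    exact h.unique_right hd hc
  | succ m hm1 ih =>
    intro a c e hac hae
    have ih := ih fun k h1 h2 => hm k h1 (h2.trans (Nat.lt_succ_self m))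
    have htA := hm m hm1 (Nat.lt_succ_self m)
    have htB := h.torsionFree_right htA
    have hx1 : a ^ m ≠ 1 := fun e => hac.2.1 (htA a hac.1 e)
    obtain ⟨d, hxd⟩ := h.exists_right (a ^ m) (pow_mem hac.1 m) hx1
    have hdm := ih a c d hac hxd
    set n := a * c * a with hn
    have hnA := hac.swap_left h.pair h.comm_left
    have hnB := hac.swap_right h.pair h.comm_right
    set z := n⁻¹ * e * n with hz
    have hzA : z ∈ A := mem_conjBy.mp (hnA.ge hae.2.2.1)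
    have hcpow : n⁻¹ * a ^ (m + 1) * n = c ^ (m + 1) := by
      conv_lhs => rw [← hac.swap_conj', conj_pow, ← hn]
      group
    have hzc : IsBraidPair A B z (c ^ (m + 1)) := by
      refine ⟨hzA, ?_, pow_mem hac.2.2.1 _, ?_, ?_⟩
      · intro e1
        exact hae.2.2.2.1 (by simpa [hz, mul_assoc, inv_mul_eq_one, mul_eq_right] using e1)
      · rw [← hcpow]
        intro e1
        exact hae.2.1 (by simpa [mul_assoc, inv_mul_eq_one, mul_eq_right] using e1)
      · rw [← hcpow, hz]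
        calc (n⁻¹ * e * n) * (n⁻¹ * a ^ (m + 1) * n) * (n⁻¹ * e * n)
            = n⁻¹ * (e * a ^ (m + 1) * e) * n := by group
          _ = n⁻¹ * (a ^ (m + 1) * e * a ^ (m + 1)) * n := by rw [hae.2.2.2.2]
          _ = _ := by group
    have hcd : c * d = d ^ (m + 1) := by rw [pow_succ, hdm]
    have hw : IsBraidPair A B (z⁻¹ * a) (d ^ (m + 1)) := by
      refine h.pair_of_conjBy (mul_mem (inv_mem hzA) hac.1) (pow_mem hxd.2.2.1 _) ?_
      have hc' : c * (a ^ m)⁻¹ = a⁻¹ * (c ^ (m + 1))⁻¹ * n := by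
        have e1 : n * (a ^ (m + 1))⁻¹ * n⁻¹ = (c ^ (m + 1))⁻¹ := by
          rw [← inv_pow, ← inv_pow, ← conj_pow, ← conj_inv, hn, hac.swap_conj]
        rw [← e1, hn, pow_succ']
        group
      rw [← hcd, ← conjBy_conjBy, hxd.conjBy_eq h.pair h.comm_left, conjBy_conjBy, hc',
        ← conjBy_conjBy, hnB, ← conjBy_conjBy, hzc.inv.conjBy_eq h.pair h.comm_left,
        conjBy_conjBy, inv_inv, mul_inv_rev, inv_inv]
    obtain ⟨d', hzd⟩ := h.exists_right (z ^ m) (pow_mem hzA m) (fun e => hzc.2.1 (htA z hzA e))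
    have hd' := ih z _ d' hzc hzd
    have hdd : d' = d ^ (m + 1) := by
      have hcm : d' ^ m = (d ^ (m + 1)) ^ m := by
        rw [hd', ← hdm, ← pow_mul, ← pow_mul, mul_comm]
      have := htB (d' * (d ^ (m + 1))⁻¹) (mul_mem hzd.2.2.1 (inv_mem (pow_mem hxd.2.2.1 _))) (by
        rw [Commute.mul_pow (h.comm_right _ hzd.2.2.1 _ (inv_mem (pow_mem hxd.2.2.1 _))), hcm, inv_pow,
          mul_inv_cancel])
      exact mul_inv_eq_one.mp this
    subst hdd
    have hzm := h.unique_left hzd hw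
    have hza : z ^ (m + 1) = a := by rw [pow_succ', hzm, mul_inv_cancel_left]
    have he : e = n * z * n⁻¹ := by rw [hz]; group
    rw [he, conj_pow, hza, hn, hac.swap_conj]

/-- Exponent `p`, or torsion free and divisible. -/
theorem exponent_or_divisible (h : IsBraided A B) :
    (∃ p : ℕ, p.Prime ∧ ∀ a ∈ A, a ^ p = 1) ∨
      ((∀ a ∈ A, a ≠ 1 → ¬ IsOfFinOrder a) ∧ ∀ a ∈ A, ∀ n : ℕ, 0 < n → ∃ c ∈ A, c ^ n = a) := by
  classical
  have hroot : ∀ m, 1 ≤ m → (∀ k, 1 ≤ k → k < m → ∀ u ∈ A, u ^ k = 1 → u = 1) →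
      ∀ a ∈ A, a ^ m ≠ 1 → ∃ z ∈ A, z ^ m = a := by
    intro m hm hk a ha ham
    have ha1 : a ≠ 1 := fun e => ham (by rw [e, one_pow])
    obtain ⟨c, hac⟩ := h.exists_right a ha ha1
    obtain ⟨e, hae⟩ := h.exists_right (a ^ m) (pow_mem ha m) ham
    refine ⟨(a * c * a)⁻¹ * e * (a * c * a), mem_conjBy.mp ((hac.swap_left h.pair h.comm_left).ge hae.2.2.1), ?_⟩
    have := h.scaling m hm hk a c e hac hae
    have e1 : (a * c * a)⁻¹ * e * (a * c * a) = (a * c * a)⁻¹ * e * ((a * c * a)⁻¹)⁻¹ := by group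
    rw [e1, conj_pow, this]
    have hs := hac.swap_conj
    rw [mul_inv_eq_iff_eq_mul] at hs
    rw [inv_inv, mul_assoc, inv_mul_eq_iff_eq_mul, ← hs]
  by_cases hex : ∃ k : ℕ, 1 ≤ k ∧ ∃ u ∈ A, u ^ k = 1 ∧ u ≠ 1
  · left
    obtain ⟨hp1, t, ht, htp, ht1⟩ := Nat.find_spec hex
    set p := Nat.find hex
    have hmin : ∀ k, 1 ≤ k → k < p → ∀ u ∈ A, u ^ k = 1 → u = 1 := fun k h1 h2 u hu huk => by
      by_contra hu1
      exact Nat.find_min hex h2 ⟨h1, u, hu, huk, hu1⟩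
    have hp2 : 2 ≤ p := by
      by_contra hlt
      have : p = 1 := by omega
      rw [this, pow_one] at htp
      exact ht1 htp
    have hprime : p.Prime := by
      refine Nat.prime_def_minFac.mpr ⟨hp2, ?_⟩
      by_contra hne
      have hlt : p.minFac < p := lt_of_le_of_ne (Nat.minFac_le (by omega)) hne
      obtain ⟨j, hj⟩ := Nat.minFac_dvd p
      have h2 := (Nat.minFac_prime (n := p) (by omega)).two_le
      have hjpos : 1 ≤ j := by
        rcases Nat.eq_zero_or_pos j with e | e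
        · rw [e, mul_zero] at hj; omega
        · exact e
      have hjlt : j < p := by nlinarith
      rw [hj, pow_mul] at htp
      exact ht1 (hmin _ (Nat.minFac_pos p) hlt t ht (hmin j hjpos hjlt _ (pow_mem ht _) htp))
    refine ⟨p, hprime, fun a₁ ha₁ => ?_⟩
    by_contra ha₁p
    obtain ⟨y, hy, hyt⟩ : ∃ y ∈ A, y ^ p = t := by
      have hc : Commute a₁ t := h.comm_left _ ha₁ _ ht
      obtain ⟨z, hz, hze⟩ := hroot p hp1 hmin (a₁ * t) (mul_mem ha₁ ht)
        (by rwa [hc.mul_pow, htp, mul_one])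
      obtain ⟨w, hw, hwe⟩ := hroot p hp1 hmin a₁ ha₁ ha₁p
      exact ⟨w⁻¹ * z, mul_mem (inv_mem hw) hz, by
        rw [Commute.mul_pow (h.comm_left _ (inv_mem hw) _ hz), inv_pow, hze, hwe, inv_mul_cancel_left]⟩
    have hy1 : y ≠ 1 := fun e => ht1 (by rw [← hyt, e, one_pow])
    obtain ⟨c, hyc⟩ := h.exists_right y hy hy1
    obtain ⟨d, htd⟩ := h.exists_right t ht ht1
    have := h.scaling p hp1 hmin y c d hyc (hyt ▸ htd)
    apply hyc.2.2.2.1
    rw [← this, ← htd.swap_conj, conj_pow, htp, mul_one, mul_inv_cancel]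
  · right
    push Not at hex
    refine ⟨fun a ha ha1 hfin => ?_, fun a ha n hn => ?_⟩
    · obtain ⟨k, hk, hak⟩ := isOfFinOrder_iff_pow_eq_one.mp hfin
      exact ha1 (hex k hk a ha hak)
    · by_cases ha1 : a = 1
      · exact ⟨1, one_mem _, by rw [one_pow, ha1]⟩
      · exact hroot n hn (fun k hk _ u hu => hex k hk u hu) a ha fun e => ha1 (hex n hn a ha e)

end IsBraided

end Cfsg.Agent.Lib.RootSub
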