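import Cfsg.Agent.Lib.RootSub.Lines
import Cfsg.Agent.Lib.RootSub.Special

/-!
Groups generated by abstract root subgroups: perfectness and the normal subgroups.
-/

namespace Cfsg.Agent.Lib.RootSub

open Subgroup
open scoped commutatorElement

variable {G : Type*} [Group G] {S : Set (Subgroup G)} {A B : Subgroup G}

theorem map_conjBy {H : Type*} [Group H] (f : G →* H) (g : G) :
    (Cfsg.conjBy A g).map f = Cfsg.conjBy (A.map f) (f g) := by
  unfold Cfsg.conjBy
  rw [Subgroup.map_map, Subgroup.map_map]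
  congr 1
  ext x
  simp

theorem commutator_map_eq_bot_iff {N : Subgroup G} [N.Normal] :
    ⁅A.map (QuotientGroup.mk' N), B.map (QuotientGroup.mk' N)⁆ = ⊥ ↔ ⁅A, B⁆ ≤ N := by
  rw [← Subgroup.map_commutator, Subgroup.map_eq_bot_iff, QuotientGroup.ker_mk']

theorem map_mk'_eq_bot_iff {N : Subgroup G} [N.Normal] :
    A.map (QuotientGroup.mk' N) = ⊥ ↔ A ≤ N := by
  rw [Subgroup.map_eq_bot_iff, QuotientGroup.ker_mk']

theorem commutator_self_eq_bot (hS : Cfsg.IsRootSubgroupSet S) (hA : A ∈ S) : ⁅A, A⁆ = ⊥ := by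
  rw [commutator_eq_bot_iff_le_centralizer]
  intro x hx
  rw [mem_centralizer_iff]
  exact fun y hy => comm_of_mem hS hA hy hx

/-- A rank one pair that commutes modulo `N` has one image modulo `N`. -/
theorem map_eq_of_commutator_le (hS : Cfsg.IsRootSubgroupSet S) {N : Subgroup G} [N.Normal]
    (hA : A ∈ S) (h : Cfsg.IsRankOnePair A B) (hle : ⁅A, B⁆ ≤ N) :
    A.map (QuotientGroup.mk' N) = B.map (QuotientGroup.mk' N) := by
  obtain ⟨x, hx, rfl⟩ := exists_conj h
  rw [map_conjBy, conjBy_of_commute]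
  have hc : A.map (QuotientGroup.mk' N) ⊔ (Cfsg.conjBy A x).map (QuotientGroup.mk' N) ≤
      centralizer ((A.map (QuotientGroup.mk' N) : Subgroup (G ⧸ N)) : Set (G ⧸ N)) := by
    refine sup_le ?_ ?_ <;> rw [← commutator_eq_bot_iff_le_centralizer]
    · rw [commutator_map_eq_bot_iff, commutator_self_eq_bot hS hA]; exact bot_le
    · rw [Subgroup.commutator_comm, commutator_map_eq_bot_iff]; exact hle
  rw [← Subgroup.map_sup] at hc
  intro y hy
  exact (mem_centralizer_iff.mp (hc (mem_map_of_mem _ hx)) y hy).symm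

/-- In a braided pair with more than three elements the unipotent subgroups lie in the derived group. -/
theorem IsBraided.left_le_commutator (h : IsBraided A B) (h3 : 3 < ENat.card A) :
    A ≤ ⁅A ⊔ B, A ⊔ B⁆ := by
  set D := ⁅A ⊔ B, A ⊔ B⁆ with hD
  have hswap : ∀ {x c : G}, IsBraidPair A B x c → ∀ z ∈ A, (x * c * x) * z * (x * c * x)⁻¹ ∈ B :=
    fun hp z hz => (hp.swap_left h.pair h.comm_left).le (conj_mem_conjBy hz)
  have hn : ∀ {x c : G}, IsBraidPair A B x c → x * c * x ∈ A ⊔ B := fun hp =>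
    mul_mem (mul_mem (mem_sup_left hp.1) (mem_sup_right hp.2.2.1)) (mem_sup_left hp.1)
  have hDconj : ∀ {g d : G}, g ∈ A ⊔ B → d ∈ D → g * d * g⁻¹ ∈ D := by
    intro g d hg hd
    have hle : D ≤ A ⊔ B := commutator_le_self _
    have := mul_mem (commutator_mem_commutator hg (hle hd)) hd
    simpa [D, commutatorElement_def] using this
  have hdiff : ∀ {x c y c' : G}, IsBraidPair A B x c → IsBraidPair A B y c' → ∀ z ∈ A,
      ((x * c * x) * z * (x * c * x)⁻¹)⁻¹ * ((y * c' * y) * z * (y * c' * y)⁻¹) ∈ D := by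
    intro x c y c' hp hq z hz
    have e : ((x * c * x) * z * (x * c * x)⁻¹)⁻¹ * ((y * c' * y) * z * (y * c' * y)⁻¹) =
        (x * c * x) * ⁅z⁻¹, (x * c * x)⁻¹ * (y * c' * y)⁆ * (x * c * x)⁻¹ := by
      simp only [commutatorElement_def]; group
    rw [e]
    exact hDconj (hn hp) (commutator_mem_commutator (mem_sup_left (inv_mem hz))
      (mul_mem (inv_mem (hn hp)) (hn hq)))
  by_contra hle
  -- the key congruence
  have key : ∀ x ∈ A, x ≠ 1 → ∀ y ∈ A, y ≠ 1 → x * y ∉ D → x * y * y ∈ D := by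
    intro x hxA hx1 y hy hy1 hxy
    obtain ⟨c, hxc⟩ := h.exists_right x hxA hx1
    set n := x * c * x with hndef
    have hnA : n ∈ A ⊔ B := hn hxc
    obtain ⟨d, hyd⟩ := h.exists_right y hy hy1
    have hw₀ : (x * y)⁻¹ ∈ A := inv_mem (mul_mem hxA hy)
    have hc₀ := hswap hxc _ hw₀
    rw [← hndef] at hc₀
    have hc₀1 : n * (x * y)⁻¹ * n⁻¹ ≠ 1 := fun e => hxy (by
      have : x * y = 1 := inv_eq_one.mp (conj_eq_one_iff.mp e)
      rw [this]; exact one_mem D)
    obtain ⟨w, hwp⟩ := h.exists_left _ hc₀ hc₀1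
    have hwD : w⁻¹ * (x * y)⁻¹ ∈ D := by
      -- `n w n⁻¹` is congruent to the partner of `w`
      have h1 := hdiff hxc hwp w hwp.1
      rw [hwp.swap_conj, ← hndef] at h1
      have h2 := hDconj (inv_mem hnA) h1
      have e : n⁻¹ * ((n * w * n⁻¹)⁻¹ * (n * (x * y)⁻¹ * n⁻¹)) * n⁻¹⁻¹ = w⁻¹ * (x * y)⁻¹ := by group
      rwa [e] at h2
    have hcd1 : c * d ≠ 1 := by
      intro e
      apply hxy
      have hq := hdiff hxc hyd y hy
      rw [hyd.swap_conj, ← hndef, ← inv_eq_of_mul_eq_one_right e, ← hxc.swap_conj] at hq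
      have h2 := inv_mem (hDconj (inv_mem hnA) hq)
      have e2 : (n⁻¹ * ((n * y * n⁻¹)⁻¹ * (n * x * n⁻¹)⁻¹) * n⁻¹⁻¹)⁻¹ = x * y := by group
      rw [← hndef, e2] at h2
      exact h2
    obtain ⟨v, hvp⟩ := h.exists_left (c * d) (mul_mem hxc.2.2.1 hyd.2.2.1) hcd1
    have hvD : v⁻¹ * (x * y) ∈ D := by
      have h1 := hdiff hxc hvp v hvp.1
      rw [hvp.swap_conj, ← hndef] at h1
      have h2 := hdiff hxc hyd y hy
      rw [hyd.swap_conj, ← hndef] at h2
      have e : v⁻¹ * (x * y) = n⁻¹ * ((n * v * n⁻¹)⁻¹ * (c * d)) * n⁻¹⁻¹ *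
          (n⁻¹ * ((n * y * n⁻¹)⁻¹ * d)⁻¹ * n⁻¹⁻¹) := by
        conv_rhs => rw [← hxc.swap_conj, ← hndef]
        group
      rw [e]
      exact mul_mem (hDconj (inv_mem hnA) h1) (hDconj (inv_mem hnA) (inv_mem h2))
    -- two computations of `A ^ (c d)`
    have e1 : Cfsg.conjBy A (c * d) = Cfsg.conjBy B (x⁻¹ * w⁻¹) := by
      rw [← conjBy_conjBy, hyd.conjBy_eq h.pair h.comm_left, conjBy_conjBy,
        show c * y⁻¹ = x⁻¹ * ((n * (x * y)⁻¹ * n⁻¹) * n) by rw [hndef, h.comm_left x hxA y hy]; group,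
        ← conjBy_conjBy, ← conjBy_conjBy _ (n * (x * y)⁻¹ * n⁻¹), hndef,
        hxc.swap_right h.pair h.comm_right, ← hndef, hwp.conjBy_eq h.pair h.comm_left, conjBy_conjBy]
    rw [hvp.conjBy_eq h.pair h.comm_left] at e1
    have e2 : v * (x⁻¹ * w⁻¹) = 1 := by
      refine eq_one_of_fix h.pair (mul_mem hvp.1 (mul_mem (inv_mem hxA) (inv_mem hwp.1))) ?_
      rw [← conjBy_conjBy, ← e1, conjBy_conjBy, mul_inv_cancel, conjBy_one]
    have e3 : v⁻¹ * (x * y) = x⁻¹ * ((w⁻¹ * (x * y)⁻¹) * (x * y) * (x * y)) := by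
      rw [eq_inv_of_mul_eq_one_right e2 |>.symm]
      group
    have e4 : v⁻¹ * (x * y) = (w⁻¹ * (x * y)⁻¹) * (x * y * y) := by
      rw [e3]
      have hcA : ∀ u ∈ A, x⁻¹ * u = u * x⁻¹ := fun u hu => h.comm_left _ (inv_mem hxA) _ hu
      rw [show (w⁻¹ * (x * y)⁻¹) * (x * y) * (x * y) = w⁻¹ * (x * y) by group,
        ← mul_assoc x⁻¹, hcA _ (inv_mem hwp.1)]
      group
    rw [e4] at hvD
    have := mul_mem (inv_mem hwD) hvD
    rwa [inv_mul_cancel_left] at this
  obtain ⟨x, hxA, hxD⟩ := SetLike.not_le_iff_exists.mp hle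
  have hx1 : x ≠ 1 := fun e => hxD (e ▸ one_mem D)
  by_cases hA0 : ∃ a ∈ A, a ∈ D ∧ a ≠ 1
  · obtain ⟨y, hy, hyD, hy1⟩ := hA0
    have hxy : x * y ∉ D := fun e => hxD (by simpa using mul_mem e (inv_mem hyD))
    exact hxD (by simpa using mul_mem (mul_mem (key x hxA hx1 y hy hy1 hxy) (inv_mem hyD)) (inv_mem hyD))
  · have htriv : ∀ a ∈ A, a ∈ D → a = 1 := by
      intro a ha haD
      by_contra h1
      exact hA0 ⟨a, ha, haD, h1⟩
    have h2 : ∀ x ∈ A, x ≠ 1 → ∀ y ∈ A, y ≠ 1 → x * y ≠ 1 → x * y * y = 1 := by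
      intro x hxA hx1 y hy hy1 hxy
      exact htriv _ (mul_mem (mul_mem hxA hy) hy)
        (key x hxA hx1 y hy hy1 fun e => hxy (htriv _ (mul_mem hxA hy) e))
    classical
    have hsub : (A : Set G) ⊆ ↑({1, x, x⁻¹} : Finset G) := by
      intro y hy
      simp only [Finset.coe_insert, Finset.coe_singleton, Set.mem_insert_iff, Set.mem_singleton_iff]
      by_cases hy1 : y = 1
      · exact Or.inl hy1
      by_cases hxy : x * y = 1
      · exact Or.inr (Or.inr (eq_inv_of_mul_eq_one_right hxy))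
      have hc := h.comm_left x hxA y hy
      have e1 := h2 x hxA hx1 y hy hy1 hxy
      have e2 := h2 y hy hy1 x hxA hx1 (hc ▸ hxy)
      rw [← hc, ← e1] at e2
      exact Or.inr (Or.inl (mul_left_cancel e2).symm)
    have : ENat.card A ≤ 3 := by
      change Set.encard (A : Set G) ≤ 3
      refine (Set.encard_mono hsub).trans ?_
      rw [Set.encard_coe_eq_coe_finsetCard]
      exact_mod_cast Finset.card_le_three
    exact absurd h3 (not_lt.mpr this)

/-- All members lie in a normal subgroup containing one of them, when they are conjugate. -/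
theorem eq_top_of_member_le (hS : Cfsg.IsRootSubgroupSet S) (hcl : Cfsg.IsConjClassOfSubgroups S)
    {N : Subgroup G} (hN : N.Normal) (hA : A ∈ S) (h : A ≤ N) : N = ⊤ := by
  rw [eq_top_iff, ← hS.generates]
  refine iSup₂_le fun B hB => ?_
  obtain ⟨g, rfl⟩ := hcl.2 A hA B hB
  refine (conjBy_mono h g).trans fun x hx => ?_
  simpa [mul_assoc] using hN.conj_mem _ (mem_conjBy.mp hx) g

theorem le_commutator_of_case (hC : Cfsg.RootCommutatorCase S A B) :
    ∃ C ∈ S, C ≤ _root_.commutator G :=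
  ⟨⁅A, B⁆, hC.1, commutator_mono le_top le_top⟩

/-- A normal subgroup over which a rank one pair commutes contains a member. -/
theorem member_le_of_commutator_le (hS : Cfsg.IsRootSubgroupSet S)
    (hcl : Cfsg.IsConjClassOfSubgroups S)
    (h3 : Cfsg.IsDegenerateRootSet S → ∀ A ∈ S, 3 < ENat.card A)
    (h4 : ∀ A ∈ S, ∀ B ∈ Cfsg.rankOnePartners S A, Cfsg.IsSpecialRankOnePair A B)
    {N : Subgroup G} [N.Normal] (hA : A ∈ S) (hB : B ∈ S) (h : Cfsg.IsRankOnePair A B)
    (hle : ⁅A, B⁆ ≤ N) : ∃ C ∈ S, C ≤ N := by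
  set f := QuotientGroup.mk' N with hf
  by_cases hdeg : Cfsg.IsDegenerateRootSet S
  · have hbr := isBraided_of_special (h4 A hA B ⟨hB, h⟩) ⟨hS.commutative A hA, hS.commutative B hB⟩
    refine ⟨A, hA, (hbr.left_le_commutator (h3 hdeg A hA)).trans ?_⟩
    rw [← commutator_map_eq_bot_iff, Subgroup.map_sup, map_eq_of_commutator_le hS hA h hle,
      sup_idem, commutator_map_eq_bot_iff, commutator_self_eq_bot hS hB]
    exact bot_le
  simp only [Cfsg.IsDegenerateRootSet] at hdeg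
  push Not at hdeg
  obtain ⟨U, hU, V, hV, hUV⟩ := hdeg
  obtain ⟨g, rfl⟩ := hcl.2 A hA U hU
  set W := Cfsg.conjBy B g with hW'
  have hW : W ∈ S := hS.conj_mem B hB g
  have hUW := isRankOnePair_conjBy h g
  rw [← hW'] at hUW
  have hWU : W.map f = (Cfsg.conjBy A g).map f := by
    rw [hW', map_conjBy, map_conjBy, map_eq_of_commutator_le hS hA h hle]
  set U := Cfsg.conjBy A g
  obtain ⟨hC, hcent, -, -⟩ := hUV
  have hCU : ⁅⁅U, V⁆, U⁆ ≤ N := by
    refine le_of_eq_of_le ?_ bot_le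
    rw [commutator_eq_bot_iff_le_centralizer]
    intro c hc
    rw [mem_centralizer_iff]
    exact fun x hx => (hcent c hc x (mem_sup_left hx)).symm
  have hCW : ⁅⁅U, V⁆, W⁆ ≤ N := by
    rw [← commutator_map_eq_bot_iff, ← hf, hWU, hf, commutator_map_eq_bot_iff]; exact hCU
  rcases hS.pair _ hC W hW with h0 | h0 | h0
  · exfalso
    obtain ⟨u, hu, hu1⟩ := exists_ne_one_left hUW
    obtain ⟨c, hc, hc1⟩ := (bot_or_exists_ne_one ⁅U, V⁆).resolve_left (hS.ne_bot _ hC)
    have hiso : ¬ Cfsg.IsIsolatedIn (Cfsg.FAdj S) S U := fun hi => (hi.2 W).1 ⟨hU, hW, hUW⟩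
    obtain ⟨-, ⟨-, hcov, -⟩, -, -⟩ := commutator_partition hS hiso hU hV hC
    by_cases hcu : c * u = 1
    · have hcU : c ∈ U ⊓ ⁅U, V⁆ := mem_inf.mpr ⟨by rw [eq_inv_of_mul_eq_one_left hcu]; exact inv_mem hu, hc⟩
      rcases inf_eq_bot_or_eq hS hU hW hUW hC with e | e
      · exact hc1 (mem_bot.mp (e ▸ hcU))
      · exact not_commute hUW fun x hx y hy => commute_of_commutator_eq_bot h0 (e ▸ hx) hy
    obtain ⟨K, hK, hK'⟩ := hcov (c * u) (mul_mem (mem_sup_right hc) (mem_sup_left hu)) hcu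
    refine hc1 (shift hS hU hW hUW hu hu1 ?_ hK.1 hK').1
    intro x hx
    have hle' : U ⊔ W ≤ centralizer ({c} : Set G) := by
      refine sup_le ?_ ?_ <;> intro y hy <;> rw [mem_centralizer_singleton_iff]
      · exact (hcent c hc y (mem_sup_left hy)).symm
      · exact (commute_of_commutator_eq_bot h0 hc hy).symm
    exact (mem_centralizer_singleton_iff.mp (hle' hx)).symm
  · have hCf := map_eq_of_commutator_le hS hC h0 hCW
    refine ⟨_, hC, ?_⟩
    rw [← commutator_map_eq_bot_iff, ← hf, ← hWU, hf, ← hCf, commutator_map_eq_bot_iff]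
    refine le_of_eq_of_le ?_ bot_le
    rw [commutator_eq_bot_iff_le_centralizer]
    intro c hc
    rw [mem_centralizer_iff]
    exact fun x hx => (hcent c hc x (mem_sup_right hx)).symm
  · exact ⟨_, h0.1, hCW⟩

/-- In a class with distinguishable members a proper normal subgroup is central. -/
theorem eq_top_or_central (hS : Cfsg.IsRootSubgroupSet S)
    (hcl : Cfsg.IsConjClassOfSubgroups S) (hiso : ∀ A ∈ S, ∃ B ∈ S, Cfsg.IsRankOnePair A B)
    (h2' : ∀ A ∈ S, ∀ C ∈ S, A ≠ C → Cfsg.centralizingMembers S A ≠ Cfsg.centralizingMembers S C)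
    (h3 : Cfsg.IsDegenerateRootSet S → ∀ A ∈ S, 3 < ENat.card A)
    (h4 : ∀ A ∈ S, ∀ B ∈ Cfsg.rankOnePartners S A, Cfsg.IsSpecialRankOnePair A B)
    (N : Subgroup G) [hN : N.Normal] : N = ⊤ ∨ N ≤ center G := by
  by_contra hcon
  rw [not_or] at hcon
  set f := QuotientGroup.mk' N with hf
  have hmem : ∀ C ∈ S, ¬ C ≤ N := fun C hC e => hcon.1 (eq_top_of_member_le hS hcl hN hC e)
  have hkill : ∀ {A B : Subgroup G}, A ∈ S → B ∈ S → ⁅A, B⁆ ≤ N → ⁅A, B⁆ = ⊥ := by
    intro A B hA hB hle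
    rcases hS.pair A hA B hB with h | h | h
    · exact h
    · obtain ⟨C, hC, hle⟩ := member_le_of_commutator_le hS hcl h3 h4 hA hB h hle
      exact absurd hle (hmem C hC)
    · exact absurd hle (hmem _ h.1)
  have hfn : ∀ n ∈ N, f n = 1 := fun n hn => (QuotientGroup.eq_one_iff n).mpr hn
  have hinf : ∀ A ∈ S, ∀ a ∈ A, a ∈ N → a = 1 := by
    intro A hA a ha haN
    obtain ⟨B, hB, h⟩ := hiso A hA
    apply eq_one_of_fix h ha
    apply eq_of_commute h (conj_mem_unipotents (right_mem_unipotents h) (mem_sup_left ha))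
      (right_mem_unipotents h)
    intro x hx y hy
    refine commute_of_commutator_eq_bot (hkill (hS.conj_mem B hB a) hB ?_) hx hy
    rw [← commutator_map_eq_bot_iff, map_conjBy, ← hf, hfn a haN, conjBy_one, hf,
      commutator_map_eq_bot_iff, commutator_self_eq_bot hS hB]
    exact bot_le
  have hfix : ∀ A ∈ S, ∀ n ∈ N, Cfsg.conjBy A n = A := by
    intro A hA n hn
    by_contra hne
    have hA' := hS.conj_mem A hA n
    have heq : (Cfsg.conjBy A n).map f = A.map f := by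
      rw [map_conjBy, hfn n hn, conjBy_one]
    have key : ∀ {P Q : Subgroup G}, P ∈ S → Q ∈ S → P.map f = Q.map f →
        Cfsg.centralizingMembers S P ⊆ Cfsg.centralizingMembers S Q := by
      intro P Q hP hQ he E hE
      refine ⟨hE.1, commutator_eq_bot_iff_le_centralizer.mp (hkill hE.1 hQ ?_)⟩
      rw [← commutator_map_eq_bot_iff, ← hf, ← he, hf, commutator_map_eq_bot_iff,
        commutator_eq_bot_iff_le_centralizer.mpr hE.2]
      exact bot_le
    exact h2' A hA _ hA' (Ne.symm hne) (subset_antisymm (key hA hA' heq.symm) (key hA' hA heq))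
  refine hcon.2 fun n hn => ?_
  have hall : ⊤ ≤ centralizer ({n} : Set G) := by
    rw [← hS.generates]
    refine iSup₂_le fun A hA a ha => ?_
    rw [mem_centralizer_singleton_iff]
    have h1 : n * a * n⁻¹ * a⁻¹ = 1 := by
      refine hinf A hA _ (mul_mem ((hfix A hA n hn).le (conj_mem_conjBy ha)) (inv_mem ha)) ?_
      rw [show n * a * n⁻¹ * a⁻¹ = n * (a * n⁻¹ * a⁻¹) by group]
      exact mul_mem hn (hN.conj_mem _ (inv_mem hn) a)
    rw [mul_inv_eq_one, mul_inv_eq_iff_eq_mul] at h1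
    exact h1.symm
  rw [mem_center_iff]
  exact fun g => mem_centralizer_singleton_iff.mp (hall (mem_top g))

end Cfsg.Agent.Lib.RootSub
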