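import Cfsg.Prelude.Def_RootSubgroups

/-!
Rank one pairs: conjugates, the doubly transitive action on unipotent subgroups.
-/

namespace Cfsg.Agent.Lib.RootSub

open Subgroup

variable {G : Type*} [Group G] {A B : Subgroup G}

theorem mem_conjBy {g x : G} : x ∈ Cfsg.conjBy A g ↔ g⁻¹ * x * g ∈ A := by
  refine ⟨?_, fun h => ⟨_, h, by simp [mul_assoc]⟩⟩
  rintro ⟨y, hy, rfl⟩
  simpa [mul_assoc] using hy

theorem conj_mem_conjBy {g x : G} (hx : x ∈ A) : g * x * g⁻¹ ∈ Cfsg.conjBy A g :=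
  mem_conjBy.mpr (by simpa [mul_assoc] using hx)

@[simp] theorem conjBy_one : Cfsg.conjBy A 1 = A := by ext x; simp [mem_conjBy]

theorem conjBy_conjBy (g h : G) : Cfsg.conjBy (Cfsg.conjBy A g) h = Cfsg.conjBy A (h * g) := by
  ext x; simp [mem_conjBy, mul_assoc]

theorem conjBy_of_mem {g : G} (hg : g ∈ A) : Cfsg.conjBy A g = A := by
  ext x
  rw [mem_conjBy, A.mul_mem_cancel_right hg, A.mul_mem_cancel_left (A.inv_mem hg)]

theorem conjBy_eq_iff {C : Subgroup G} {g : G} : Cfsg.conjBy A g = C ↔ A = Cfsg.conjBy C g⁻¹ := by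
  constructor
  · rintro rfl; rw [conjBy_conjBy, inv_mul_cancel, conjBy_one]
  · rintro rfl; rw [conjBy_conjBy, mul_inv_cancel, conjBy_one]

theorem conjBy_injective (g : G) : Function.Injective fun A : Subgroup G => Cfsg.conjBy A g := by
  intro C D h
  simpa [conjBy_conjBy] using congrArg (Cfsg.conjBy · g⁻¹) h

theorem conjBy_eq_self_iff {g : G} : Cfsg.conjBy A g = A ↔ g ∈ normalizer (A : Set G) := by
  rw [mem_normalizer_iff]
  constructor
  · intro h x
    constructor
    · intro hx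
      exact h.le (conj_mem_conjBy hx)
    · intro hx
      have := mem_conjBy.mp (h.ge hx)
      simpa [mul_assoc] using this
  · intro h
    ext x
    rw [mem_conjBy, h (g⁻¹ * x * g)]
    simp [mul_assoc]

theorem conjBy_mono {C : Subgroup G} (h : A ≤ C) (g : G) : Cfsg.conjBy A g ≤ Cfsg.conjBy C g :=
  Subgroup.map_mono h

theorem conjBy_sup (C : Subgroup G) (g : G) :
    Cfsg.conjBy (A ⊔ C) g = Cfsg.conjBy A g ⊔ Cfsg.conjBy C g :=
  Subgroup.map_sup _ _ _

theorem conjBy_eq_bot {g : G} : Cfsg.conjBy A g = ⊥ ↔ A = ⊥ :=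
  ⟨fun h => by rw [conjBy_eq_iff.mp h]; exact Subgroup.map_bot _, fun h => by rw [h]; exact Subgroup.map_bot _⟩

theorem conjBy_le_of_le {C : Subgroup G} (h : A ≤ C) {g : G} (hg : g ∈ C) :
    Cfsg.conjBy A g ≤ C :=
  (conjBy_mono h g).trans (conjBy_of_mem hg).le

/-- Conjugation by an element of the centraliser fixes every subgroup. -/
theorem conjBy_of_commute {g : G} (h : ∀ x ∈ A, g * x = x * g) : Cfsg.conjBy A g = A := by
  ext x
  rw [mem_conjBy]
  constructor
  · intro hx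
    have := h _ hx
    have e : x = g * (g⁻¹ * x * g) * g⁻¹ := by group
    rw [e, this, mul_inv_cancel_right]
    exact hx
  · intro hx
    rw [mul_assoc, ← h x hx, inv_mul_cancel_left]
    exact hx

theorem ne_bot_left (h : Cfsg.IsRankOnePair A B) : A ≠ ⊥ := by
  rintro rfl
  obtain ⟨b, hb, hb1⟩ := Subgroup.bot_or_exists_ne_one B |>.resolve_left fun e => h.ne e.symm
  obtain ⟨a, ha, ha1, -⟩ := h.cond_right b hb hb1
  exact ha1 (Subgroup.mem_bot.mp ha)

theorem ne_bot_right (h : Cfsg.IsRankOnePair A B) : B ≠ ⊥ :=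
  ne_bot_left (Cfsg.RankOnePair_symm h)

theorem exists_ne_one_left (h : Cfsg.IsRankOnePair A B) : ∃ a ∈ A, a ≠ 1 :=
  (Subgroup.bot_or_exists_ne_one A).resolve_left (ne_bot_left h)

/-- A non-identity element of `A` does not normalise `B`. -/
theorem eq_one_of_fix (h : Cfsg.IsRankOnePair A B) {a : G} (ha : a ∈ A)
    (hf : Cfsg.conjBy B a = B) : a = 1 := by
  by_contra ha1
  obtain ⟨b, hb, hb1, he⟩ := h.cond_left a ha ha1
  rw [show Cfsg.conjBy B a⁻¹ = B by
    conv_lhs => rw [← hf]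
    rw [conjBy_conjBy, inv_mul_cancel, conjBy_one], conjBy_eq_iff, inv_inv, conjBy_of_mem hb] at he
  exact h.ne he

theorem exists_conj (h : Cfsg.IsRankOnePair A B) : ∃ x ∈ A ⊔ B, Cfsg.conjBy A x = B := by
  obtain ⟨a, ha, ha1⟩ := exists_ne_one_left h
  obtain ⟨b, hb, hb1, he⟩ := h.cond_left a ha ha1
  refine ⟨a * b⁻¹, mul_mem (mem_sup_left ha) (inv_mem (mem_sup_right hb)), ?_⟩
  rw [← conjBy_conjBy, he, conjBy_conjBy, mul_inv_cancel, conjBy_one]

theorem unipotents_symm (h : Cfsg.IsRankOnePair A B) :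
    Cfsg.unipotentSubgroups A B = Cfsg.unipotentSubgroups B A := by
  obtain ⟨x, hx, hxB⟩ := exists_conj h
  ext C
  rw [Cfsg.unipotentSubgroups, Cfsg.unipotentSubgroups, sup_comm B A]
  constructor
  · rintro ⟨y, hy, rfl⟩
    exact ⟨y * x⁻¹, mul_mem hy (inv_mem hx), by rw [← hxB, conjBy_conjBy, inv_mul_cancel_right]⟩
  · rintro ⟨y, hy, rfl⟩
    exact ⟨y * x, mul_mem hy hx, by rw [← hxB, conjBy_conjBy]⟩

theorem left_mem_unipotents : A ∈ Cfsg.unipotentSubgroups A B :=
  ⟨1, one_mem _, conjBy_one.symm⟩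

theorem right_mem_unipotents (h : Cfsg.IsRankOnePair A B) : B ∈ Cfsg.unipotentSubgroups A B := by
  rw [unipotents_symm h]; exact left_mem_unipotents

theorem conj_mem_unipotents {C : Subgroup G} (hC : C ∈ Cfsg.unipotentSubgroups A B) {y : G}
    (hy : y ∈ A ⊔ B) : Cfsg.conjBy C y ∈ Cfsg.unipotentSubgroups A B := by
  obtain ⟨x, hx, rfl⟩ := hC
  exact ⟨y * x, mul_mem hy hx, conjBy_conjBy _ _⟩

theorem le_of_mem_unipotents {C : Subgroup G} (hC : C ∈ Cfsg.unipotentSubgroups A B) :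
    C ≤ A ⊔ B := by
  obtain ⟨x, hx, rfl⟩ := hC
  exact conjBy_le_of_le le_sup_left hx

/-- Every unipotent subgroup is `A` or a conjugate of `B` under `A`. -/
theorem unipotent_cases (h : Cfsg.IsRankOnePair A B) {C : Subgroup G}
    (hC : C ∈ Cfsg.unipotentSubgroups A B) : C = A ∨ ∃ a ∈ A, C = Cfsg.conjBy B a := by
  obtain ⟨x, hx, rfl⟩ := hC
  suffices ∀ C, (C = A ∨ ∃ a ∈ A, C = Cfsg.conjBy B a) →
      (Cfsg.conjBy C x = A ∨ ∃ a ∈ A, Cfsg.conjBy C x = Cfsg.conjBy B a) from this A (Or.inl rfl)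
  rw [Subgroup.sup_eq_closure] at hx
  induction hx using Subgroup.closure_induction'' with
  | mem y hy =>
    rintro C hC
    rcases hy with hy | hy
    · rcases hC with rfl | ⟨a, ha, rfl⟩
      · exact Or.inl (conjBy_of_mem hy)
      · exact Or.inr ⟨y * a, mul_mem hy ha, conjBy_conjBy _ _⟩
    · rcases hC with rfl | ⟨a, ha, rfl⟩
      · by_cases hy1 : y = 1
        · subst hy1; exact Or.inl conjBy_one
        obtain ⟨a, ha, -, he⟩ := h.cond_right y⁻¹ (inv_mem hy) (inv_ne_one.mpr hy1)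
        rw [inv_inv] at he
        exact Or.inr ⟨a⁻¹, inv_mem ha, he.symm⟩
      · by_cases ha1 : a = 1
        · subst ha1; exact Or.inr ⟨1, one_mem _, by rw [conjBy_one, conjBy_of_mem hy]⟩
        obtain ⟨b, hb, -, he⟩ := h.cond_left a⁻¹ (inv_mem ha) (inv_ne_one.mpr ha1)
        rw [inv_inv] at he
        rw [← he, conjBy_conjBy]
        by_cases hy1 : y * b⁻¹ = 1
        · rw [hy1]; exact Or.inl conjBy_one
        obtain ⟨a', ha', -, he'⟩ := h.cond_right (y * b⁻¹)⁻¹ (inv_mem (mul_mem hy (inv_mem hb)))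
          (inv_ne_one.mpr hy1)
        rw [inv_inv] at he'
        exact Or.inr ⟨a'⁻¹, inv_mem ha', he'.symm⟩
  | inv_mem y hy =>
    rintro C hC
    rcases hy with hy | hy
    · rcases hC with rfl | ⟨a, ha, rfl⟩
      · exact Or.inl (conjBy_of_mem (inv_mem hy))
      · exact Or.inr ⟨y⁻¹ * a, mul_mem (inv_mem hy) ha, conjBy_conjBy _ _⟩
    · rcases hC with rfl | ⟨a, ha, rfl⟩
      · by_cases hy1 : y = 1
        · subst hy1; exact Or.inl (by rw [inv_one, conjBy_one])
        obtain ⟨a, ha, -, he⟩ := h.cond_right y hy hy1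
        exact Or.inr ⟨a⁻¹, inv_mem ha, he.symm⟩
      · by_cases ha1 : a = 1
        · subst ha1; exact Or.inr ⟨1, one_mem _, by rw [conjBy_one, conjBy_of_mem (inv_mem hy)]⟩
        obtain ⟨b, hb, -, he⟩ := h.cond_left a⁻¹ (inv_mem ha) (inv_ne_one.mpr ha1)
        rw [inv_inv] at he
        rw [← he, conjBy_conjBy]
        by_cases hy1 : b * y = 1
        · rw [show y⁻¹ * b⁻¹ = (b * y)⁻¹ by group, hy1, inv_one]; exact Or.inl conjBy_one
        obtain ⟨a', ha', -, he'⟩ := h.cond_right (b * y) (mul_mem hb hy) hy1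
        rw [show y⁻¹ * b⁻¹ = (b * y)⁻¹ by group]
        exact Or.inr ⟨a'⁻¹, inv_mem ha', he'.symm⟩
  | one => intro C hC; rwa [conjBy_one]
  | mul y z _ _ hy hz =>
    intro C hC
    rw [← conjBy_conjBy]
    exact hy _ (hz C hC)

theorem conjBy_right_ne_left (h : Cfsg.IsRankOnePair A B) {a : G} (ha : a ∈ A) :
    Cfsg.conjBy B a ≠ A := fun e => h.ne (by
  rw [conjBy_eq_iff, conjBy_of_mem (inv_mem ha)] at e
  exact e.symm)

theorem exists_pair_conj (h : Cfsg.IsRankOnePair A B) {C D : Subgroup G}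
    (hC : C ∈ Cfsg.unipotentSubgroups A B) (hD : D ∈ Cfsg.unipotentSubgroups A B) (hne : C ≠ D) :
    ∃ x ∈ A ⊔ B, Cfsg.conjBy A x = C ∧ Cfsg.conjBy B x = D := by
  obtain ⟨x, hx, rfl⟩ := hC
  rcases unipotent_cases h (conj_mem_unipotents hD (inv_mem hx)) with he | ⟨a, ha, he⟩
  · rw [conjBy_eq_iff, inv_inv] at he
    exact absurd he.symm hne
  · refine ⟨x * a, mul_mem hx (mem_sup_left ha), by rw [← conjBy_conjBy, conjBy_of_mem ha], ?_⟩
    rw [← conjBy_conjBy, ← he, conjBy_conjBy, mul_inv_cancel, conjBy_one]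

theorem two_transitive (h : Cfsg.IsRankOnePair A B) {C₁ C₂ D₁ D₂ : Subgroup G}
    (hC₁ : C₁ ∈ Cfsg.unipotentSubgroups A B) (hC₂ : C₂ ∈ Cfsg.unipotentSubgroups A B)
    (hD₁ : D₁ ∈ Cfsg.unipotentSubgroups A B) (hD₂ : D₂ ∈ Cfsg.unipotentSubgroups A B)
    (hC : C₁ ≠ C₂) (hD : D₁ ≠ D₂) :
    ∃ x ∈ A ⊔ B, Cfsg.conjBy C₁ x = D₁ ∧ Cfsg.conjBy C₂ x = D₂ := by
  obtain ⟨x, hx, rfl, rfl⟩ := exists_pair_conj h hC₁ hC₂ hC
  obtain ⟨y, hy, rfl, rfl⟩ := exists_pair_conj h hD₁ hD₂ hD
  exact ⟨y * x⁻¹, mul_mem hy (inv_mem hx), by simp [conjBy_conjBy], by simp [conjBy_conjBy]⟩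

/-- The pair transported by a conjugation. -/
theorem isRankOnePair_conjBy (h : Cfsg.IsRankOnePair A B) (g : G) :
    Cfsg.IsRankOnePair (Cfsg.conjBy A g) (Cfsg.conjBy B g) := by
  have key : ∀ {A B : Subgroup G}, Cfsg.RankOneCondition A B →
      Cfsg.RankOneCondition (Cfsg.conjBy A g) (Cfsg.conjBy B g) := by
    intro A B h a ha ha1
    rw [mem_conjBy] at ha
    obtain ⟨b, hb, hb1, he⟩ := h _ ha (by simpa [mul_assoc, inv_mul_eq_one, eq_comm] using ha1)
    refine ⟨g * b * g⁻¹, conj_mem_conjBy hb, by simpa using hb1, ?_⟩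
    rw [conjBy_conjBy, conjBy_conjBy, show (g * b * g⁻¹)⁻¹ * g = g * b⁻¹ by group,
      show a⁻¹ * g = g * (g⁻¹ * a * g)⁻¹ by group, ← conjBy_conjBy, he, conjBy_conjBy]
  refine ⟨fun e => h.ne (conjBy_injective g e), ?_, ?_, key h.cond_left, key h.cond_right⟩
  · haveI := h.nilpotent_left
    exact Group.nilpotent_of_mulEquiv (Subgroup.equivMapOfInjective A _ (MulAut.conj g).injective)
  · haveI := h.nilpotent_right
    exact Group.nilpotent_of_mulEquiv (Subgroup.equivMapOfInjective B _ (MulAut.conj g).injective)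

theorem isRankOnePair_of_mem (h : Cfsg.IsRankOnePair A B) {C D : Subgroup G}
    (hC : C ∈ Cfsg.unipotentSubgroups A B) (hD : D ∈ Cfsg.unipotentSubgroups A B) (hne : C ≠ D) :
    Cfsg.IsRankOnePair C D := by
  obtain ⟨x, -, rfl, rfl⟩ := exists_pair_conj h hC hD hne
  exact isRankOnePair_conjBy h x

theorem sup_eq_of_mem (h : Cfsg.IsRankOnePair A B) {C D : Subgroup G}
    (hC : C ∈ Cfsg.unipotentSubgroups A B) (hD : D ∈ Cfsg.unipotentSubgroups A B) (hne : C ≠ D) :
    C ⊔ D = A ⊔ B := by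
  obtain ⟨x, hx, rfl, rfl⟩ := exists_pair_conj h hC hD hne
  rw [← conjBy_sup, conjBy_of_mem hx]

theorem eq_of_fix (h : Cfsg.IsRankOnePair A B) {C D : Subgroup G}
    (hC : C ∈ Cfsg.unipotentSubgroups A B) (hD : D ∈ Cfsg.unipotentSubgroups A B)
    {e : G} (he : e ∈ C) (he1 : e ≠ 1) (hf : Cfsg.conjBy D e = D) : C = D := by
  by_contra hne
  exact he1 (eq_one_of_fix (isRankOnePair_of_mem h hC hD hne) he hf)

theorem not_commute (h : Cfsg.IsRankOnePair A B) : ¬ ∀ a ∈ A, ∀ b ∈ B, a * b = b * a := by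
  intro hc
  obtain ⟨a, ha, ha1⟩ := exists_ne_one_left h
  exact ha1 (eq_one_of_fix h ha (conjBy_of_commute fun x hx => hc a ha x hx))

theorem commutator_ne_bot (h : Cfsg.IsRankOnePair A B) : ⁅A, B⁆ ≠ ⊥ := fun e =>
  not_commute h fun a ha b hb => commutatorElement_eq_one_iff_mul_comm.mp
    (Subgroup.mem_bot.mp (e ▸ Subgroup.commutator_mem_commutator ha hb))

theorem eq_of_commute (h : Cfsg.IsRankOnePair A B) {C D : Subgroup G}
    (hC : C ∈ Cfsg.unipotentSubgroups A B) (hD : D ∈ Cfsg.unipotentSubgroups A B)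
    (hc : ∀ c ∈ C, ∀ d ∈ D, c * d = d * c) : C = D := by
  by_contra hne
  exact not_commute (isRankOnePair_of_mem h hC hD hne) hc

/-- A normal subgroup either supplements `A` or is central. -/
theorem normal_sup_or_central {X : Type*} [Group X] {A B : Subgroup X}
    (h : Cfsg.IsRankOneGroup X A B) (N : Subgroup X) (hN : N.Normal) :
    N ⊔ A = ⊤ ∨ N ≤ center X := by
  obtain ⟨htop, h⟩ := h
  by_cases hfix : ∀ C ∈ Cfsg.unipotentSubgroups A B, ∀ n ∈ N, Cfsg.conjBy C n = C
  · right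
    have key : ∀ {A B : Subgroup X}, Cfsg.IsRankOnePair A B → A ⊔ B = ⊤ →
        (∀ n ∈ N, Cfsg.conjBy A n = A) → (∀ n ∈ N, Cfsg.conjBy B n = B) →
        ∀ n ∈ N, ∀ a ∈ A, a * n = n * a := by
      intro A B h _ hA hB n hn a ha
      have hmem : n * a * n⁻¹ * a⁻¹ ∈ A :=
        mul_mem ((hA n hn).le (conj_mem_conjBy ha)) (inv_mem ha)
      have hN' : n * a * n⁻¹ * a⁻¹ ∈ N := by
        rw [show n * a * n⁻¹ * a⁻¹ = n * (a * n⁻¹ * a⁻¹) by group]
        exact mul_mem hn (hN.conj_mem _ (inv_mem hn) a)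
      have := eq_one_of_fix h hmem (hB _ hN')
      rw [mul_inv_eq_one, mul_inv_eq_iff_eq_mul] at this
      exact this.symm
    intro n hn
    have hB := fun n hn => hfix B (right_mem_unipotents h) n hn
    have hA := fun n hn => hfix A left_mem_unipotents n hn
    have h1 := key h htop hA hB n hn
    have h2 := key (Cfsg.RankOnePair_symm h) (sup_comm A B ▸ htop) hB hA n hn
    rw [mem_center_iff]
    intro x
    have hx : x ∈ A ⊔ B := htop ▸ mem_top x
    have hle : A ⊔ B ≤ centralizer ({n} : Set X) := by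
      refine sup_le ?_ ?_ <;> intro y hy <;> rw [mem_centralizer_singleton_iff]
      · exact (h1 y hy)
      · exact (h2 y hy)
    exact (mem_centralizer_singleton_iff.mp (hle hx))
  · left
    push Not at hfix
    obtain ⟨C, ⟨x, hx, rfl⟩, n, hn, hne⟩ := hfix
    obtain ⟨n', hn', hne'⟩ : ∃ n ∈ N, Cfsg.conjBy A n ≠ A := by
      refine ⟨x⁻¹ * n * x, ?_, fun e => hne ?_⟩
      · simpa using hN.conj_mem n hn x⁻¹
      · rw [conjBy_conjBy, show n * x = x * (x⁻¹ * n * x) by group, ← conjBy_conjBy, e]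
    obtain ⟨y, hy, hyA, hyB⟩ := two_transitive h left_mem_unipotents
      (conj_mem_unipotents left_mem_unipotents (htop ▸ mem_top n')) left_mem_unipotents
      (right_mem_unipotents h) hne'.symm h.ne
    have hB : B = Cfsg.conjBy A (y * n' * y⁻¹) := by
      conv_rhs => rw [← hyA, conjBy_conjBy, inv_mul_cancel_right]
      rw [← hyB, conjBy_conjBy]
    rw [eq_top_iff, ← htop, hB]
    exact sup_le le_sup_right
      (conjBy_le_of_le le_sup_right (mem_sup_left (hN.conj_mem n' hn' y)))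

theorem not_commutative {X : Type*} [Group X] {A B : Subgroup X} (h : Cfsg.IsRankOnePair A B) :
    center X ≠ ⊤ := fun e => not_commute h fun a _ b _ =>
  ((mem_center_iff.mp (e ▸ mem_top b : b ∈ center X)) a)

theorem center_ne_sup {X : Type*} [Group X] {A B : Subgroup X} (h : Cfsg.IsRankOneGroup X A B) :
    center X ⊔ A ≠ ⊤ := by
  intro e
  obtain ⟨x, hx, hxB⟩ := exists_conj h.2
  have hx' : x ∈ center X ⊔ A := e ▸ mem_top x
  have hle : center X ⊔ A ≤ normalizer (A : Set X) :=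
    sup_le (fun z hz => conjBy_eq_self_iff.mp (conjBy_of_commute fun y _ => (mem_center_iff.mp hz y).symm))
      le_normalizer
  exact h.2.ne ((conjBy_eq_self_iff.mpr (hle hx')).symm.trans hxB)

theorem upperCentralSeries_two {X : Type*} [Group X] {A B : Subgroup X}
    (h : Cfsg.IsRankOneGroup X A B) : Subgroup.upperCentralSeries X 2 = center X := by
  have hmono : center X ≤ Subgroup.upperCentralSeries X 2 := by
    rw [← Subgroup.upperCentralSeries_one]; exact Subgroup.upperCentralSeries_mono X one_le_two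
  refine le_antisymm ?_ hmono
  rcases normal_sup_or_central h (Subgroup.upperCentralSeries X 2) inferInstance with hsup | hle
  · exfalso
    apply center_ne_sup h
    obtain ⟨htop, h⟩ := h
    obtain ⟨x, -, hxB⟩ := exists_conj h
    have hx' : x ∈ Subgroup.upperCentralSeries X 2 ⊔ A := hsup ▸ mem_top x
    obtain ⟨z, hz, a, ha, rfl⟩ := mem_sup_of_normal_left.mp hx'
    rw [eq_top_iff, ← htop]
    refine sup_le le_sup_right ?_
    rw [← hxB, ← conjBy_conjBy, conjBy_of_mem ha]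
    intro b hb
    obtain ⟨u, hu, rfl⟩ : ∃ u ∈ A, z * u * z⁻¹ = b :=
      ⟨z⁻¹ * b * z, mem_conjBy.mp hb, by group⟩
    have hc : z * u * z⁻¹ * u⁻¹ ∈ Subgroup.upperCentralSeries X 1 :=
      by simpa [commutatorElement_def] using Subgroup.mem_upperCentralSeries_succ_iff.mp hz u
    rw [Subgroup.upperCentralSeries_one] at hc
    rw [show z * u * z⁻¹ = (z * u * z⁻¹ * u⁻¹) * u by group]
    exact mul_mem (mem_sup_left hc) (mem_sup_right hu)
  · exact hle

theorem not_isNilpotent {X : Type*} [Group X] {A B : Subgroup X}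
    (h : Cfsg.IsRankOneGroup X A B) : ¬ Group.IsNilpotent X := by
  intro hn
  have hconst : ∀ n, Subgroup.upperCentralSeries X (n + 1) = center X := by
    intro n
    induction n with
    | zero => exact Subgroup.upperCentralSeries_one X
    | succ n ih =>
      ext x
      rw [← upperCentralSeries_two h, Subgroup.mem_upperCentralSeries_succ_iff, Subgroup.mem_upperCentralSeries_succ_iff, ih,
        ← Subgroup.upperCentralSeries_one]
  obtain ⟨n, hn⟩ := hn.nilpotent
  apply not_commutative h.2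
  rw [eq_top_iff, ← hn, ← hconst n]
  exact Subgroup.upperCentralSeries_mono X (Nat.le_succ n)

theorem isQuasisimple_of_perfect {X : Type*} [Group X] {A B : Subgroup X}
    (h : Cfsg.IsRankOneGroup X A B) (hp : Group.IsPerfect X) : Cfsg.IsQuasisimple X := by
  refine ⟨hp, ?_⟩
  haveI : Nontrivial (X ⧸ center X) := QuotientGroup.nontrivial_iff.mpr (not_commutative h.2)
  refine ⟨fun H hH => ?_⟩
  let N := H.comap (QuotientGroup.mk' (center X))
  have hmap : N.map (QuotientGroup.mk' (center X)) = H :=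
    Subgroup.map_comap_eq_self_of_surjective (QuotientGroup.mk'_surjective _) H
  rcases normal_sup_or_central h N (hH.comap _) with hsup | hle
  · right
    rw [← hmap]
    suffices hN : N = ⊤ by rw [hN, ← MonoidHom.range_eq_map, MonoidHom.range_eq_top]; exact QuotientGroup.mk'_surjective _
    by_contra hne
    haveI : N.Normal := hH.comap _
    haveI : Nontrivial (X ⧸ N) := QuotientGroup.nontrivial_iff.mpr hne
    have hsurj : Function.Surjective ((QuotientGroup.mk' N).comp A.subtype) := by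
      intro q
      obtain ⟨x, rfl⟩ := QuotientGroup.mk'_surjective N q
      obtain ⟨n, hn, a, ha, rfl⟩ := mem_sup_of_normal_left.mp (hsup ▸ mem_top x : x ∈ N ⊔ A)
      refine ⟨⟨a, ha⟩, ?_⟩
      simp only [MonoidHom.coe_comp, Function.comp_apply, Subgroup.coe_subtype, map_mul,
        QuotientGroup.mk'_apply, (QuotientGroup.eq_one_iff n).mpr hn, one_mul]
    haveI := h.2.nilpotent_left
    haveI := Group.nilpotent_of_surjective _ hsurj
    have hc := IsSolvable.commutator_lt_top_of_nontrivial (X ⧸ N)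
    have htop : commutator X = ⊤ := hp.commutator_eq_top
    rw [commutator_def, ← MonoidHom.range_eq_top.mpr (QuotientGroup.mk'_surjective N),
      MonoidHom.range_eq_map, ← Subgroup.map_commutator, ← commutator_def, htop] at hc
    exact lt_irrefl _ hc
  · left
    rw [← hmap, eq_bot_iff, ← QuotientGroup.map_mk'_self (center X)]
    exact Subgroup.map_mono hle

end Cfsg.Agent.Lib.RootSub
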