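import Cfsg.Agent.Lib.RootSub.RootSet

/-!
A pair in the commutator case with a reversing member.
-/

namespace Cfsg.Agent.Lib.RootSub

open Subgroup
open scoped commutatorElement

variable {G : Type*} [Group G] {S : Set (Subgroup G)} {A B D : Subgroup G}

theorem reverse_isRankOnePair (hS : Cfsg.IsRootSubgroupSet S) (hA : A ∈ S) (hB : B ∈ S)
    (hC : ⁅A, B⁆ ∈ S) (hD : D ∈ S) (hDC : ⁅D, ⁅A, B⁆⁆ = A) : Cfsg.IsRankOnePair B D := by
  have hAB := rootCase_of_commutator_mem hS hA hB hC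
  have hcase := rootCase_of_commutator_mem hS hD hC (by rw [hDC]; exact hA)
  obtain ⟨-, hDcent, hDgen, hDgen'⟩ := hcase
  rw [hDC] at hDcent hDgen hDgen'
  set C := ⁅A, B⁆ with hCdef
  have hAD : ∀ a ∈ A, ∀ d ∈ D, a * d = d * a := fun a ha d hd => hDcent a ha d (mem_sup_left hd)
  have hAC : ∀ a ∈ A, ∀ c ∈ C, a * c = c * a := fun a ha c hc => hDcent a ha c (mem_sup_right hc)
  have hCA : ∀ c ∈ C, ∀ b ∈ B, c * b = b * c := fun c hc b hb => hAB.2.1 c hc b (mem_sup_right hb)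
  rcases hS.pair B hB D hD with h | h | ⟨-, hFcent, -, -⟩
  · exfalso
    apply hS.ne_bot A hA
    rw [← hDC, commutator_eq_bot_iff_le_centralizer]
    intro d hd
    have hle : C ≤ centralizer ({d} : Set G) := by
      rw [hCdef, commutator_le]
      intro a ha b hb
      rw [mem_centralizer_singleton_iff, commutatorElement_def]
      have h1 : Commute d a := (hAD a ha d hd).symm
      have h2 : Commute d b := (commute_of_commutator_eq_bot h hb hd).symm
      exact (((h1.mul_right h2).mul_right h1.inv_right).mul_right h2.inv_right).eq.symm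
    rw [mem_centralizer_iff]
    intro c hc
    exact mem_centralizer_singleton_iff.mp (hle hc)
  · exact h
  · exfalso
    obtain ⟨b, hb, hb1⟩ := (bot_or_exists_ne_one B).resolve_left (hS.ne_bot B hB)
    obtain ⟨a, ha, hab⟩ : ∃ a ∈ A, b * a⁻¹ * b⁻¹ * a ≠ 1 := by
      by_contra hh
      push Not at hh
      apply hS.ne_bot C hC
      rw [hCdef, ← hAB.2.2.2 b hb hb1, closure_eq_bot_iff]
      rintro _ ⟨a, ha, rfl⟩
      simp only [Set.mem_singleton_iff]
      have := hh a ha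
      calc a * b * a⁻¹ * b⁻¹ = a * (b * a⁻¹ * b⁻¹ * a) * a⁻¹ := by group
        _ = 1 := by rw [this]; group
    obtain ⟨c₀, hc₀, hc₀C⟩ : ∃ c₀, b * a⁻¹ * b⁻¹ * a = c₀ ∧ c₀ ∈ C := by
      refine ⟨_, rfl, ?_⟩
      rw [hCdef, Subgroup.commutator_comm]
      simpa using mem_commutator_elem hb (inv_mem ha)
    rw [hc₀] at hab
    have hkey : ∀ d ∈ D, b * (d * c₀ * d⁻¹ * c₀⁻¹) * b⁻¹ ∈ A := by
      intro d hd
      by_cases hd1 : d = 1
      · subst hd1; simp
      obtain ⟨c', hc', hca⟩ := commutatorMap_surj hS (rootCase_of_commutator_mem hS hD hC (by rw [hDC]; exact hA))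
        (le_refl C) hd ((hDgen d⁻¹ (inv_mem hd) (inv_ne_one.mpr hd1)).trans hDC.symm) (by rw [hDC]; exact ha :
          a ∈ ⁅D, C⁆)
      obtain ⟨c, rfl⟩ : ∃ c, c⁻¹ = c' := ⟨c'⁻¹, inv_inv _⟩
      rw [inv_inv] at hca
      have hc : c ∈ C := by simpa using inv_mem hc'
      -- `d⁻¹` sends `c` to `a * c`
      have hdc : d⁻¹ * c * d = a * c := by rw [← hca]; group
      obtain ⟨e, hedef⟩ : ∃ e, b * d * b⁻¹ = e := ⟨_, rfl⟩
      have hed : e * d = d * e := by
        have hF : b * d * b⁻¹ * d⁻¹ ∈ ⁅B, D⁆ := mem_commutator_elem hb hd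
        have := hFcent _ hF d (mem_sup_right hd)
        calc e * d = (b * d * b⁻¹ * d⁻¹) * d * d := by rw [← hedef]; group
          _ = d * (b * d * b⁻¹ * d⁻¹) * d := by rw [this]
          _ = _ := by rw [← hedef]; group
      set u := e⁻¹ * c * e * c⁻¹ with hu
      have huA : b⁻¹ * u * b ∈ A := by
        have h1 : b⁻¹ * u * b = d⁻¹ * (b⁻¹ * c * b) * d * (b⁻¹ * c * b)⁻¹ := by rw [hu, ← hedef]; group
        rw [h1, mul_assoc b⁻¹ c b, hCA c hc b hb, inv_mul_cancel_left, ← hDC]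
        simpa using mem_commutator_elem (inv_mem hd) hc
      -- the image of `u` under `d⁻¹`
      have hu2 : d⁻¹ * u * d * u⁻¹ ∈ A := by
        obtain ⟨a', ha', hua⟩ : ∃ a', a' ∈ A ∧ b * a' * b⁻¹ = u := ⟨_, huA, by group⟩
        obtain ⟨c'', hc'', hba⟩ : ∃ c'', c'' ∈ C ∧ b * a' * b⁻¹ = c'' * a' := by
          refine ⟨b * a' * b⁻¹ * a'⁻¹, ?_, by group⟩
          rw [hCdef, Subgroup.commutator_comm]
          exact mem_commutator_elem hb ha'
        rw [← hua, hba, show d⁻¹ * (c'' * a') * d * (c'' * a')⁻¹ =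
          d⁻¹ * c'' * (a' * d) * a'⁻¹ * c''⁻¹ by group, hAD a' ha' d hd,
          show d⁻¹ * c'' * (d * a') * a'⁻¹ * c''⁻¹ = d⁻¹ * c'' * d * c''⁻¹ by group, ← hDC]
        simpa using mem_commutator_elem (inv_mem hd) hc''
      have h2 : e⁻¹ * a * e * u = d⁻¹ * u * d * a := by
        have := congrArg (fun x => x⁻¹ * c * x) hed
        simp only [mul_inv_rev] at this
        have l : d⁻¹ * e⁻¹ * c * (e * d) = d⁻¹ * u * d * (a * c) := by
          rw [← hdc, hu]; group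
        have r : e⁻¹ * d⁻¹ * c * (d * e) = e⁻¹ * a * e * u * c := by
          calc e⁻¹ * d⁻¹ * c * (d * e) = e⁻¹ * (d⁻¹ * c * d) * e := by group
            _ = _ := by rw [hdc, hu]; group
        rw [l, r, ← mul_assoc] at this
        exact (mul_right_cancel this).symm
      have h3 : e⁻¹ * a * e * a⁻¹ ∈ A := by
        have h4 : e⁻¹ * a * e = d⁻¹ * u * d * u⁻¹ * (u * a * u⁻¹) := by
          calc e⁻¹ * a * e = e⁻¹ * a * e * u * u⁻¹ := by group
            _ = _ := by rw [h2]; group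
        have hua : u * a * u⁻¹ = a := by
          obtain ⟨a', ha', hua⟩ : ∃ a', a' ∈ A ∧ b * a' * b⁻¹ = u := ⟨_, huA, by group⟩
          obtain ⟨c'', hc'', hba⟩ : ∃ c'', c'' ∈ C ∧ b * a' * b⁻¹ = c'' * a' := by
            refine ⟨b * a' * b⁻¹ * a'⁻¹, ?_, by group⟩
            rw [hCdef, Subgroup.commutator_comm]
            exact mem_commutator_elem hb ha'
          rw [← hua, hba, mul_inv_eq_iff_eq_mul, mul_assoc, comm_of_mem hS hA ha' ha, ← mul_assoc,
            ← hAC a ha c'' hc'', mul_assoc]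
        rw [h4, hua, mul_inv_cancel_right]
        exact hu2
      have hsub : e⁻¹ * a * e * a⁻¹ = b * (d⁻¹ * c₀ * d * c₀⁻¹) * b⁻¹ := by
        have hfix : e⁻¹ * (b * a * b⁻¹) * e = b * a * b⁻¹ := by
          calc e⁻¹ * (b * a * b⁻¹) * e = b * (d⁻¹ * (a * d)) * b⁻¹ := by rw [← hedef]; group
            _ = _ := by rw [hAD a ha d hd]; group
        have hbc : b⁻¹ * c₀ * b = c₀ := by rw [mul_assoc, hCA c₀ hc₀C b hb, inv_mul_cancel_left]
        calc e⁻¹ * a * e * a⁻¹ = e⁻¹ * (b * a * b⁻¹ * c₀) * e * a⁻¹ := by rw [← hc₀]; group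
          _ = (e⁻¹ * (b * a * b⁻¹) * e) * (e⁻¹ * c₀ * e) * a⁻¹ := by group
          _ = (b * a * b⁻¹) * (e⁻¹ * c₀ * e) * a⁻¹ := by rw [hfix]
          _ = (b * a * b⁻¹) * (b * (d⁻¹ * (b⁻¹ * c₀ * b) * d) * b⁻¹) * a⁻¹ := by rw [← hedef]; group
          _ = b * (a * (d⁻¹ * c₀ * d)) * b⁻¹ * a⁻¹ := by rw [hbc]; group
          _ = b * ((d⁻¹ * c₀ * d) * a) * b⁻¹ * a⁻¹ := by
            have hk : d⁻¹ * c₀ * d * c₀⁻¹ ∈ A := by
              rw [← hDC]; simpa using mem_commutator_elem (inv_mem hd) hc₀C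
            have : a * (d⁻¹ * c₀ * d) = (d⁻¹ * c₀ * d) * a := by
              calc a * (d⁻¹ * c₀ * d) = (a * (d⁻¹ * c₀ * d * c₀⁻¹)) * c₀ := by group
                _ = (d⁻¹ * c₀ * d * c₀⁻¹) * (a * c₀) := by rw [comm_of_mem hS hA ha hk, mul_assoc]
                _ = _ := by rw [hAC a ha c₀ hc₀C]; group
            rw [this]
          _ = b * (d⁻¹ * c₀ * d) * (a * b⁻¹ * a⁻¹) := by group
          _ = b * (d⁻¹ * c₀ * d) * (b⁻¹ * c₀⁻¹) := by
            have e1 : a * c₀ * a⁻¹ = c₀ := by rw [hAC a ha c₀ hc₀C, mul_inv_cancel_right]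
            have e2 : a * b⁻¹ * a⁻¹ = b⁻¹ * (a * c₀ * a⁻¹)⁻¹ := by rw [← hc₀]; group
            rw [e2, e1]
          _ = b * (d⁻¹ * c₀ * d) * (c₀ * b)⁻¹ := by rw [mul_inv_rev]
          _ = b * (d⁻¹ * c₀ * d) * (b * c₀)⁻¹ := by rw [hCA c₀ hc₀C b hb]
          _ = _ := by group
      have h5 : b * (d⁻¹ * c₀ * d * c₀⁻¹) * b⁻¹ ∈ A := hsub ▸ h3
      have hk : d⁻¹ * c₀ * d * c₀⁻¹ ∈ A := by
        rw [← hDC]; simpa using mem_commutator_elem (inv_mem hd) hc₀C
      have h6 : d * c₀ * d⁻¹ * c₀⁻¹ = (d⁻¹ * c₀ * d * c₀⁻¹)⁻¹ := by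
        have hkd := hAD _ (inv_mem hk) d hd
        calc d * c₀ * d⁻¹ * c₀⁻¹ = d * (d⁻¹ * c₀ * d * c₀⁻¹)⁻¹ * d⁻¹ := by group
          _ = _ := by rw [← hkd, mul_inv_cancel_right]
      rw [h6, show b * (d⁻¹ * c₀ * d * c₀⁻¹)⁻¹ * b⁻¹ = (b * (d⁻¹ * c₀ * d * c₀⁻¹) * b⁻¹)⁻¹ by group]
      exact inv_mem h5
    have hAfix : ∀ x ∈ A, b * x * b⁻¹ ∈ A := by
      intro x hx
      rw [← hDgen' c₀ hc₀C hab] at hx
      induction hx using Subgroup.closure_induction with
      | mem y hy => obtain ⟨d, hd, rfl⟩ := hy; exact hkey d hd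
      | one => simp
      | mul u v _ _ hu hv =>
        rw [show b * (u * v) * b⁻¹ = (b * u * b⁻¹) * (b * v * b⁻¹) by group]
        exact mul_mem hu hv
      | inv u _ hu =>
        rw [show b * u⁻¹ * b⁻¹ = (b * u * b⁻¹)⁻¹ by group]
        exact inv_mem hu
    have hle : C ≤ A := by
      rw [hCdef, ← hAB.2.2.2 b hb hb1, closure_le]
      rintro _ ⟨x, hx, rfl⟩
      change x * b * x⁻¹ * b⁻¹ ∈ A
      rw [show x * b * x⁻¹ * b⁻¹ = x * (b * x⁻¹ * b⁻¹) by group]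
      exact mul_mem hx (hAfix _ (inv_mem hx))
    apply hS.ne_bot A hA
    rw [← hDC, commutator_eq_bot_iff_le_centralizer]
    intro d hd
    rw [mem_centralizer_iff]
    intro c hc
    exact hAD c (hle hc) d hd

theorem reverse_orbit (hS : Cfsg.IsRootSubgroupSet S) (hA : A ∈ S) (hB : B ∈ S)
    (hC : ⁅A, B⁆ ∈ S) (hD : D ∈ S) (hDC : ⁅D, ⁅A, B⁆⁆ = A) :
    {E | ∃ x ∈ B ⊔ D, E = Cfsg.conjBy A x} = {E | ∃ x ∈ B ⊔ D, E = Cfsg.conjBy ⁅A, B⁆ x} ∧
    {E | ∃ x ∈ B ⊔ D, E = Cfsg.conjBy A x} = (fun b : G => Cfsg.conjBy A b) '' (B : Set G) ∪ {⁅A, B⁆} ∧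
    {E | ∃ x ∈ B ⊔ D, E = Cfsg.conjBy A x} = (fun d : G => Cfsg.conjBy ⁅A, B⁆ d) '' (D : Set G) ∪ {A} ∧
    Cfsg.IsSubgroupPartition (A ⊔ ⁅A, B⁆) {E | ∃ x ∈ B ⊔ D, E = Cfsg.conjBy A x} ∧
    ∀ x ∈ (B ⊔ D) ⊓ Subgroup.centralizer ((A ⊔ ⁅A, B⁆ : Subgroup G) : Set G), ∀ y ∈ B ⊔ D, x * y = y * x := by
  have hBD := reverse_isRankOnePair hS hA hB hC hD hDC
  have hAB := rootCase_of_commutator_mem hS hA hB hC
  have hDCc := rootCase_of_commutator_mem hS hD hC (by rw [hDC]; exact hA)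
  set C := ⁅A, B⁆ with hCdef
  set N := A ⊔ C with hNdef
  have hDcent : ∀ a ∈ A, ∀ x ∈ D ⊔ C, a * x = x * a := fun a ha x hx => hDCc.2.1 a (by rw [hDC]; exact ha) x hx
  have hAC : ∀ a ∈ A, ∀ c ∈ C, a * c = c * a := fun a ha c hc => hDcent a ha c (mem_sup_right hc)
  -- injectivity
  have hinjA : ∀ a ∈ A, (∀ b ∈ B, a * b = b * a) → a = 1 := by
    intro a ha h
    obtain ⟨b, hb, hb1⟩ := exists_ne_one_left hBD
    exact commutatorMap_injective hS (rootCase_symm hAB) hB hD hBD hb hb1 ha (by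
      rw [mul_assoc, ← h b hb]
      group)
  have hinjC : ∀ c ∈ C, (∀ d ∈ D, c * d = d * c) → c = 1 := by
    intro c hc h
    obtain ⟨d, hd, hd1⟩ := exists_ne_one_left (Cfsg.RankOnePair_symm hBD)
    refine commutatorMap_injective hS hDCc hD hB (Cfsg.RankOnePair_symm hBD) hd hd1 hc ?_
    rw [mul_assoc, ← h d hd]
    group
  have hdisj : A ⊓ C = ⊥ := (eq_bot_iff_forall _).mpr fun x hx =>
    hinjA x (mem_inf.mp hx).1 fun b hb => hAB.2.1 x (mem_inf.mp hx).2 b (mem_sup_right hb)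
  have hdec : ∀ x ∈ N, ∃ a ∈ A, ∃ c ∈ C, x = a * c := by
    intro x hx
    let T : Subgroup G :=
      { carrier := {x | ∃ a ∈ A, ∃ c ∈ C, x = a * c}
        one_mem' := ⟨1, one_mem _, 1, one_mem _, by group⟩
        mul_mem' := by
          rintro _ _ ⟨a, ha, c, hc', rfl⟩ ⟨a', ha', c', hc'', rfl⟩
          refine ⟨a * a', mul_mem ha ha', c * c', mul_mem hc' hc'', ?_⟩
          calc a * c * (a' * c') = a * (c * a') * c' := by group
            _ = a * a' * (c * c') := by rw [← hAC a' ha' c hc']; group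
        inv_mem' := by
          rintro _ ⟨a, ha, c, hc', rfl⟩
          exact ⟨a⁻¹, inv_mem ha, c⁻¹, inv_mem hc', by rw [mul_inv_rev, hAC a⁻¹ (inv_mem ha) c⁻¹ (inv_mem hc')]⟩ }
    exact (sup_le (a := A) (b := C) (c := T) (fun a ha => ⟨a, ha, 1, one_mem _, (mul_one a).symm⟩)
      (fun c hc' => ⟨1, one_mem _, c, hc', (one_mul c).symm⟩)) hx
  -- `N` is invariant
  have hle : ∀ y, y ∈ B ∨ y ∈ D → Cfsg.conjBy N y ≤ N := by
    intro y hy
    rw [hNdef, conjBy_sup]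
    refine sup_le (fun u hu => ?_) (fun u hu => ?_) <;> have hu' := mem_conjBy.mp hu <;>
      rw [show u = (y * (y⁻¹ * u * y) * y⁻¹ * (y⁻¹ * u * y)⁻¹) * (y⁻¹ * u * y) by group] <;> rcases hy with hy | hy
    · refine mul_mem (mem_sup_right ?_) (mem_sup_left hu')
      rw [hCdef, Subgroup.commutator_comm]
      exact mem_commutator_elem hy hu'
    · refine mul_mem ?_ (mem_sup_left hu')
      rw [← hDcent _ hu' y (mem_sup_left hy)]
      simp [one_mem]
    · refine mul_mem ?_ (mem_sup_right hu')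
      rw [← hAB.2.1 _ hu' y (mem_sup_right hy)]
      simp [one_mem]
    · refine mul_mem (mem_sup_left ?_) (mem_sup_right hu')
      rw [← hDC]
      exact mem_commutator_elem hy hu'
  have hnorm : ∀ x ∈ B ⊔ D, Cfsg.conjBy N x = N := by
    intro x hx
    rw [conjBy_eq_self_iff]
    refine (sup_le ?_ ?_ : B ⊔ D ≤ normalizer (N : Set G)) hx <;> intro y hy <;> rw [← conjBy_eq_self_iff]
    · refine le_antisymm (hle y (Or.inl hy)) ?_
      have := conjBy_mono (hle y⁻¹ (Or.inl (inv_mem hy))) y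
      rwa [conjBy_conjBy, mul_inv_cancel, conjBy_one] at this
    · refine le_antisymm (hle y (Or.inr hy)) ?_
      have := conjBy_mono (hle y⁻¹ (Or.inr (inv_mem hy))) y
      rwa [conjBy_conjBy, mul_inv_cancel, conjBy_one] at this
  -- fixed points in `N`
  let Φ : Subgroup G → Subgroup G := fun E => N ⊓ centralizer (E : Set G)
  have hΦconj : ∀ E, ∀ x ∈ B ⊔ D, Φ (Cfsg.conjBy E x) = Cfsg.conjBy (Φ E) x := by
    intro E x hx
    ext u
    rw [mem_conjBy, mem_inf, mem_inf]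
    refine and_congr ?_ ?_
    · conv_lhs => rw [← hnorm x hx]
      exact mem_conjBy
    · simp only [mem_centralizer_iff]
      constructor
      · intro h e he
        have := h (x * e * x⁻¹) (conj_mem_conjBy he)
        calc e * (x⁻¹ * u * x) = x⁻¹ * ((x * e * x⁻¹) * u) * x := by group
          _ = _ := by rw [this]; group
      · intro h e he
        have := h (x⁻¹ * e * x) (mem_conjBy.mp he)
        calc e * u = x * ((x⁻¹ * e * x) * (x⁻¹ * u * x)) * x⁻¹ := by group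
          _ = _ := by rw [this]; group
  have hΦB : Φ B = C := by
    refine le_antisymm (fun u hu => ?_) (fun c hc => mem_inf.mpr ⟨mem_sup_right hc, ?_⟩)
    · obtain ⟨hu, huc⟩ := mem_inf.mp hu
      obtain ⟨a, ha, c, hc, rfl⟩ := hdec u hu
      have : a = 1 := hinjA a ha fun b hb => by
        have h1 := mem_centralizer_iff.mp huc b hb
        have h2 := hAB.2.1 c hc b (mem_sup_right hb)
        apply mul_right_cancel (b := c)
        calc a * b * c = a * (c * b) := by rw [h2, mul_assoc]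
          _ = _ := by rw [← mul_assoc, ← h1, mul_assoc]
      rw [this, one_mul]; exact hc
    · rw [mem_centralizer_iff]
      exact fun b hb => (hAB.2.1 c hc b (mem_sup_right hb)).symm
  have hΦD : Φ D = A := by
    refine le_antisymm (fun u hu => ?_) (fun a ha => mem_inf.mpr ⟨mem_sup_left ha, ?_⟩)
    · obtain ⟨hu, huc⟩ := mem_inf.mp hu
      obtain ⟨a, ha, c, hc, rfl⟩ := hdec u hu
      have : c = 1 := hinjC c hc fun d hd => by
        have h1 := mem_centralizer_iff.mp huc d hd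
        have h2 := hDcent a ha d (mem_sup_left hd)
        apply mul_left_cancel (a := a)
        calc a * (c * d) = d * (a * c) := by rw [h1, mul_assoc]
          _ = _ := by rw [← mul_assoc, ← h2, mul_assoc]
      rw [this, mul_one]; exact ha
    · rw [mem_centralizer_iff]
      exact fun d hd => (hDcent a ha d (mem_sup_left hd)).symm
  have hDm := right_mem_unipotents hBD
  have hA_eq : ∀ x ∈ B ⊔ D, Cfsg.conjBy A x = Φ (Cfsg.conjBy D x) := fun x hx => by rw [hΦconj D x hx, hΦD]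
  have hC_eq : ∀ x ∈ B ⊔ D, Cfsg.conjBy C x = Φ (Cfsg.conjBy B x) := fun x hx => by rw [hΦconj B x hx, hΦB]
  obtain ⟨x₀, hx₀, hx₀D⟩ := exists_conj hBD
  have hCA : Cfsg.conjBy C x₀ = A := by rw [hC_eq x₀ hx₀, hx₀D, hΦD]
  refine ⟨?_, ?_, ?_, ?_, ?_⟩
  · ext E
    constructor
    · rintro ⟨x, hx, rfl⟩; exact ⟨x * x₀, mul_mem hx hx₀, by rw [← hCA, conjBy_conjBy]⟩
    · rintro ⟨x, hx, rfl⟩
      exact ⟨x * x₀⁻¹, mul_mem hx (inv_mem hx₀), by rw [← hCA, conjBy_conjBy, inv_mul_cancel_right]⟩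
  · ext E
    constructor
    · rintro ⟨x, hx, rfl⟩
      rcases unipotent_cases hBD (conj_mem_unipotents hDm hx) with e | ⟨b, hb, e⟩
      · right; rw [hA_eq x hx, e, hΦB]; rfl
      · exact Or.inl ⟨b, hb, by rw [hA_eq x hx, e, ← hA_eq b (mem_sup_left hb)]⟩
    · rintro (⟨b, hb, rfl⟩ | rfl)
      · exact ⟨b, mem_sup_left hb, rfl⟩
      · exact ⟨x₀⁻¹, inv_mem hx₀, by rw [← hCA, conjBy_conjBy, inv_mul_cancel, conjBy_one]⟩
  · have hBm : B ∈ Cfsg.unipotentSubgroups D B := right_mem_unipotents (Cfsg.RankOnePair_symm hBD)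
    ext E
    constructor
    · rintro ⟨x, hx, rfl⟩
      have hx' : x ∈ D ⊔ B := by rwa [sup_comm]
      rcases unipotent_cases (Cfsg.RankOnePair_symm hBD)
        (conj_mem_unipotents left_mem_unipotents hx') with e | ⟨d, hd, e⟩
      · right; rw [hA_eq x hx, e, hΦD]; rfl
      · exact Or.inl ⟨d, hd, by rw [hA_eq x hx, e, ← hC_eq d (mem_sup_right hd)]⟩
    · rintro (⟨d, hd, rfl⟩ | rfl)
      · exact ⟨d * x₀⁻¹, mul_mem (mem_sup_right hd) (inv_mem hx₀), by
          rw [← hCA, conjBy_conjBy, inv_mul_cancel_right]⟩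
      · exact ⟨1, one_mem _, conjBy_one.symm⟩
  · refine ⟨?_, fun u hu hu1 => ?_, ?_⟩
    · rintro E ⟨x, hx, rfl⟩
      exact (conjBy_mono le_sup_left x).trans (hnorm x hx).le
    · obtain ⟨a, ha, c, hc, rfl⟩ := hdec u hu
      by_cases ha1 : a = 1
      · exact ⟨C, ⟨x₀⁻¹, inv_mem hx₀, by rw [← hCA, conjBy_conjBy, inv_mul_cancel, conjBy_one]⟩, by
          rw [ha1, one_mul]; exact hc⟩
      · obtain ⟨b, hb, e⟩ := commutatorMap_surj hS hAB (le_refl B) ha
          (hAB.2.2.1 a⁻¹ (inv_mem ha) (inv_ne_one.mpr ha1)) hc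
        refine ⟨_, ⟨b⁻¹, inv_mem (mem_sup_left hb), rfl⟩, mem_conjBy.mpr ?_⟩
        rw [← e]
        simpa [mul_assoc] using ha
    · rintro E ⟨x, hx, rfl⟩ F ⟨y, hy, rfl⟩ hne
      have hne' : Cfsg.conjBy D x ≠ Cfsg.conjBy D y := fun e => hne (by rw [hA_eq x hx, hA_eq y hy, e])
      obtain ⟨z, hz, hz1, hz2⟩ := exists_pair_conj hBD (conj_mem_unipotents hDm hx)
        (conj_mem_unipotents hDm hy) hne'
      rw [hA_eq x hx, hA_eq y hy, ← hz1, ← hz2, hΦconj B z hz, hΦconj D z hz, hΦB, hΦD,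
        ← Subgroup.map_inf _ _ _ (MulAut.conj z).injective, inf_comm, hdisj]
      exact Subgroup.map_bot _
  · intro x hx y hy
    have hfixall : ∀ z ∈ B ⊔ D, (∀ u ∈ N, z * u = u * z) → ∀ E ∈ Cfsg.unipotentSubgroups B D,
        Cfsg.conjBy E z = E := by
      intro z hz hzc E hE
      by_contra hne
      obtain ⟨w, hw, hw1, hw2⟩ := exists_pair_conj hBD (conj_mem_unipotents hE hz) hE hne
      have h1 : Φ (Cfsg.conjBy E z) = Φ E := by
        rw [hΦconj E z hz]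
        exact conjBy_of_commute fun u hu => hzc u (mem_inf.mp hu).1
      rw [← hw1, ← hw2, hΦconj B w hw, hΦconj D w hw, hΦB, hΦD] at h1
      have : C = A := conjBy_injective w h1
      exact hS.ne_bot A hA (by rw [this, inf_idem] at hdisj; exact hdisj)
    obtain ⟨hxX, hxN⟩ := mem_inf.mp hx
    rw [mem_centralizer_iff] at hxN
    have hkey : ∀ P Q : Subgroup G, Cfsg.IsRankOnePair P Q → P ≤ B ⊔ D →
        P ∈ Cfsg.unipotentSubgroups B D → Q ∈ Cfsg.unipotentSubgroups B D → ∀ b ∈ P, x * b = b * x := by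
      intro P Q hPQ hPle hP hQ b hb
      have hz : x * (b * x⁻¹ * b⁻¹) ∈ B ⊔ D := mul_mem hxX (mul_mem (mul_mem (hPle hb) (inv_mem hxX)) (inv_mem (hPle hb)))
      have hzc : ∀ u ∈ N, x * (b * x⁻¹ * b⁻¹) * u = u * (x * (b * x⁻¹ * b⁻¹)) := by
        intro u hu
        have hu' : b⁻¹ * u * b ∈ N := mem_conjBy.mp ((hnorm b (hPle hb)).ge hu)
        have h1 : Commute x u := (hxN u hu).symm
        have h2 : Commute x⁻¹ (b⁻¹ * u * b) := (show Commute x _ from (hxN _ hu').symm).inv_left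
        have h3 : Commute (b * x⁻¹ * b⁻¹) u := by
          change b * x⁻¹ * b⁻¹ * u = u * (b * x⁻¹ * b⁻¹)
          calc b * x⁻¹ * b⁻¹ * u = b * (x⁻¹ * (b⁻¹ * u * b)) * b⁻¹ := by group
            _ = _ := by rw [h2.eq]; group
        exact (h1.mul_left h3).eq
      have hmem : x * (b * x⁻¹ * b⁻¹) ∈ P := by
        rw [show x * (b * x⁻¹ * b⁻¹) = (x * b * x⁻¹) * b⁻¹ by group]
        exact mul_mem ((hfixall x hxX (fun u hu => (hxN u hu).symm) P hP).le (conj_mem_conjBy hb)) (inv_mem hb)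
      have := eq_one_of_fix hPQ hmem (hfixall _ hz hzc Q hQ)
      calc x * b = x * (b * x⁻¹ * b⁻¹) * (b * x) := by group
        _ = _ := by rw [this, one_mul]
    have hle : B ⊔ D ≤ centralizer ({x} : Set G) := by
      refine sup_le ?_ ?_ <;> intro b hb <;> rw [mem_centralizer_singleton_iff]
      · exact (hkey B D hBD le_sup_left left_mem_unipotents hDm b hb).symm
      · exact (hkey D B (Cfsg.RankOnePair_symm hBD) le_sup_right hDm left_mem_unipotents b hb).symm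
    exact (mem_centralizer_singleton_iff.mp (hle hy)).symm

end Cfsg.Agent.Lib.RootSub
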