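import Cfsg.Agent.Lib.RootSub.RankOne

/-!
Sets of abstract root subgroups: first consequences of the axioms.
-/

namespace Cfsg.Agent.Lib.RootSub

open Subgroup
open scoped commutatorElement

variable {G : Type*} [Group G] {S : Set (Subgroup G)} {A B : Subgroup G}

theorem mem_commutator_elem {a b : G} (ha : a ∈ A) (hb : b ∈ B) :
    a * b * a⁻¹ * b⁻¹ ∈ ⁅A, B⁆ := by
  simpa [commutatorElement_def] using Subgroup.commutator_mem_commutator ha hb

theorem commute_of_commutator_eq_bot (h : ⁅A, B⁆ = ⊥) {a b : G} (ha : a ∈ A) (hb : b ∈ B) :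
    a * b = b * a :=
  commutatorElement_eq_one_iff_mul_comm.mp (mem_bot.mp (h ▸ commutator_mem_commutator ha hb))

theorem comm_of_mem (hS : Cfsg.IsRootSubgroupSet S) (hA : A ∈ S) {x y : G} (hx : x ∈ A)
    (hy : y ∈ A) : x * y = y * x := by
  have := (hS.commutative A hA).is_comm.comm ⟨x, hx⟩ ⟨y, hy⟩
  exact congrArg Subtype.val this

theorem conjBy_commutator (g : G) :
    Cfsg.conjBy ⁅A, B⁆ g = ⁅Cfsg.conjBy A g, Cfsg.conjBy B g⁆ := Subgroup.map_commutator _ _ _

theorem exists_partner (hAS : A ∈ S) (h : ¬ Cfsg.IsIsolatedIn (Cfsg.FAdj S) S A) :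
    ∃ P ∈ S, Cfsg.IsRankOnePair A P := by
  simp only [Cfsg.IsIsolatedIn, hAS, true_and, not_forall] at h
  obtain ⟨P, hP⟩ := h
  simp only [not_and_or, not_not] at hP
  rcases hP with ⟨-, hP, h⟩ | ⟨hP, -, h⟩
  · exact ⟨P, hP, h⟩
  · exact ⟨P, hP, Cfsg.RankOnePair_symm h⟩

theorem partner_conj (hS : Cfsg.IsRootSubgroupSet S) {P : Subgroup G} (hP : P ∈ S)
    (h : Cfsg.IsRankOnePair A P) (g : G) :
    ∃ Q ∈ S, Cfsg.IsRankOnePair (Cfsg.conjBy A g) Q :=
  ⟨_, hS.conj_mem P hP g, isRankOnePair_conjBy h g⟩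

theorem rootCase_symm (h : Cfsg.RootCommutatorCase S A B) : Cfsg.RootCommutatorCase S B A := by
  obtain ⟨h1, h2, h3, h4⟩ := h
  have e : ⁅B, A⁆ = ⁅A, B⁆ := Subgroup.commutator_comm B A
  have key : ∀ (A B : Subgroup G) (b : G), Subgroup.closure ((fun a : G => a * b * a⁻¹ * b⁻¹) '' (A : Set G)) =
      Subgroup.closure ((fun a : G => b * a * b⁻¹ * a⁻¹) '' (A : Set G)) := by
    intro A _ b
    apply le_antisymm <;> rw [closure_le] <;> rintro _ ⟨a, ha, rfl⟩
    · have : a * b * a⁻¹ * b⁻¹ = (b * a * b⁻¹ * a⁻¹)⁻¹ := by group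
      rw [SetLike.mem_coe]
      simp only
      rw [this]
      exact inv_mem (subset_closure ⟨a, ha, rfl⟩)
    · have : b * a * b⁻¹ * a⁻¹ = (a * b * a⁻¹ * b⁻¹)⁻¹ := by group
      rw [SetLike.mem_coe]
      simp only
      rw [this]
      exact inv_mem (subset_closure ⟨a, ha, rfl⟩)
  refine ⟨e ▸ h1, fun c hc x hx => h2 c (e ▸ hc) x (by rwa [sup_comm]), fun b hb hb1 => ?_,
    fun a ha ha1 => ?_⟩
  · rw [← key A B b, e, h4 b hb hb1]
  · rw [key B A a, e, h3 a ha ha1]

/-- Elements centralising a rank one group cannot shift root elements. -/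
theorem shift (hS : Cfsg.IsRootSubgroupSet S) (hA : A ∈ S) (hB : B ∈ S)
    (h : Cfsg.IsRankOnePair A B) {a c : G} (ha : a ∈ A) (ha1 : a ≠ 1)
    (hc : ∀ x ∈ A ⊔ B, c * x = x * c) {E : Subgroup G} (hE : E ∈ S) (he : c * a ∈ E) :
    c = 1 ∧ E = A := by
  have hca : ∀ x ∈ A, (c * a) * x = x * (c * a) := fun x hx => by
    rw [mul_assoc, comm_of_mem hS hA ha hx, ← mul_assoc, hc x (mem_sup_left hx), mul_assoc]
  have hconj : ∀ x, (∀ y ∈ A ⊔ B, c * y = y * c) → x ∈ A ⊔ B → c * a * x * (c * a)⁻¹ = a * x * a⁻¹ := by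
    intro x hc hx
    calc c * a * x * (c * a)⁻¹ = c * (a * x * a⁻¹) * c⁻¹ := by group
      _ = _ := by rw [hc _ (mul_mem (mul_mem (mem_sup_left ha) hx) (inv_mem (mem_sup_left ha))), mul_inv_cancel_right]
  have hne : c * a ≠ 1 := by
    intro e
    apply ha1
    apply eq_one_of_fix h ha
    apply conjBy_of_commute
    intro x hx
    have := hconj x hc (mem_sup_right hx)
    rw [e] at this
    exact mul_inv_eq_iff_eq_mul.mp (by simpa using this.symm)
  have hEA : ∀ x ∈ E, ∀ y ∈ A, x * y = y * x := by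
    rcases hS.pair E hE A hA with h0 | h0 | ⟨hC, -, hl, -⟩
    · exact fun x hx y hy => commute_of_commutator_eq_bot h0 hx hy
    · exact absurd (eq_one_of_fix h0 he (conjBy_of_commute hca)) hne
    · exfalso
      apply hS.ne_bot _ hC
      rw [← hl _ he hne, closure_eq_bot_iff]
      rintro _ ⟨x, hx, rfl⟩
      simp only [Set.mem_singleton_iff]
      rw [hca x hx]
      group
  have hfix : ∀ x ∈ B, ∀ y ∈ B, (a * x * a⁻¹ * x⁻¹) * y = y * (a * x * a⁻¹ * x⁻¹) → (a * x * a⁻¹) * y = y * (a * x * a⁻¹) := by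
    intro x hx y hy hcc
    calc (a * x * a⁻¹) * y = (a * x * a⁻¹ * x⁻¹) * (x * y) := by group
      _ = (a * x * a⁻¹ * x⁻¹) * (y * x) := by rw [comm_of_mem hS hB hx hy]
      _ = y * (a * x * a⁻¹ * x⁻¹) * x := by rw [← hcc]; group
      _ = _ := by group
  rcases hS.pair E hE B hB with h0 | h0 | ⟨hC, hcent, -, -⟩
  · exfalso
    apply ha1
    apply eq_one_of_fix h ha
    apply conjBy_of_commute
    intro x hx
    have := hconj x hc (mem_sup_right hx)
    rw [commute_of_commutator_eq_bot h0 he hx, mul_inv_cancel_right] at this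
    exact mul_inv_eq_iff_eq_mul.mp this.symm
  · obtain ⟨b, hb, -, heq⟩ := h0.cond_left _ he hne
    obtain ⟨b₀, hb₀, -, heq₀⟩ := h.cond_left a ha ha1
    have hBa : Cfsg.conjBy B (c * a)⁻¹ = Cfsg.conjBy B a⁻¹ := by
      rw [mul_inv_rev, ← conjBy_conjBy, conjBy_of_commute (g := c⁻¹)]
      intro x hx
      rw [inv_mul_eq_iff_eq_mul, ← mul_assoc, hc x (mem_sup_right hx), mul_inv_cancel_right]
    rw [hBa, ← heq₀, conjBy_eq_iff, inv_inv, conjBy_conjBy] at heq
    have hEm : E ∈ Cfsg.unipotentSubgroups A B :=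
      ⟨_, mul_mem (mem_sup_right hb) (inv_mem (mem_sup_right hb₀)), heq⟩
    have hEA' : E = A := eq_of_commute h hEm left_mem_unipotents hEA
    refine ⟨eq_one_of_fix h ?_ (conjBy_of_commute fun x hx => hc x (mem_sup_right hx)), hEA'⟩
    rw [hEA'] at he
    simpa using mul_mem he (inv_mem ha)
  · exfalso
    have h1 : Cfsg.conjBy B a = B := by
      refine eq_of_commute h (conj_mem_unipotents (right_mem_unipotents h) (mem_sup_left ha))
        (right_mem_unipotents h) ?_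
      intro u hu y hy
      obtain ⟨x, hx, rfl⟩ : ∃ x ∈ B, a * x * a⁻¹ = u :=
        ⟨a⁻¹ * u * a, mem_conjBy.mp hu, by group⟩
      refine hfix x hx y hy (hcent _ ?_ y (mem_sup_right hy))
      rw [← hconj x hc (mem_sup_right hx)]
      exact mem_commutator_elem he hx
    exact ha1 (eq_one_of_fix h ha h1)

/-- A non-isolated member meets every other member trivially. -/
theorem inf_eq_bot_or_eq (hS : Cfsg.IsRootSubgroupSet S) {P : Subgroup G} (hA : A ∈ S) (hP : P ∈ S)
    (h : Cfsg.IsRankOnePair A P) (hB : B ∈ S) : A ⊓ B = ⊥ ∨ A = B := by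
  rcases Subgroup.bot_or_exists_ne_one (A ⊓ B) with e | ⟨a, ha, ha1⟩
  · exact Or.inl e
  · obtain ⟨haA, haB⟩ := mem_inf.mp ha
    exact Or.inr (shift hS hA hP h haA ha1 (c := 1) (fun x _ => by rw [one_mul, mul_one]) hB
      (by rwa [one_mul])).2.symm

theorem conjBy_commutator_le {a : G} (ha : a ∈ A) : Cfsg.conjBy ⁅A, B⁆ a ≤ ⁅A, B⁆ := by
  refine Subgroup.map_le_iff_le_comap.mpr (commutator_le.mpr fun a' ha' b hb => ?_)
  simp only [mem_comap, MulEquiv.coe_toMonoidHom, MulAut.conj_apply]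
  have : a * ⁅a', b⁆ * a⁻¹ = ⁅a * a', b⁆ * ⁅a, b⁆⁻¹ := by
    simp only [commutatorElement_def]; group
  rw [this]
  exact mul_mem (commutator_mem_commutator (mul_mem ha ha') hb)
    (inv_mem (commutator_mem_commutator ha hb))

theorem conjBy_commutator_eq {a : G} (ha : a ∈ A) : Cfsg.conjBy ⁅A, B⁆ a = ⁅A, B⁆ := by
  refine le_antisymm (conjBy_commutator_le ha) ?_
  have := conjBy_mono (conjBy_commutator_le (B := B) (inv_mem ha)) a
  rwa [conjBy_conjBy, mul_inv_cancel, conjBy_one] at this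

/-- A rank one pair cannot have commutators centralising one side. -/
theorem false_of_central (h : Cfsg.IsRankOnePair A B) (hcomm : ∀ x ∈ B, ∀ y ∈ B, x * y = y * x)
    {a : G} (ha : a ∈ A) (ha1 : a ≠ 1)
    (hz : ∀ x ∈ B, ∀ y ∈ B, (a * x * a⁻¹ * x⁻¹) * y = y * (a * x * a⁻¹ * x⁻¹)) : False := by
  refine ha1 (eq_one_of_fix h ha (eq_of_commute h
    (conj_mem_unipotents (right_mem_unipotents h) (mem_sup_left ha)) (right_mem_unipotents h) ?_))
  intro u hu y hy
  have hx := mem_conjBy.mp hu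
  have := hz _ hx y hy
  calc u * y = (a * (a⁻¹ * u * a) * a⁻¹ * (a⁻¹ * u * a)⁻¹) * ((a⁻¹ * u * a) * y) := by group
    _ = (a * (a⁻¹ * u * a) * a⁻¹ * (a⁻¹ * u * a)⁻¹) * (y * (a⁻¹ * u * a)) := by rw [hcomm _ hx y hy]
    _ = y * (a * (a⁻¹ * u * a) * a⁻¹ * (a⁻¹ * u * a)⁻¹) * (a⁻¹ * u * a) := by rw [← this]; group
    _ = _ := by group

/-- If the commutator is a member, the pair is in the commutator case. -/
theorem rootCase_of_commutator_mem (hS : Cfsg.IsRootSubgroupSet S) (hA : A ∈ S) (hB : B ∈ S)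
    (hC : ⁅A, B⁆ ∈ S) : Cfsg.RootCommutatorCase S A B := by
  rcases hS.pair A hA B hB with h | h | h
  · exact absurd h (hS.ne_bot _ hC)
  · exfalso
    obtain ⟨a, ha, ha1⟩ := exists_ne_one_left h
    set C := ⁅A, B⁆ with hCdef
    have hBC : ∀ b ∈ B, Cfsg.conjBy C b = C := fun b hb => by
      rw [hCdef, Subgroup.commutator_comm A B]; exact conjBy_commutator_eq hb
    have hnot : ∀ {P Q : Subgroup G}, (∀ q ∈ Q, Cfsg.conjBy P q = P) → Q ≠ ⊥ → ¬ Cfsg.IsRankOnePair Q P := by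
      intro P Q hfix hQ hr
      exact hQ ((eq_bot_iff_forall _).mpr fun q hq => eq_one_of_fix hr hq (hfix q hq))
    -- `C` is normalised by `A` and `B`
    have hcase : ∀ (P Q : Subgroup G), P ∈ S → Q ∈ S → Cfsg.IsRankOnePair P Q → C = ⁅P, Q⁆ →
        ⁅C, P⁆ ≠ ⊥ → (∀ q ∈ Q, Cfsg.conjBy C q = C) → False := by
      intro P Q hP hQ hPQ hCe hne hQC
      obtain ⟨p, hp, hp1⟩ := exists_ne_one_left hPQ
      rcases hS.pair C hC P hP with h0 | h0 | ⟨-, hcent, -, -⟩
      · exact hne h0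
      · exact hnot (fun q hq => by rw [hCe]; exact conjBy_commutator_eq hq) (ne_bot_left hPQ)
          (Cfsg.RankOnePair_symm h0)
      · have hQle : Q ≤ C ⊔ P := by
          obtain ⟨x, hx, rfl⟩ := exists_conj hPQ
          have hN : P ⊔ Cfsg.conjBy P x ≤ normalizer ((C ⊔ P : Subgroup G) : Set G) := by
            refine sup_le ((le_sup_right).trans le_normalizer) fun q hq => conjBy_eq_self_iff.mp ?_
            have hle : ∀ r ∈ Cfsg.conjBy P x, Cfsg.conjBy (C ⊔ P) r ≤ C ⊔ P := by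
              intro r hr
              rw [conjBy_sup, hQC r hr]
              refine sup_le le_sup_left fun u hu => ?_
              have hu' := mem_conjBy.mp hu
              have : u = (r * (r⁻¹ * u * r) * r⁻¹ * (r⁻¹ * u * r)⁻¹) * (r⁻¹ * u * r) := by group
              rw [this]
              refine mul_mem (mem_sup_left ?_) (mem_sup_right hu')
              rw [hCe, Subgroup.commutator_comm]
              exact mem_commutator_elem hr hu'
            refine le_antisymm (hle q hq) ?_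
            have := conjBy_mono (hle _ (inv_mem hq)) q
            rwa [conjBy_conjBy, mul_inv_cancel, conjBy_one] at this
          have := conjBy_eq_self_iff.mpr (hN hx)
          exact (conjBy_mono le_sup_right x).trans this.le
        refine false_of_central hPQ (fun x hx y hy => comm_of_mem hS hQ hx hy) hp hp1 ?_
        have hT : ∀ x ∈ C ⊔ P, p * x * p⁻¹ * x⁻¹ ∈ ⁅C, P⁆ := by
          intro x hx
          rw [Subgroup.sup_eq_closure] at hx
          induction hx using Subgroup.closure_induction with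
          | mem y hy =>
            rcases hy with hy | hy
            · rw [Subgroup.commutator_comm]; exact mem_commutator_elem hp hy
            · rw [comm_of_mem hS hP hp hy]; simp
          | one => simp
          | mul u v hu hv hu' hv' =>
            rw [← Subgroup.sup_eq_closure] at hu hv
            have := hcent _ hv' u hu
            rw [show p * (u * v) * p⁻¹ * (u * v)⁻¹ = (p * u * p⁻¹ * u⁻¹) * (u * (p * v * p⁻¹ * v⁻¹) * u⁻¹) by group,
              ← this, mul_inv_cancel_right]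
            exact mul_mem hu' hv'
          | inv u hu hu' =>
            rw [← Subgroup.sup_eq_closure] at hu
            have := hcent _ (inv_mem hu') u⁻¹ (inv_mem hu)
            rw [show p * u⁻¹ * p⁻¹ * u⁻¹⁻¹ = u⁻¹ * (p * u * p⁻¹ * u⁻¹)⁻¹ * u⁻¹⁻¹ by group,
              ← this, mul_inv_cancel_right]
            exact inv_mem hu'
        intro x hx y hy
        exact hcent _ (hT x (hQle hx)) y (hQle hy)
    by_cases h1 : ⁅C, A⁆ = ⊥
    · by_cases h2 : ⁅C, B⁆ = ⊥
      · exact false_of_central h (fun x hx y hy => comm_of_mem hS hB hx hy) ha ha1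
          fun x hx y hy => commute_of_commutator_eq_bot h2 (mem_commutator_elem ha hx) hy
      · exact hcase B A hB hA (Cfsg.RankOnePair_symm h) (Subgroup.commutator_comm A B) h2
          (fun q hq => conjBy_commutator_eq hq)
    · exact hcase A B hA hB h rfl h1 hBC
  · exact h

section CommutatorCase

variable (hS : Cfsg.IsRootSubgroupSet S) (hc : Cfsg.RootCommutatorCase S A B)
include hS hc

theorem commutatorMap_mem {a b : G} (ha : a ∈ A) (hb : b ∈ B) :
    a⁻¹ * b⁻¹ * a * b ∈ ⁅A, B⁆ := by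
  simpa using mem_commutator_elem (inv_mem ha) (inv_mem hb)

theorem commutatorMap_mul {a b₁ b₂ : G} (ha : a ∈ A) (hb₁ : b₁ ∈ B) (hb₂ : b₂ ∈ B) :
    a⁻¹ * (b₁ * b₂)⁻¹ * a * (b₁ * b₂) = (a⁻¹ * b₁⁻¹ * a * b₁) * (a⁻¹ * b₂⁻¹ * a * b₂) := by
  have h1 := commutatorMap_mem hS hc ha hb₁
  have h2 := hc.2.1 _ h1 b₂ (mem_sup_right hb₂)
  calc a⁻¹ * (b₁ * b₂)⁻¹ * a * (b₁ * b₂)
      = (a⁻¹ * b₂⁻¹ * a) * ((a⁻¹ * b₁⁻¹ * a * b₁) * b₂) := by group
    _ = (a⁻¹ * b₂⁻¹ * a * b₂) * (a⁻¹ * b₁⁻¹ * a * b₁) := by rw [h2]; group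
    _ = _ := comm_of_mem hS hc.1 (commutatorMap_mem hS hc ha hb₂) h1

/-- The image of a subgroup of `B` under the commutator map, as a subgroup. -/
theorem commutatorMap_surj {D : Subgroup G} (hD : D ≤ B) {a : G} (ha : a ∈ A)
    (hgen : Subgroup.closure ((fun b : G => a⁻¹ * b * a⁻¹⁻¹ * b⁻¹) '' (D : Set G)) = ⁅A, B⁆)
    {x : G} (hx : x ∈ ⁅A, B⁆) : ∃ b ∈ D, a⁻¹ * b⁻¹ * a * b = x := by
  let R : Subgroup G :=
    { carrier := {x | ∃ b ∈ D, a⁻¹ * b⁻¹ * a * b = x}
      one_mem' := ⟨1, D.one_mem, by group⟩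
      mul_mem' := by
        rintro _ _ ⟨b₁, hb₁, rfl⟩ ⟨b₂, hb₂, rfl⟩
        exact ⟨b₁ * b₂, D.mul_mem hb₁ hb₂, commutatorMap_mul hS hc ha (hD hb₁) (hD hb₂)⟩
      inv_mem' := by
        rintro _ ⟨b, hb, rfl⟩
        refine ⟨b⁻¹, D.inv_mem hb, eq_inv_of_mul_eq_one_left ?_⟩
        rw [← commutatorMap_mul hS hc ha (hD (D.inv_mem hb)) (hD hb)]
        group }
  have : Subgroup.closure ((fun b : G => a⁻¹ * b * a⁻¹⁻¹ * b⁻¹) '' (D : Set G)) ≤ R := by
    rw [closure_le]
    rintro _ ⟨b, hb, rfl⟩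
    exact ⟨b⁻¹, D.inv_mem hb, by simp [mul_assoc]⟩
  exact this (hgen ▸ hx)

theorem commutatorMap_injective {P : Subgroup G} (hA : A ∈ S) (hP : P ∈ S)
    (hAP : Cfsg.IsRankOnePair A P) {a b : G} (ha : a ∈ A) (ha1 : a ≠ 1) (hb : b ∈ B)
    (h : a⁻¹ * b⁻¹ * a * b = 1) : b = 1 := by
  by_contra hb1
  have hab : a * b = b * a := by
    rw [mul_assoc, mul_assoc, inv_mul_eq_one, eq_inv_mul_iff_mul_eq] at h
    exact h.symm
  have haA : a ∈ A ⊓ Cfsg.conjBy A b := by
    refine mem_inf.mpr ⟨ha, mem_conjBy.mpr ?_⟩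
    rw [mul_assoc, hab, inv_mul_cancel_left]
    exact ha
  rcases inf_eq_bot_or_eq hS hA hP hAP (hS.conj_mem A hA b) with e | e
  · exact ha1 (mem_bot.mp (e ▸ haA))
  · have hle : ⁅A, B⁆ ≤ A := by
      rw [← hc.2.2.2 b hb hb1, closure_le]
      rintro _ ⟨x, hx, rfl⟩
      have : x * b * x⁻¹ * b⁻¹ = x * (b * x⁻¹ * b⁻¹) := by group
      simp only [SetLike.mem_coe]
      rw [this]
      exact mul_mem hx (e.ge (conj_mem_conjBy (inv_mem hx)))
    have hne := hS.ne_bot _ hc.1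
    rcases inf_eq_bot_or_eq hS hA hP hAP hc.1 with e' | e'
    · exact hne (by rwa [inf_eq_right.mpr hle] at e')
    · apply hne
      rw [← hc.2.2.2 b hb hb1, closure_eq_bot_iff]
      rintro _ ⟨x, hx, rfl⟩
      simp only [Set.mem_singleton_iff]
      rw [hc.2.1 x (e' ▸ hx) b (mem_sup_right hb)]
      group

end CommutatorCase

theorem commutator_partition (hS : Cfsg.IsRootSubgroupSet S)
    (hA' : ¬ Cfsg.IsIsolatedIn (Cfsg.FAdj S) S A) (hA : A ∈ S) (hB : B ∈ S) (hC : ⁅A, B⁆ ∈ S) :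
    Cfsg.membersIn S (A ⊔ ⁅A, B⁆) = (fun b : G => Cfsg.conjBy A b) '' (B : Set G) ∪ {⁅A, B⁆} ∧
    Cfsg.IsSubgroupPartition (A ⊔ ⁅A, B⁆) (Cfsg.membersIn S (A ⊔ ⁅A, B⁆)) ∧
    A ∈ Cfsg.linePartners S ⁅A, B⁆ ∧
    ∀ a ∈ A, a ≠ 1 → ∃ φ : ↥B ≃* ↥⁅A, B⁆, ∀ b : ↥B, (φ b : G) = a⁻¹ * (b : G)⁻¹ * a * b := by
  obtain ⟨P, hP, hAP⟩ := exists_partner hA hA'
  have hc := rootCase_of_commutator_mem hS hA hB hC
  set C := ⁅A, B⁆ with hCdef
  have hcA : ∀ c ∈ C, ∀ x ∈ A, c * x = x * c := fun c hc' x hx => hc.2.1 c hc' x (mem_sup_left hx)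
  have hsurj : ∀ a ∈ A, a ≠ 1 → ∀ x ∈ C, ∃ b ∈ B, a⁻¹ * b⁻¹ * a * b = x := fun a ha ha1 x hx =>
    commutatorMap_surj hS hc (le_refl B) ha (hc.2.2.1 a⁻¹ (inv_mem ha) (inv_ne_one.mpr ha1)) hx
  have hAC : A ≠ C := by
    intro e
    apply hS.ne_bot _ hC
    rw [hCdef, commutator_eq_bot_iff_le_centralizer]
    intro x hx
    rw [mem_centralizer_iff]
    intro y hy
    exact (hc.2.1 x (e.le hx) y (mem_sup_right hy)).symm
  have hACbot : A ⊓ C = ⊥ := (inf_eq_bot_or_eq hS hA hP hAP hC).resolve_right hAC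
  have hconjle : ∀ b ∈ B, Cfsg.conjBy A b ≤ A ⊔ C := by
    intro b hb x hx
    have hx' := mem_conjBy.mp hx
    have : x = (b * (b⁻¹ * x * b) * b⁻¹ * (b⁻¹ * x * b)⁻¹) * (b⁻¹ * x * b) := by group
    rw [this]
    refine mul_mem (mem_sup_right ?_) (mem_sup_left hx')
    rw [hCdef, Subgroup.commutator_comm]
    exact mem_commutator_elem hb hx'
  have hshift : ∀ a ∈ A, a ≠ 1 → ∀ c ∈ C, ∃ b ∈ B, c * a ∈ Cfsg.conjBy A b := by
    intro a ha ha1 c hc'
    obtain ⟨b, hb, e⟩ := hsurj a ha ha1 c hc'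
    refine ⟨b⁻¹, inv_mem hb, mem_conjBy.mpr ?_⟩
    rw [hcA c hc' a ha, ← e]
    simpa [mul_assoc] using ha
  have hdec : ∀ x ∈ A ⊔ C, ∃ a ∈ A, ∃ c ∈ C, x = c * a := by
    intro x hx
    let T : Subgroup G :=
      { carrier := {x | ∃ a ∈ A, ∃ c ∈ C, x = c * a}
        one_mem' := ⟨1, one_mem _, 1, one_mem _, by group⟩
        mul_mem' := by
          rintro _ _ ⟨a, ha, c, hc', rfl⟩ ⟨a', ha', c', hc'', rfl⟩
          refine ⟨a * a', mul_mem ha ha', c * c', mul_mem hc' hc'', ?_⟩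
          calc c * a * (c' * a') = c * (a * c') * a' := by group
            _ = c * c' * (a * a') := by rw [← hcA c' hc'' a ha]; group
        inv_mem' := by
          rintro _ ⟨a, ha, c, hc', rfl⟩
          refine ⟨a⁻¹, inv_mem ha, c⁻¹, inv_mem hc', ?_⟩
          rw [mul_inv_rev, hcA c⁻¹ (inv_mem hc') a⁻¹ (inv_mem ha)] }
    exact (sup_le (a := A) (b := C) (c := T) (fun a ha => ⟨a, ha, 1, one_mem _, (one_mul a).symm⟩)
      (fun c hc' => ⟨1, one_mem _, c, hc', (mul_one c).symm⟩)) hx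
  -- no proper part of `C` is a member
  have hsmall : ∀ D ∈ S, D ≤ C → D = C := by
    intro D hD hDC
    obtain ⟨d, hd, hd1⟩ := (bot_or_exists_ne_one D).resolve_left (hS.ne_bot D hD)
    obtain ⟨a, ha, ha1⟩ := exists_ne_one_left hAP
    have hnc : ¬ ∀ y ∈ P, d * y = y * d := by
      intro hPd
      obtain ⟨b, -, hb⟩ := hshift a ha ha1 d (hDC hd)
      refine hd1 (shift hS hA hP hAP ha ha1 ?_ (hS.conj_mem A hA b) hb).1
      intro x hx
      have hle : A ⊔ P ≤ centralizer ({d} : Set G) := by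
        refine sup_le ?_ ?_ <;> intro y hy <;> rw [mem_centralizer_singleton_iff]
        · exact (hcA d (hDC hd) y hy).symm
        · exact (hPd y hy).symm
      exact (mem_centralizer_singleton_iff.mp (hle hx)).symm
    rcases hS.pair P hP C hC with h0 | h0 | h0
    · exact absurd (fun y hy => (commute_of_commutator_eq_bot h0 hy (hDC hd)).symm) hnc
    · rcases inf_eq_bot_or_eq hS hC hP (Cfsg.RankOnePair_symm h0) hD with e | e
      · rw [inf_eq_right.mpr hDC] at e
        exact absurd e (hS.ne_bot D hD)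
      · exact e.symm
    · rcases hS.pair P hP D hD with h1 | h1 | h1
      · exact absurd (fun y hy => (commute_of_commutator_eq_bot h1 hy hd).symm) hnc
      · exfalso
        obtain ⟨p, hp, -, he⟩ := h1.cond_right d hd hd1
        apply hd1
        refine eq_one_of_fix (Cfsg.RankOnePair_symm h1) hd ?_
        apply conjBy_of_commute
        intro y hy
        have hmem : d⁻¹ * y * d ∈ Cfsg.conjBy D p⁻¹ := by
          rw [he]
          simpa using conj_mem_conjBy (g := d⁻¹) hy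
        have hu := mem_conjBy.mp hmem
        set u := (p⁻¹)⁻¹ * (d⁻¹ * y * d) * p⁻¹ with hudef
        have hk : p⁻¹ * u * p * u⁻¹ ∈ ⁅P, C⁆ := by
          simpa using mem_commutator_elem (inv_mem hp) (hDC hu)
        have hcd : (d⁻¹ * y * d) * d = d * (d⁻¹ * y * d) := by
          have e1 : d⁻¹ * y * d = (p⁻¹ * u * p * u⁻¹) * u := by rw [hudef]; group
          rw [e1, mul_assoc, comm_of_mem hS hC (hDC hu) (hDC hd), ← mul_assoc,
            h0.2.1 _ hk d (mem_sup_right (hDC hd)), mul_assoc]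
        calc d * y = d * (d * (d⁻¹ * y * d)) * d⁻¹ := by group
          _ = _ := by rw [← hcd]; group
      · refine le_antisymm hDC fun c hc' => ?_
        obtain ⟨p, hp, hp1⟩ := exists_ne_one_left (Cfsg.RankOnePair_symm hAP)
        have hE : ⁅P, D⁆ = ⁅P, C⁆ := (h1.2.2.2 d hd hd1).symm.trans (h0.2.2.2 d (hDC hd) hd1)
        obtain ⟨d', hd', e⟩ := commutatorMap_surj hS h0 hDC hp
          ((h1.2.2.1 p⁻¹ (inv_mem hp) (inv_ne_one.mpr hp1)).trans hE) (commutatorMap_mem hS h0 hp hc')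
        have := commutatorMap_injective hS h0 hP hA (Cfsg.RankOnePair_symm hAP) hp hp1
          (mul_mem hc' (inv_mem (hDC hd'))) ?_
        · rw [mul_inv_eq_one] at this
          exact this ▸ hd'
        · rw [commutatorMap_mul hS h0 hp hc' (inv_mem (hDC hd')), ← e,
            ← commutatorMap_mul hS h0 hp (hDC hd') (inv_mem (hDC hd'))]
          group
  have hmem : Cfsg.membersIn S (A ⊔ C) = (fun b : G => Cfsg.conjBy A b) '' (B : Set G) ∪ {C} := by
    ext D
    constructor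
    · rintro ⟨hD, hDle⟩
      by_cases hDC : D ≤ C
      · exact Or.inr (hsmall D hD hDC)
      obtain ⟨x, hx, hxC⟩ := SetLike.not_le_iff_exists.mp hDC
      obtain ⟨a, ha, c, hc', rfl⟩ := hdec x (hDle hx)
      have ha1 : a ≠ 1 := fun e => hxC (by rw [e, mul_one]; exact hc')
      obtain ⟨b, hb, hbx⟩ := hshift a ha ha1 c hc'
      obtain ⟨Q, hQ, hbQ⟩ := partner_conj hS hP hAP b
      refine Or.inl ⟨b, hb, ?_⟩
      rcases inf_eq_bot_or_eq hS (hS.conj_mem A hA b) hQ hbQ hD with e | e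
      · have : c * a ∈ Cfsg.conjBy A b ⊓ D := mem_inf.mpr ⟨hbx, hx⟩
        rw [e, mem_bot] at this
        exact absurd (this ▸ one_mem C) hxC
      · exact e
    · rintro (⟨b, hb, rfl⟩ | rfl)
      · exact ⟨hS.conj_mem A hA b, hconjle b hb⟩
      · exact ⟨hC, le_sup_right⟩
  have hpart : Cfsg.IsSubgroupPartition (A ⊔ C) (Cfsg.membersIn S (A ⊔ C)) := by
    refine ⟨fun D hD => hD.2, fun x hx hx1 => ?_, fun D hD E hE hne => ?_⟩
    · obtain ⟨a, ha, c, hc', rfl⟩ := hdec x hx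
      by_cases ha1 : a = 1
      · exact ⟨C, ⟨hC, le_sup_right⟩, by rw [ha1, mul_one]; exact hc'⟩
      · obtain ⟨b, hb, hbx⟩ := hshift a ha ha1 c hc'
        exact ⟨_, ⟨hS.conj_mem A hA b, hconjle b hb⟩, hbx⟩
    · rw [hmem] at hD hE
      rcases hD with ⟨b, hb, rfl⟩ | rfl
      · obtain ⟨Q, hQ, hbQ⟩ := partner_conj hS hP hAP b
        rcases hE with ⟨b', -, rfl⟩ | rfl
        · exact (inf_eq_bot_or_eq hS (hS.conj_mem A hA b) hQ hbQ (hS.conj_mem A hA b')).resolve_right hne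
        · exact (inf_eq_bot_or_eq hS (hS.conj_mem A hA b) hQ hbQ hC).resolve_right hne
      · rcases hE with ⟨b', -, rfl⟩ | rfl
        · obtain ⟨Q, hQ, hbQ⟩ := partner_conj hS hP hAP b'
          rw [inf_comm]
          exact (inf_eq_bot_or_eq hS (hS.conj_mem A hA b') hQ hbQ hC).resolve_right hne.symm
        · exact absurd rfl hne
  refine ⟨hmem, hpart, ⟨⟨hA, hAC, ?_⟩, by rwa [sup_comm]⟩, ?_⟩
  · rw [commutator_eq_bot_iff_le_centralizer]
    intro c hc'
    rw [mem_centralizer_iff]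
    intro x hx
    exact (hcA c hc' x hx).symm
  · intro a ha ha1
    let f : B →* C :=
      { toFun := fun b => ⟨a⁻¹ * (b : G)⁻¹ * a * b, commutatorMap_mem hS hc ha b.2⟩
        map_one' := Subtype.ext (by simp)
        map_mul' := fun b₁ b₂ => Subtype.ext (commutatorMap_mul hS hc ha b₁.2 b₂.2) }
    have hf : Function.Bijective f := by
      constructor
      · rw [injective_iff_map_eq_one]
        intro b hb
        exact Subtype.ext (commutatorMap_injective hS hc hA hP hAP ha ha1 b.2 (congrArg Subtype.val hb))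
      · rintro ⟨x, hx⟩
        obtain ⟨b, hb, e⟩ := hsurj a ha ha1 x hx
        exact ⟨⟨b, hb⟩, Subtype.ext e⟩
    exact ⟨MulEquiv.ofBijective f hf, fun b => rfl⟩

theorem mem_unipotents_of_le (hS : Cfsg.IsRootSubgroupSet S) (hA : A ∈ S) (hB : B ∈ S)
    (h : Cfsg.IsRankOnePair A B) {C D : Subgroup G} (hC : C ∈ S) (hD : D ∈ S)
    (hCD : Cfsg.IsRankOnePair C D) (hle : A ≤ C ⊔ D) (hBle : B ≤ C ⊔ D) :
    A ∈ Cfsg.unipotentSubgroups C D := by
  by_cases hfix : ∀ E ∈ Cfsg.unipotentSubgroups C D, ∀ a ∈ A, Cfsg.conjBy E a = E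
  · exfalso
    have key : ∀ P Q : Subgroup G, Cfsg.IsRankOnePair P Q → P ∈ S → Q ∈ S →
        (∀ a ∈ A, Cfsg.conjBy P a = P) → (∀ a ∈ A, Cfsg.conjBy Q a = Q) → ⁅A, P⁆ = ⊥ := by
      intro P Q hPQ hP hQ hfP hfQ
      rcases hS.pair A hA P hP with h0 | h0 | h0
      · exact h0
      · exact absurd ((eq_bot_iff_forall A).mpr fun a ha => eq_one_of_fix h0 ha (hfP a ha)) (ne_bot_left h)
      · exfalso
        have hle' : ⁅A, P⁆ ≤ P := commutator_le.mpr fun a ha x hx => by
          rw [commutatorElement_def]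
          exact mul_mem ((hfP a ha).le (conj_mem_conjBy hx)) (inv_mem hx)
        rcases inf_eq_bot_or_eq hS hP hQ hPQ h0.1 with e | e
        · exact hS.ne_bot _ h0.1 (by rwa [inf_eq_right.mpr hle'] at e)
        · refine hS.ne_bot _ h0.1 (commutator_eq_bot_iff_le_centralizer.mpr fun a ha => ?_)
          rw [mem_centralizer_iff]
          intro x hx
          exact h0.2.1 x (e ▸ hx) a (mem_sup_left ha)
    have h1 := key C D hCD hC hD (hfix C left_mem_unipotents) (hfix D (right_mem_unipotents hCD))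
    have h2 := key D C (Cfsg.RankOnePair_symm hCD) hD hC (hfix D (right_mem_unipotents hCD))
      (hfix C left_mem_unipotents)
    refine not_commute h fun a ha b hb => ?_
    have hle' : C ⊔ D ≤ centralizer ({a} : Set G) := by
      refine sup_le ?_ ?_ <;> intro y hy <;> rw [mem_centralizer_singleton_iff]
      · exact (commute_of_commutator_eq_bot h1 ha hy).symm
      · exact (commute_of_commutator_eq_bot h2 ha hy).symm
    exact (mem_centralizer_singleton_iff.mp (hle' (hBle hb))).symm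
  · push Not at hfix
    obtain ⟨E, hE, a, ha, hne⟩ := hfix
    have hES : E ∈ S := by obtain ⟨x, -, rfl⟩ := hE; exact hS.conj_mem C hC x
    rcases hS.pair A hA E hES with h0 | h0 | h0
    · exact absurd (conjBy_of_commute fun x hx => commute_of_commutator_eq_bot h0 ha hx) hne
    · obtain ⟨a₀, ha₀, ha₀1⟩ := exists_ne_one_left h0
      obtain ⟨e, he, -, heq⟩ := h0.cond_left a₀ ha₀ ha₀1
      rw [conjBy_eq_iff, inv_inv, conjBy_conjBy] at heq
      rw [heq]
      exact conj_mem_unipotents hE (mul_mem (le_of_mem_unipotents hE he) (inv_mem (hle ha₀)))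
    · exfalso
      apply hne
      obtain ⟨F, hF, hFE⟩ : ∃ F ∈ Cfsg.unipotentSubgroups C D, F = Cfsg.conjBy E a :=
        ⟨_, conj_mem_unipotents hE (hle ha), rfl⟩
      rw [← hFE]
      refine eq_of_commute hCD hF hE fun x hx y hy => ?_
      subst hFE
      have hx' := mem_conjBy.mp hx
      have hk := h0.2.1 _ (mem_commutator_elem ha hx') y (mem_sup_right hy)
      calc x * y = (a * (a⁻¹ * x * a) * a⁻¹ * (a⁻¹ * x * a)⁻¹) * ((a⁻¹ * x * a) * y) := by group
        _ = (a * (a⁻¹ * x * a) * a⁻¹ * (a⁻¹ * x * a)⁻¹) * (y * (a⁻¹ * x * a)) := by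
          rw [comm_of_mem hS hES hx' hy]
        _ = y * (a * (a⁻¹ * x * a) * a⁻¹ * (a⁻¹ * x * a)⁻¹) * (a⁻¹ * x * a) := by rw [← hk]; group
        _ = _ := by group

theorem upperCentralSeries_two_of_no_isolated (hS : Cfsg.IsRootSubgroupSet S)
    (hF : ∀ A ∈ S, ¬ Cfsg.IsIsolatedIn (Cfsg.FAdj S) S A) :
    Subgroup.upperCentralSeries G 2 = center G := by
  have hmono : center G ≤ Subgroup.upperCentralSeries G 2 := by
    rw [← Subgroup.upperCentralSeries_one]; exact Subgroup.upperCentralSeries_mono G one_le_two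
  refine le_antisymm (fun z hz => ?_) hmono
  have hle : (⨆ A ∈ S, A) ≤ centralizer ({z} : Set G) := by
    refine iSup₂_le fun A hA a ha => ?_
    rw [mem_centralizer_singleton_iff]
    by_cases ha1 : a = 1
    · simp [ha1]
    obtain ⟨P, hP, hAP⟩ := exists_partner hA (hF A hA)
    have hc : z * a * z⁻¹ * a⁻¹ ∈ center G := by
      rw [← Subgroup.upperCentralSeries_one]
      simpa [commutatorElement_def] using Subgroup.mem_upperCentralSeries_succ_iff.mp hz a
    have := (shift hS hA hP hAP ha ha1 (fun x _ => ((mem_center_iff.mp hc) x).symm)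
      (hS.conj_mem A hA z) (by simpa [mul_assoc] using conj_mem_conjBy (g := z) ha)).1
    rw [mul_inv_eq_one, mul_inv_eq_iff_eq_mul] at this
    exact this.symm
  rw [mem_center_iff]
  intro x
  exact mem_centralizer_singleton_iff.mp (hle (hS.generates ▸ mem_top x))

end Cfsg.Agent.Lib.RootSub
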