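import Cfsg.Agent.Lib.RootSub.SLTransvections

/-!
The transvections of `SL_N(F)`, `char F = 2`, as root involutions.
-/

namespace Cfsg.Agent.Lib.RootSub

open Matrix Cfsg.Agent.Lib.QuadPair

variable {F : Type*} [Field F] [CharP F 2]

theorem sl2_involution_commute {u v : F} (hu : u ≠ 0) (hv : v ≠ 0) {w : SpecialLinearGroup (Fin 2) F}
    (hw : w * w = 1) (hc : w * (xU u * yL v) = (xU u * yL v) * w) : w = 1 := by
  have h2 : (2 : F) = 0 := by exact_mod_cast CharP.cast_eq_zero F 2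
  have hd : w.1 0 0 * w.1 1 1 - w.1 0 1 * w.1 1 0 = 1 := by rw [← det_fin_two]; exact w.2
  have e00 := congrArg (fun g : SpecialLinearGroup (Fin 2) F => g.1 0 0) hw
  have e11 := congrArg (fun g : SpecialLinearGroup (Fin 2) F => g.1 1 1) hw
  have c00 := congrArg (fun g : SpecialLinearGroup (Fin 2) F => g.1 0 0) hc
  have c01 := congrArg (fun g : SpecialLinearGroup (Fin 2) F => g.1 0 1) hc
  simp [coe_xU, coe_yL, Matrix.mul_apply, Fin.sum_univ_two] at e00 e11 c00 c01
  have htr : w.1 0 0 = w.1 1 1 := by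
    have : (w.1 0 0 + w.1 1 1) ^ 2 = 0 := by linear_combination e00 + e11 + 2 * hd + (2 : F) * h2
    have := sq_eq_zero_iff.mp this
    linear_combination this - w.1 1 1 * h2
  have hq : w.1 0 1 = 0 := by
    have : u * v * w.1 0 1 = 0 := by
      rw [htr] at c01
      linear_combination -c01
    exact (mul_eq_zero.mp this).resolve_left (mul_ne_zero hu hv)
  have hr : w.1 1 0 = 0 := by
    have : u * w.1 1 0 = 0 := by rw [hq] at c00; linear_combination -c00
    exact (mul_eq_zero.mp this).resolve_left hu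
  have hp : w.1 0 0 = 1 := by
    have : (w.1 0 0 - 1) ^ 2 = 0 := by
      rw [hq, hr] at e00
      linear_combination e00 + (1 - w.1 0 0) * h2
    exact sub_eq_zero.mp (sq_eq_zero_iff.mp this)
  ext i j
  fin_cases i <;> fin_cases j <;> simp [hp, ← htr, hq, hr]

theorem sl2_odd [Fintype F] {u v : F} (hu : u ≠ 0) (hv : v ≠ 0) : Odd (orderOf (xU u * yL v)) := by
  rw [← Nat.not_even_iff_odd]
  rintro ⟨j, hj⟩
  have hpos := orderOf_pos (xU u * yL v)
  have h1 : (xU u * yL v) ^ j = 1 := sl2_involution_commute hu hv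
    (by rw [← pow_add, ← hj, pow_orderOf_eq_one]) (by rw [← pow_succ, ← pow_succ'])
  exact pow_ne_one_of_lt_orderOf (by omega) (by omega) h1

variable {n : ℕ}

local notation "SLn" => SpecialLinearGroup (Fin (n + 3)) F
local notation "ιn" => slLin (n + 3) F

/-- The non-identity members of the transvection groups. -/
def trInv (n : ℕ) (F : Type*) [Field F] : Set (SpecialLinearGroup (Fin (n + 3)) F) :=
  {t | t ≠ 1 ∧ ∃ A ∈ tset (slLin (n + 3) F) (isoPairs (n + 3) F), t ∈ A}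

omit [CharP F 2] in
theorem trInv_eq :
    {t : SpecialLinearGroup (Fin (n + 3)) F | ∃ c : F, c ≠ 0 ∧
        ∃ g : SpecialLinearGroup (Fin (n + 3)) F, ((g⁻¹ * t * g : SpecialLinearGroup (Fin (n + 3)) F) :
          Matrix (Fin (n + 3)) (Fin (n + 3)) F) = Matrix.transvection 0 1 c} = trInv n F := by
  ext t
  rw [trInv, ← slConjSet_eq, Set.mem_ofPred_eq, Set.mem_ofPred_eq]
  constructor
  · rintro ⟨c, hc, g, hg⟩
    refine ⟨fun e => hc ?_, _, ⟨g, rfl⟩, ?_⟩
    · rw [e, mul_one, inv_mul_cancel] at hg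
      have := congrFun (congrFun hg 0) 1
      simpa [Matrix.transvection] using this.symm
    · rw [Cfsg.conjBy, Subgroup.mem_map]
      refine ⟨g⁻¹ * t * g, Subgroup.subset_closure ⟨c, hg⟩, ?_⟩
      simp [mul_assoc]
  · rintro ⟨ht, _, ⟨g, rfl⟩, hm⟩
    rw [Cfsg.conjBy, Subgroup.mem_map, closure_T01] at hm
    obtain ⟨s, hs, rfl⟩ := hm
    obtain ⟨c, hc⟩ := mem_comap_pair01.mp hs
    refine ⟨c, fun e => ht ?_, g, ?_⟩
    · have : s = 1 := Subtype.ext (by rw [hc, e, Matrix.transvection_zero]; rfl)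
      simp [this]
    · simpa [mul_assoc] using hc

omit [CharP F 2] in
theorem exists_coord {t : SLn} (ht : t ∈ trInv n F) :
    ∃ x ∈ isoPairs (n + 3) F, ∃ c : F, c ≠ 0 ∧ ιn t = uni (c • tv x) := by
  obtain ⟨h1, _, ⟨x, hx, rfl⟩, hm⟩ := ht
  obtain ⟨c, hc⟩ := (mem_tgrp hx.1).mp (Subgroup.mem_comap.mp hm)
  refine ⟨x, hx, c, fun e => h1 ?_, hc⟩
  rw [e, zero_smul, uni_zero, ← map_one ιn] at hc
  exact slLin_injective hc

theorem trInv_sq {t : SLn} (ht : t ∈ trInv n F) : t * t = 1 := by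
  obtain ⟨x, hx, c, -, hc⟩ := exists_coord ht
  refine slLin_injective ?_
  have hz : (c • tv x) * (c • tv x) = 0 := smul_sq (tv_sq hx.1) c
  rw [map_mul, map_one, hc, uni_mul hz hz hz hz]
  have h2 : c + c = 0 := by
    have h2 : (2 : F) = 0 := by exact_mod_cast CharP.cast_eq_zero F 2
    linear_combination c * h2
  rw [← add_smul, h2, zero_smul, uni_zero]

omit [CharP F 2] in
theorem mem_trInv_of_uni {t : SLn} {z : (((Fin (n + 3)) → F) →ₗ[F] F) × (Fin (n + 3) → F)}
    (hz : z ∈ isoPairs (n + 3) F) (h : ιn t ∈ tgrp z) (h1 : t ≠ 1) : t ∈ trInv n F :=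
  ⟨h1, _, ⟨z, hz, rfl⟩, h⟩

/-- The three kinds of pairs of transvections. -/
theorem trInv_pair [Fintype F] {a b : SLn} (ha : a ∈ trInv n F) (hb : b ∈ trInv n F) :
    a * b = b * a ∨ (orderOf (a * b) = 4 ∧ (a * b) ^ 2 ∈ trInv n F) ∨
      ∃ u v : F, u ≠ 0 ∧ v ≠ 0 ∧ orderOf (a * b) ∣ orderOf (xU u * yL v) := by
  have key : ∀ {a b : SLn} {x y : (((Fin (n + 3)) → F) →ₗ[F] F) × (Fin (n + 3) → F)} {c d : F},
      a ∈ trInv n F → b ∈ trInv n F → x ∈ isoPairs (n + 3) F → y ∈ isoPairs (n + 3) F → c ≠ 0 → d ≠ 0 →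
      ιn a = uni (c • tv x) → ιn b = uni (d • tv y) → x.1 y.2 ≠ 0 → y.1 x.2 = 0 →
      orderOf (a * b) = 4 ∧ (a * b) ^ 2 ∈ trInv n F := by
    intro a b x y c d ha hb hx hy hc hd hca hcb h1 h2
    have hz : (y.1, x.2) ∈ isoPairs (n + 3) F := ⟨h2, hy.2.1, hx.2.2⟩
    have hsq : (a * b) ^ 2 = a * b * a⁻¹ * b⁻¹ := by
      rw [inv_eq_of_mul_eq_one_right (trInv_sq ha), inv_eq_of_mul_eq_one_right (trInv_sq hb), pow_two]
      group
    have e2 : (d • tv y) * (c • tv x) = 0 := by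
      rw [smul_mul_smul_comm, tv_mul, h2, zero_smul, smul_zero]
    have e1 : (c • tv x) * (d • tv y) = (c * d * x.1 y.2) • tv (y.1, x.2) := by
      rw [smul_mul_smul_comm, tv_mul, smul_smul]
    have hcm := (commutator_uni (smul_sq (tv_sq hx.1) c) (smul_sq (tv_sq hy.1) d)
      (by rw [mul_assoc, e2, mul_zero]) (by rw [e2, zero_mul])).2
    rw [e1, e2, sub_zero, commutatorElement_def] at hcm
    have himg : ιn ((a * b) ^ 2) = uni ((c * d * x.1 y.2) • tv (y.1, x.2)) := by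
      rw [hsq, map_mul, map_mul, map_mul, map_inv, map_inv, hca, hcb, hcm]
    have hne : (a * b) ^ 2 ≠ 1 := by
      intro e
      rw [e, map_one, ← uni_zero] at himg
      have := uni_inj (by simp) (smul_sq (tv_sq hz.1) _) himg
      exact smul_ne_zero (mul_ne_zero (mul_ne_zero hc hd) h1) (tv_ne_zero hz.2.1 hz.2.2) this.symm
    have hmem : (a * b) ^ 2 ∈ trInv n F := mem_trInv_of_uni hz (by rw [himg]; exact uni_mem_tgrp _ _) hne
    have : Fact (Nat.Prime 2) := ⟨Nat.prime_two⟩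
    refine ⟨orderOf_eq_prime_pow (p := 2) (n := 1) (by simpa using hne) ?_, hmem⟩
    rw [show 2 ^ (1 + 1) = 2 + 2 from rfl, pow_add]
    exact trInv_sq hmem
  obtain ⟨x, hx, c, hc, hca⟩ := exists_coord ha
  obtain ⟨y, hy, d, hd, hcb⟩ := exists_coord hb
  by_cases h1 : x.1 y.2 = 0 <;> by_cases h2 : y.1 x.2 = 0
  · refine Or.inl (slLin_injective ?_)
    rw [map_mul, map_mul, hca, hcb]
    exact commute_of_orth hx.1 hy.1 h1 h2 (uni_mem_tgrp _ _) (uni_mem_tgrp _ _)
  · obtain ⟨ho, hm⟩ := key hb ha hy hx hd hc hcb hca h2 h1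
    have e : a * b = (b * a)⁻¹ := by
      rw [_root_.mul_inv_rev, inv_eq_of_mul_eq_one_right (trInv_sq ha), inv_eq_of_mul_eq_one_right (trInv_sq hb)]
    refine Or.inr (Or.inl ⟨by rw [e, orderOf_inv, ho], ?_⟩)
    rw [e, inv_pow, inv_eq_of_mul_eq_one_right (trInv_sq hm)]
    exact hm
  · exact Or.inr (Or.inl (key ha hb hx hy hc hd hca hcb h1 h2))
  · refine Or.inr (Or.inr ⟨c * x.1 y.2, d * y.1 x.2, mul_ne_zero hc h1, mul_ne_zero hd h2, ?_⟩)
    rw [← orderOf_injective ιn slLin_injective (a * b)]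
    have e : ιn (a * b) = pairHom hx.1 hy.1 h1 h2 (xU (c * x.1 y.2) * yL (d * y.1 x.2)) := by
      rw [map_mul, map_mul, pairHom_xU, pairHom_yL, hca, hcb, mul_assoc, mul_inv_cancel₀ h1, mul_one, mul_assoc,
        mul_inv_cancel₀ h2, mul_one]
    rw [e]
    exact orderOf_map_dvd _ _

theorem trInv_set [Fintype F] : Cfsg.IsRootInvolutionSet (trInv n F) := by
  refine ⟨fun d hd => orderOf_eq_prime (by rw [pow_two]; exact trInv_sq hd) hd.1, ?_, ?_, ?_⟩
  · rw [eq_top_iff, ← (slSetting (k := F) n).generates]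
    refine iSup₂_le fun x hx t ht => ?_
    rcases eq_or_ne t 1 with rfl | h
    · exact one_mem _
    · exact Subgroup.subset_closure (mem_trInv_of_uni hx ht h)
  · rw [← trInv_eq]
    rintro d ⟨c, hc, g, hg⟩ g'
    refine ⟨c, hc, g' * g, ?_⟩
    rw [show (g' * g)⁻¹ * (g' * d * g'⁻¹) * (g' * g) = g⁻¹ * d * g by group]
    exact hg
  · intro a ha b hb
    rcases trInv_pair ha hb with h | h | ⟨u, v, hu, hv, h⟩
    · exact Or.inl h
    · exact Or.inr (Or.inr h)
    · exact Or.inr (Or.inl (Odd.of_dvd_nat (sl2_odd hu hv) h))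

theorem trInv_class [Fintype F] : Cfsg.IsRootInvolutionClass (trInv n F) := by
  have h01 : (0 : Fin (n + 3)) ≠ 1 := by simp
  refine ⟨trInv_set, ?_, ?_⟩
  · refine ⟨SpecialLinearGroup.transvection h01 1, ?_⟩
    rw [← trInv_eq]
    exact ⟨1, one_ne_zero, 1, by simp; rfl⟩
  · rw [← trInv_eq]
    rintro a ⟨c, hc, g, hg⟩ b ⟨d, hd, g', hg'⟩
    obtain ⟨s, hs⟩ := FiniteField.isSquare_of_char_two (ringChar.eq F 2) (d / c)
    have hs0 : s ≠ 0 := fun e => by rw [e, mul_zero] at hs; exact div_ne_zero hd hc hs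
    set h := SpecialLinearGroup.diag2n h01 s hs0
    have ha : g⁻¹ * a * g = SpecialLinearGroup.transvection h01 c := Subtype.ext (by rw [hg]; rfl)
    have hb : g'⁻¹ * b * g' = SpecialLinearGroup.transvection h01 d := Subtype.ext (by rw [hg']; rfl)
    have hconj : h * SpecialLinearGroup.transvection h01 c = SpecialLinearGroup.transvection h01 d * h := by
      refine Cfsg.Agent.Lib.Classical.SL_ext_smul fun v => funext fun l => ?_
      simp only [h, mul_smul, Cfsg.Agent.Lib.Classical.diag2n_smul_apply,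
        Cfsg.Agent.Lib.Classical.transvection_smul_apply]
      rcases eq_or_ne l 0 with rfl | hl
      · simp [h01.symm]
        field_simp at hs ⊢
        linear_combination -(v 1) * hs
      · simp [hl, h01.symm]
    refine ⟨g' * h * g⁻¹, ?_⟩
    calc b = g' * (SpecialLinearGroup.transvection h01 d) * g'⁻¹ := by rw [← hb]; group
      _ = g' * (h * SpecialLinearGroup.transvection h01 c * h⁻¹) * g'⁻¹ := by rw [hconj, mul_inv_cancel_right]
      _ = g' * h * g⁻¹ * a * (g' * h * g⁻¹)⁻¹ := by rw [← ha]; group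

theorem trInv_threeFour [Fintype F] (h2 : Fintype.card F = 2) :
    Cfsg.IsThreeFourPlusTranspositionSet (trInv n F) := by
  refine ⟨trInv_set, fun a ha b hb hodd => ?_⟩
  rcases trInv_pair ha hb with h | ⟨h, -⟩ | ⟨u, v, hu, hv, h⟩
  · left
    have : orderOf (a * b) ∣ 2 := orderOf_dvd_of_pow_eq_one (by
      rw [Commute.mul_pow h, pow_two, pow_two, trInv_sq ha, trInv_sq hb, one_mul])
    rcases (Nat.dvd_prime Nat.prime_two).mp this with e | e
    · exact e
    · rw [e] at hodd; exact absurd hodd (by decide)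
  · rw [h] at hodd; exact absurd hodd (by decide)
  · have hone : ∀ w : F, w ≠ 0 → w = 1 := by
      intro w hw
      have := FiniteField.pow_card_sub_one_eq_one w hw
      rwa [h2, show 2 - 1 = 1 from rfl, pow_one] at this
    rw [hone u hu, hone v hv] at h
    have h20 : (2 : F) = 0 := by exact_mod_cast CharP.cast_eq_zero F 2
    have h3 : (xU (1 : F) * yL 1) ^ 3 = 1 := by
      ext i j
      fin_cases i <;> fin_cases j <;>
        simp [coe_xU, coe_yL, pow_succ, Matrix.mul_apply, Fin.sum_univ_two] <;> grind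
    exact (Nat.dvd_prime Nat.prime_three).mp (h.trans (orderOf_dvd_of_pow_eq_one h3))

end Cfsg.Agent.Lib.RootSub
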