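import Cfsg.Agent.Lib.RootSub.Transvections
import Cfsg.Agent.Lib.Classical.LinearSimple

/-!
The transvection subgroups of `SL_N(k)`.
-/

namespace Cfsg.Agent.Lib.RootSub

open Matrix Cfsg.Agent.Lib.QuadPair

variable {k : Type*} [Field k] {N : ℕ}

local notation "Vec" => (Fin N → k)
local notation "PDN" => ((Fin N → k) →ₗ[k] k) × (Fin N → k)

/-- `SL_N` inside the linear group. -/
noncomputable def slLin (N : ℕ) (k : Type*) [Field k] :
    SpecialLinearGroup (Fin N) k →* LinearMap.GeneralLinearGroup k (Fin N → k) :=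
  Matrix.GeneralLinearGroup.toLin.toMonoidHom.comp SpecialLinearGroup.toGL

theorem slLin_apply (g : SpecialLinearGroup (Fin N) k) (m : Vec) :
    (slLin N k g : Vec →ₗ[k] Vec) m = g.1 *ᵥ m := rfl

theorem slLin_injective : Function.Injective (slLin N k) := fun g h e =>
  Subtype.ext (Matrix.ext_of_mulVec_single fun i => by rw [← slLin_apply, ← slLin_apply, e])

/-- The incident point-hyperplane pairs. -/
def isoPairs (N : ℕ) (k : Type*) [Field k] : Set (((Fin N → k) →ₗ[k] k) × (Fin N → k)) :=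
  {x | x.1 x.2 = 0 ∧ x.1 ≠ 0 ∧ x.2 ≠ 0}

theorem slLin_transvection {i j : Fin N} (hij : i ≠ j) (c : k) :
    slLin N k (SpecialLinearGroup.transvection hij c) =
      uni (c • tv (LinearMap.proj j, (Pi.single i 1 : Vec))) := by
  have h0 : ((LinearMap.proj j : Vec →ₗ[k] k), (Pi.single i 1 : Vec)).1 (Pi.single i 1) = 0 := by
    simp [Pi.single_eq_of_ne hij.symm]
  refine Units.ext (LinearMap.ext fun m => funext fun l => ?_)
  rw [slLin_apply, coe_uni (smul_sq (tv_sq h0) c)]
  have := Cfsg.Agent.Lib.Classical.transvection_smul_apply hij c m l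
  change ((SpecialLinearGroup.transvection hij c).1 *ᵥ m) l = _ at this
  rw [this]
  rcases eq_or_ne l i with rfl | hl
  · simp [tv_apply]
  · simp [tv_apply, hl]

theorem tgrp_le_slLin {x : PDN} (h : x.1 x.2 = 0) : tgrp x ≤ (slLin N k).range := by
  intro g hg
  obtain ⟨c, rfl⟩ := (mem_tgrp h).mp hg
  have e : (1 + c • tv x : Vec →ₗ[k] Vec) = LinearMap.transvection (c • x.1) x.2 := by
    refine LinearMap.ext fun m => ?_; simp [LinearMap.transvection.apply, tv_apply, smul_smul]
  have hdet : (LinearMap.toMatrix' (1 + c • tv x)).det = 1 := ?_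
  let A : SpecialLinearGroup (Fin N) k := ⟨LinearMap.toMatrix' (1 + c • tv x), hdet⟩
  refine ⟨A, ?_⟩
  rotate_left
  · rw [LinearMap.det_toMatrix', e, LinearMap.transvection.det]
    simp [h]
  · refine Units.ext (LinearMap.ext fun m => ?_)
    rw [coe_uni (smul_sq (tv_sq h) c)]
    exact (slLin_apply A m).trans (LinearMap.toMatrix'_mulVec _ m)

theorem slSetting (n : ℕ) : TSetting (slLin (n + 3) k) (isoPairs (n + 3) k) where
  inj := slLin_injective
  isotropic x hx := hx.1
  left_ne x hx := hx.2.1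
  right_ne x hx := hx.2.2
  range_le x hx := tgrp_le_slLin hx.1
  closed x hx y hy _ h2 := ⟨(y.1, x.2), ⟨h2, hy.2.1, hx.2.2⟩, rfl⟩
  conj h x hx := by
    refine ⟨_, ⟨?_, ?_, ?_⟩, (conjBy_tgrp hx.1 (slLin _ k h)).symm⟩
    · have := hx.1
      simpa [← Module.End.mul_apply] using this
    · intro e
      apply hx.2.1
      refine LinearMap.ext fun m => ?_
      have := DFunLike.congr_fun e ((slLin _ k h : (Fin (n + 3) → k) →ₗ[k] _) m)
      simpa [← Module.End.mul_apply] using this
    · intro e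
      apply hx.2.2
      have := congrArg (fun m => (((slLin _ k h)⁻¹ : LinearMap.GeneralLinearGroup k (Fin (n + 3) → k)) : Module.End k (Fin (n + 3) → k)) m) e
      simpa [← Module.End.mul_apply] using this
  middle x hx y hy := by
    have hne : ∀ p : Fin (n + 3) → k, p ≠ 0 →
        (Module.Dual.eval k (Fin (n + 3) → k) p) ≠ 0 := by
      intro p hp e
      obtain ⟨i, hi⟩ := Function.ne_iff.mp hp
      exact hi (DFunLike.congr_fun e (LinearMap.proj i))
    obtain ⟨χ, hχ1, hχ2⟩ := exists_two_ne_zero (hne _ hx.2.2) (hne _ hy.2.2)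
    simp only [Module.Dual.eval_apply] at hχ1 hχ2
    have hker : ∀ (z : ((Fin (n + 3) → k) →ₗ[k] k) × (Fin (n + 3) → k)), z ∈ isoPairs (n + 3) k → χ z.2 ≠ 0 →
        z.1.comp (LinearMap.ker χ).subtype ≠ 0 := by
      intro z hz hc e
      apply hz.2.1
      refine LinearMap.ext fun m => ?_
      have hm : m - (χ m / χ z.2) • z.2 ∈ LinearMap.ker χ := by simp [hc]
      have := DFunLike.congr_fun e ⟨_, hm⟩
      simpa [hz.1] using this
    obtain ⟨⟨s, hs⟩, hs1, hs2⟩ := exists_two_ne_zero (hker x hx hχ1) (hker y hy hχ2)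
    simp only [LinearMap.comp_apply, Submodule.subtype_apply] at hs1 hs2
    refine ⟨(χ, s), ⟨hs, ?_, ?_⟩, hs1, hχ1, hs2, hχ2⟩
    · exact fun e => hχ1 (by simp only at e; rw [e]; rfl)
    · intro e
      simp only at e
      exact hs1 (by rw [e, map_zero])
  nonempty := ⟨(LinearMap.proj 1, Pi.single 0 1), by simp, fun e => by
      simpa using DFunLike.congr_fun e (Pi.single 1 1), by simp⟩
  generates := by
    refine Cfsg.Agent.Lib.Classical.SL_eq_top_of_transvection_mem fun i j hij c => ?_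
    refine le_iSup₂ (f := fun x _ => (tgrp x).comap (slLin (n + 3) k))
      ((LinearMap.proj j, Pi.single i 1) : ((Fin (n + 3) → k) →ₗ[k] k) × (Fin (n + 3) → k))
      ⟨by simp [Pi.single_eq_of_ne hij.symm], fun e => by
        simpa using DFunLike.congr_fun e (Pi.single j 1), by simp⟩ ?_
    rw [Subgroup.mem_comap, slLin_transvection]
    exact uni_mem_tgrp _ _

/-- The standard pair. -/
noncomputable def pair01 (n : ℕ) (k : Type*) [Field k] : ((Fin (n + 3) → k) →ₗ[k] k) × (Fin (n + 3) → k) :=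
  (LinearMap.proj 1, Pi.single 0 1)

theorem pair01_mem (n : ℕ) : pair01 n k ∈ isoPairs (n + 3) k :=
  ⟨by simp [pair01], fun e => by simpa [pair01] using DFunLike.congr_fun e (Pi.single 1 1), by simp [pair01]⟩

theorem mem_comap_pair01 {n : ℕ} {t : SpecialLinearGroup (Fin (n + 3)) k} :
    t ∈ (tgrp (pair01 n k)).comap (slLin (n + 3) k) ↔
      ∃ c : k, (t : Matrix (Fin (n + 3)) (Fin (n + 3)) k) = Matrix.transvection 0 1 c := by
  rw [Subgroup.mem_comap, mem_tgrp (pair01_mem n).1]
  refine exists_congr fun c => ?_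
  rw [pair01, ← slLin_transvection (show (0 : Fin (n + 3)) ≠ 1 by simp) c,
    slLin_injective.eq_iff]
  exact ⟨fun e => congrArg Subtype.val e, fun e => Subtype.ext e⟩

theorem closure_T01 (n : ℕ) :
    Subgroup.closure {t : SpecialLinearGroup (Fin (n + 3)) k |
        ∃ c : k, (t : Matrix (Fin (n + 3)) (Fin (n + 3)) k) = Matrix.transvection 0 1 c} =
      (tgrp (pair01 n k)).comap (slLin (n + 3) k) := by
  refine le_antisymm ((Subgroup.closure_le _).mpr fun t ht => mem_comap_pair01.mpr ht) fun t ht =>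
    Subgroup.subset_closure (mem_comap_pair01.mp ht)

theorem slConjSet_eq (n : ℕ) :
    {A : Subgroup (SpecialLinearGroup (Fin (n + 3)) k) |
      ∃ g : SpecialLinearGroup (Fin (n + 3)) k,
        A = Cfsg.conjBy (Subgroup.closure {t : SpecialLinearGroup (Fin (n + 3)) k |
          ∃ c : k, (t : Matrix (Fin (n + 3)) (Fin (n + 3)) k) = Matrix.transvection 0 1 c}) g} =
      tset (slLin (n + 3) k) (isoPairs (n + 3) k) := by
  ext A
  rw [Set.mem_ofPred_eq, closure_T01]
  constructor
  · rintro ⟨g, rfl⟩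
    obtain ⟨z, hz, hze⟩ := (slSetting n).conj g _ (pair01_mem n)
    refine ⟨z, hz, Subgroup.map_injective slLin_injective ?_⟩
    beta_reduce
    rw [(slSetting n).map_eq hz, map_conjBy, (slSetting n).map_eq (pair01_mem n), hze]
  · rintro ⟨x, hx, rfl⟩
    exact (slSetting n).exists_conj_pair (pair01_mem n) hx

theorem slNondegenerate (n : ℕ) :
    Cfsg.IsNondegenerateRootSet (tset (slLin (n + 3) k) (isoPairs (n + 3) k)) := by
  have h02 : (0 : Fin (n + 3)) ≠ 2 := fun e => by
    have := congrArg Fin.val e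
    simp [Nat.mod_eq_of_lt (show 2 < n + 3 by omega)] at this
  have h12 : (1 : Fin (n + 3)) ≠ 2 := fun e => by
    have := congrArg Fin.val e
    simp [Nat.mod_eq_of_lt (show 2 < n + 3 by omega)] at this
  refine (slSetting n).nondegenerate (x := pair01 n k) (y := (LinearMap.proj 1, Pi.single 2 1))
    (z := pair01 n k) (w := (LinearMap.proj 2, Pi.single 1 1)) (pair01_mem n) ?_ (pair01_mem n) ?_ ?_ ?_ ?_ ?_ ?_
  · exact ⟨by simp [h12], fun e => by simpa using DFunLike.congr_fun e (Pi.single 1 1), by simp⟩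
  · exact ⟨by simp [h12.symm], fun e => by simpa using DFunLike.congr_fun e (Pi.single 2 1), by simp⟩
  · simp [pair01, h12]
  · simp [pair01]
  · intro e
    have hm := uni_mem_tgrp ((LinearMap.proj 1, Pi.single 2 1) : ((Fin (n + 3) → k) →ₗ[k] k) × (Fin (n + 3) → k)) 1
    rw [← e, mem_tgrp (pair01_mem n).1] at hm
    obtain ⟨c, hc⟩ := hm
    have h2 : ((LinearMap.proj 1, Pi.single 2 1) : ((Fin (n + 3) → k) →ₗ[k] k) × (Fin (n + 3) → k)).1
        (Pi.single 2 1) = 0 := by simp [h12]
    have := uni_inj (smul_sq (tv_sq h2) 1) (smul_sq (tv_sq (pair01_mem n).1) c) hc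
    have := congrFun (DFunLike.congr_fun this (Pi.single 1 1)) 2
    simp [tv_apply, pair01, h02.symm] at this
  · simp [pair01]
  · simp [pair01, h02.symm]

end Cfsg.Agent.Lib.RootSub
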