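import Cfsg.Prelude.Def_RootSubgroups
import Cfsg.Prelude.Def_Classical
import Cfsg.Agent.Lib.RootSub.SL2Pair
import Cfsg.Agent.Lib.RootSub.RootSet

/-!
The Siegel transvection groups of the singular lines of a hyperbolic quadratic space.
-/

set_option autoImplicit false
set_option linter.unusedSectionVars false

namespace Cfsg.Agent.Lib.RootSub.Siegel

open Matrix Cfsg.Agent.Lib.QuadPair

universe u

variable {F : Type u} [Field F] {n : ℕ}

/-- The space. -/
abbrev Sp (n : ℕ) (F : Type u) : Type u := Fin n ⊕ Fin n → F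

/-- The group of isometries. -/
abbrev O (n : ℕ) (F : Type u) [Field F] :
    Subgroup (Matrix.GeneralLinearGroup (Fin n ⊕ Fin n) F) :=
  Cfsg.isometryGroup F (Cfsg.quadFormPlus n F)

/-- The quadratic form. -/
abbrev qp (v : Sp n F) : F := Cfsg.quadFormPlus n F v

/-- The bilinear form. -/
def pol (u v : Sp n F) : F :=
  ∑ i : Fin n, (u (.inl i) * v (.inr i) + u (.inr i) * v (.inl i))

theorem pol_comm (u v : Sp n F) : pol u v = pol v u :=
  Finset.sum_congr rfl fun i _ => by ring

theorem qp_add (u v : Sp n F) : qp (u + v) = qp u + qp v + pol u v := by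
  simp only [qp, Cfsg.quadFormPlus, pol, ← Finset.sum_add_distrib]
  exact Finset.sum_congr rfl fun i _ => by simp only [Pi.add_apply]; ring

theorem qp_smul (c : F) (v : Sp n F) : qp (c • v) = c * c * qp v := by
  simp only [qp, Cfsg.quadFormPlus, Finset.mul_sum]
  exact Finset.sum_congr rfl fun i _ => by simp only [Pi.smul_apply, smul_eq_mul]; ring

theorem pol_add_left (u v w : Sp n F) : pol (u + v) w = pol u w + pol v w := by
  simp only [pol, ← Finset.sum_add_distrib]
  exact Finset.sum_congr rfl fun i _ => by simp only [Pi.add_apply]; ring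

theorem pol_smul_left (c : F) (u w : Sp n F) : pol (c • u) w = c * pol u w := by
  simp only [pol, Finset.mul_sum]
  exact Finset.sum_congr rfl fun i _ => by simp only [Pi.smul_apply, smul_eq_mul]; ring

theorem pol_add_right (u v w : Sp n F) : pol u (v + w) = pol u v + pol u w := by
  rw [pol_comm u (v + w), pol_add_left, pol_comm v u, pol_comm w u]

theorem pol_smul_right (c : F) (u w : Sp n F) : pol u (c • w) = c * pol u w := by
  rw [pol_comm u (c • w), pol_smul_left, pol_comm w u]

theorem pol_sub_left (u v w : Sp n F) : pol (u - v) w = pol u w - pol v w := by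
  rw [sub_eq_add_neg, pol_add_left, ← neg_one_smul F v, pol_smul_left]; ring

theorem pol_sub_right (u v w : Sp n F) : pol u (v - w) = pol u v - pol u w := by
  rw [pol_comm u (v - w), pol_sub_left, pol_comm v u, pol_comm w u]

theorem pol_neg_left (u w : Sp n F) : pol (-u) w = -pol u w := by
  rw [← neg_one_smul F u, pol_smul_left, neg_one_mul]

theorem pol_neg_right (u w : Sp n F) : pol u (-w) = -pol u w := by
  rw [← neg_one_smul F w, pol_smul_right, neg_one_mul]

theorem pol_zero_left (w : Sp n F) : pol 0 w = 0 := by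
  simp [pol]

theorem pol_self (u : Sp n F) : pol u u = 2 * qp u := by
  simp only [qp, Cfsg.quadFormPlus, pol, Finset.mul_sum]
  exact Finset.sum_congr rfl fun i _ => by ring

theorem eq_zero_of_pol {x : Sp n F} (h : ∀ w, pol x w = 0) : x = 0 := by
  funext j
  rcases j with i | i
  · have := h (Pi.single (Sum.inr i) 1)
    simpa [pol, Pi.single_apply, Finset.sum_add_distrib] using this
  · have := h (Pi.single (Sum.inl i) 1)
    simpa [pol, Pi.single_apply, Finset.sum_add_distrib] using this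

/-- The action on vectors. -/
def act (g : O n F) (v : Sp n F) : Sp n F :=
  ((g : Matrix.GeneralLinearGroup (Fin n ⊕ Fin n) F) : Matrix (Fin n ⊕ Fin n) (Fin n ⊕ Fin n) F) *ᵥ v

theorem act_mul (g h : O n F) (v : Sp n F) : act (g * h) v = act g (act h v) := by
  simp [act, Matrix.mulVec_mulVec]

theorem act_one (v : Sp n F) : act (1 : O n F) v = v := by simp [act]

theorem act_inv_cancel (g : O n F) (v : Sp n F) : act g⁻¹ (act g v) = v := by
  rw [← act_mul, inv_mul_cancel, act_one]

theorem act_cancel_inv (g : O n F) (v : Sp n F) : act g (act g⁻¹ v) = v := by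
  rw [← act_mul, mul_inv_cancel, act_one]

theorem act_add (g : O n F) (u v : Sp n F) : act g (u + v) = act g u + act g v :=
  Matrix.mulVec_add _ _ _

theorem act_smul (g : O n F) (c : F) (v : Sp n F) : act g (c • v) = c • act g v :=
  Matrix.mulVec_smul _ _ _

theorem act_sub (g : O n F) (u v : Sp n F) : act g (u - v) = act g u - act g v :=
  Matrix.mulVec_sub _ _ _

theorem act_ext {g h : O n F} (e : ∀ v, act g v = act h v) : g = h :=
  Subtype.ext (Units.ext (Matrix.toLin'.injective (LinearMap.ext fun v => by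
    simp only [Matrix.toLin'_apply]; exact e v)))

theorem qp_act (g : O n F) (v : Sp n F) : qp (act g v) = qp v := g.2 v v

theorem pol_act (g : O n F) (u v : Sp n F) : pol (act g u) (act g v) = pol u v := by
  have h := qp_act g (u + v)
  rw [act_add, qp_add, qp_add, qp_act, qp_act] at h
  linear_combination h

/-- An isometry given by a linear map with an inverse. -/
def mkIso (f f' : Sp n F →ₗ[F] Sp n F) (h1 : ∀ v, f (f' v) = v) (h2 : ∀ v, f' (f v) = v)
    (hq : ∀ v, qp (f v) = qp v) : O n F :=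
  ⟨⟨LinearMap.toMatrix' f, LinearMap.toMatrix' f',
      by rw [← LinearMap.toMatrix'_comp, show f ∘ₗ f' = LinearMap.id from LinearMap.ext h1, LinearMap.toMatrix'_id],
      by rw [← LinearMap.toMatrix'_comp, show f' ∘ₗ f = LinearMap.id from LinearMap.ext h2, LinearMap.toMatrix'_id]⟩,
    fun u _ => by
      show qp (LinearMap.toMatrix' f *ᵥ u) = qp u
      rw [← Matrix.toLin'_apply, Matrix.toLin'_toMatrix']
      exact hq u⟩

theorem act_mkIso (f f' : Sp n F →ₗ[F] Sp n F) (h1 : ∀ v, f (f' v) = v) (h2 : ∀ v, f' (f v) = v)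
    (hq : ∀ v, qp (f v) = qp v) (v : Sp n F) : act (mkIso f f' h1 h2 hq) v = f v := by
  show LinearMap.toMatrix' f *ᵥ v = f v
  rw [← Matrix.toLin'_apply, Matrix.toLin'_toMatrix']

/-- A singular line with a basis. -/
structure Line (p r : Sp n F) : Prop where
  li : LinearIndependent F ![p, r]
  qp1 : qp p = 0
  qp2 : qp r = 0
  pol12 : pol p r = 0

/-- A hyperbolic quadruple. -/
structure Quad (p r p' r' : Sp n F) : Prop where
  q1 : qp p = 0
  q2 : qp r = 0
  q3 : qp p' = 0
  q4 : qp r' = 0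
  b12 : pol p r = 0
  b34 : pol p' r' = 0
  b13 : pol p p' = 1
  b14 : pol p r' = 0
  b23 : pol r p' = 0
  b24 : pol r r' = 1

/-- The Siegel map of a pair of vectors. -/
def sX (p r v : Sp n F) : Sp n F := pol v r • p - pol v p • r

/-- The Siegel transvection group of a line. -/
def T (p r : Sp n F) : Subgroup (O n F) :=
  Subgroup.closure {σ : O n F | ∀ v : Sp n F,
    qp (v + p) - qp v - qp p = 0 → qp (v + r) - qp v - qp r = 0 → act σ v = v}

theorem sX_act (g : O n F) (p r v : Sp n F) : act g (sX p r v) = sX (act g p) (act g r) (act g v) := by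
  simp only [sX, act_sub, act_smul, pol_act]

theorem pol_sX_self {p r : Sp n F} (hp : qp p = 0) (hr : qp r = 0) (hb : pol p r = 0) (v : Sp n F) :
    pol (sX p r v) p = 0 ∧ pol (sX p r v) r = 0 := by
  simp only [sX, pol_sub_left, pol_smul_left, pol_self, hp, hr, hb, pol_comm r p]
  constructor <;> ring

section quad

variable {p r p' r' : Sp n F} (h : Quad p r p' r')

/-- The map attached to a matrix. -/
def sl2Lin (p r p' r' : Sp n F) (M : Matrix (Fin 2) (Fin 2) F) : Sp n F →ₗ[F] Sp n F where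
  toFun v := v + pol v p' • ((M 0 0 - 1) • p + M 1 0 • r') + pol v r • (M 0 1 • p + (M 1 1 - 1) • r') +
    pol v r' • ((M 0 0 - 1) • r - M 1 0 • p') + pol v p • ((M 1 1 - 1) • p' - M 0 1 • r)
  map_add' u v := by simp only [pol_add_left, add_smul]; abel
  map_smul' c v := by simp only [pol_smul_left, RingHom.id_apply, smul_add, mul_smul]

theorem sl2Lin_apply (M : Matrix (Fin 2) (Fin 2) F) (v : Sp n F) :
    sl2Lin p r p' r' M v = v + pol v p' • ((M 0 0 - 1) • p + M 1 0 • r') +
      pol v r • (M 0 1 • p + (M 1 1 - 1) • r') + pol v r' • ((M 0 0 - 1) • r - M 1 0 • p') +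
      pol v p • ((M 1 1 - 1) • p' - M 0 1 • r) := rfl

include h in
theorem sl2Lin_pol (M : Matrix (Fin 2) (Fin 2) F) (v : Sp n F) :
    pol (sl2Lin p r p' r' M v) p' = M 0 0 * pol v p' + M 0 1 * pol v r ∧
    pol (sl2Lin p r p' r' M v) r = M 1 0 * pol v p' + M 1 1 * pol v r ∧
    pol (sl2Lin p r p' r' M v) r' = M 0 0 * pol v r' - M 0 1 * pol v p ∧
    pol (sl2Lin p r p' r' M v) p = M 1 1 * pol v p - M 1 0 * pol v r' := by
  obtain ⟨q1, q2, q3, q4, b12, b34, b13, b14, b23, b24⟩ := h
  simp only [sl2Lin_apply, pol_add_left, pol_sub_left, pol_smul_left, pol_self, q1, q2, q3, q4, b12,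
    b34, b13, b14, b23, b24, pol_comm r p, pol_comm r' p', pol_comm p' p, pol_comm r' p, pol_comm p' r,
    pol_comm r' r]
  refine ⟨?_, ?_, ?_, ?_⟩ <;> ring

include h in
theorem sl2Lin_mul (M N : Matrix (Fin 2) (Fin 2) F) (v : Sp n F) :
    sl2Lin p r p' r' M (sl2Lin p r p' r' N v) = sl2Lin p r p' r' (M * N) v := by
  obtain ⟨e1, e2, e3, e4⟩ := sl2Lin_pol h N v
  rw [sl2Lin_apply M, e1, e2, e3, e4, sl2Lin_apply, sl2Lin_apply]
  simp only [Matrix.mul_apply, Fin.sum_univ_two]
  module

theorem sl2Lin_one (v : Sp n F) : sl2Lin p r p' r' 1 v = v := by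
  rw [sl2Lin_apply]; simp

include h in
theorem sl2Lin_qp (M : Matrix (Fin 2) (Fin 2) F) (hM : M.det = 1) (v : Sp n F) :
    qp (sl2Lin p r p' r' M v) = qp v := by
  obtain ⟨q1, q2, q3, q4, b12, b34, b13, b14, b23, b24⟩ := h
  rw [Matrix.det_fin_two] at hM
  simp only [sl2Lin_apply, sub_eq_add_neg, ← neg_smul, qp_add, qp_smul, pol_add_left, pol_add_right,
    pol_smul_left, pol_smul_right, q1, q2, q3, q4, b12, b34, b13, b14, b23, b24, pol_comm r p,
    pol_comm r' p', pol_comm p' p, pol_comm r' p, pol_comm p' r, pol_comm r' r, pol_self]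
  linear_combination (pol v p' * pol v p + pol v r * pol v r') * hM

/-- The homomorphism from `SL₂`. -/
def sl2Hom : SpecialLinearGroup (Fin 2) F →* O n F where
  toFun g := mkIso (sl2Lin p r p' r' g) (sl2Lin p r p' r' ((g⁻¹ : SpecialLinearGroup (Fin 2) F) : Matrix (Fin 2) (Fin 2) F))
    (fun v => (sl2Lin_mul h _ _ v).trans
      ((congrArg (fun M => sl2Lin p r p' r' M v) (congrArg Subtype.val (mul_inv_cancel g))).trans (sl2Lin_one v)))
    (fun v => (sl2Lin_mul h _ _ v).trans
      ((congrArg (fun M => sl2Lin p r p' r' M v) (congrArg Subtype.val (inv_mul_cancel g))).trans (sl2Lin_one v)))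
    (sl2Lin_qp h _ g.2)
  map_one' := act_ext fun v => by rw [act_mkIso, act_one]; exact sl2Lin_one v
  map_mul' g g' := act_ext fun v => by
    rw [act_mul, act_mkIso, act_mkIso, act_mkIso]; exact (sl2Lin_mul h _ _ v).symm

theorem act_sl2Hom (g : SpecialLinearGroup (Fin 2) F) (v : Sp n F) :
    act (sl2Hom h g) v = sl2Lin p r p' r' g v := by
  simp only [sl2Hom, MonoidHom.coe_mk, OneHom.coe_mk, act_mkIso]

theorem act_xU (a : F) (v : Sp n F) : act (sl2Hom h (xU a)) v = v + a • sX p r v := by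
  rw [act_sl2Hom, sl2Lin_apply, sX]
  simp [coe_xU]
  module

theorem act_yL (b : F) (v : Sp n F) : act (sl2Hom h (yL b)) v = v + b • sX r' p' v := by
  rw [act_sl2Hom, sl2Lin_apply, sX]
  simp [coe_yL]
  module

include h in
theorem sl2Hom_ker : (sl2Hom h).ker = ⊥ := by
  rw [Subgroup.eq_bot_iff_forall]
  intro g hg
  rw [MonoidHom.mem_ker] at hg
  have h1 := fun v => congrArg (fun s => act s v) hg
  simp only [act_one, act_sl2Hom] at h1
  obtain ⟨ea, eb, -, -⟩ := sl2Lin_pol h g.1 p
  obtain ⟨ec, ed, -, -⟩ := sl2Lin_pol h g.1 r'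
  rw [h1] at ea eb ec ed
  rw [h.b13, h.b12] at ea eb
  rw [pol_comm r' p', h.b34, pol_comm r' r, h.b24] at ec ed
  ext i j
  fin_cases i <;> fin_cases j <;> simp
  · linear_combination -ea
  · linear_combination -ec
  · linear_combination -eb
  · linear_combination -ed

include h in
theorem Quad.swap : Quad r' p' r p :=
  ⟨h.q4, h.q3, h.q2, h.q1, by rw [pol_comm, h.b34], by rw [pol_comm, h.b12], by rw [pol_comm, h.b24],
    by rw [pol_comm, h.b14], by rw [pol_comm, h.b23], by rw [pol_comm, h.b13]⟩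

include h in
theorem Quad.line : Line p r := by
  refine ⟨LinearIndependent.pair_iff.mpr fun s t e => ⟨?_, ?_⟩, h.q1, h.q2, h.b12⟩
  · have := congrArg (fun w => pol w p') e
    simpa [pol_add_left, pol_smul_left, h.b13, h.b23, pol_zero_left] using this
  · have := congrArg (fun w => pol w r') e
    simpa [pol_add_left, pol_smul_left, h.b14, h.b24, pol_zero_left] using this

include h in
theorem mem_T_quad {g : O n F} : g ∈ T p r ↔ ∃ a : F, g = sl2Hom h (xU a) := by
  obtain ⟨q1, q2, q3, q4, b12, b34, b13, b14, b23, b24⟩ := id h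
  constructor
  · intro hg
    induction hg using Subgroup.closure_induction with
    | one => exact ⟨0, by rw [xU_zero, map_one]⟩
    | mul x y _ _ hx hy =>
      obtain ⟨a, rfl⟩ := hx
      obtain ⟨b, rfl⟩ := hy
      exact ⟨a + b, by rw [xU_add, map_mul]⟩
    | inv x _ hx => obtain ⟨a, rfl⟩ := hx; exact ⟨-a, by rw [xU_neg, map_inv]⟩
    | mem g hg =>
      have hfix : ∀ w, pol w p = 0 → pol w r = 0 → act g w = w := fun w hp hr =>
        hg w (by rw [qp_add, hp]; ring) (by rw [qp_add, hr]; ring)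
      -- vectors orthogonal to the orthogonal space lie in the line
      have hperp : ∀ x, (∀ w, pol w p = 0 → pol w r = 0 → pol x w = 0) →
          x = pol x p' • p + pol x r' • r := by
        intro x hx
        rw [← sub_eq_zero]
        refine eq_zero_of_pol fun w => ?_
        have hw := hx (w - pol w p • p' - pol w r • r')
          (by simp only [pol_sub_left, pol_smul_left, pol_comm p' p, pol_comm r' p, b13, b14]; ring)
          (by simp only [pol_sub_left, pol_smul_left, pol_comm p' r, pol_comm r' r, b23, b24]; ring)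
        simp only [pol_sub_left, pol_add_left, pol_smul_left, pol_sub_right, pol_smul_right,
          pol_comm p w, pol_comm r w] at hw ⊢
        linear_combination hw
      have hd : ∀ x, ∀ w, pol w p = 0 → pol w r = 0 → pol (act g x - x) w = 0 := by
        intro x w hp hr
        have := pol_act g x w
        rw [hfix w hp hr] at this
        rw [pol_sub_left, this, sub_self]
      have e1 := hperp _ (hd p')
      have e2 := hperp _ (hd r')
      obtain ⟨α, hα⟩ : ∃ α, α = pol (act g p' - p') p' := ⟨_, rfl⟩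
      obtain ⟨β, hβ⟩ : ∃ β, β = pol (act g p' - p') r' := ⟨_, rfl⟩
      obtain ⟨γ, hγ⟩ : ∃ γ, γ = pol (act g r' - r') p' := ⟨_, rfl⟩
      obtain ⟨δ, hδ⟩ : ∃ δ, δ = pol (act g r' - r') r' := ⟨_, rfl⟩
      rw [← hα, ← hβ, sub_eq_iff_eq_add] at e1
      rw [← hγ, ← hδ, sub_eq_iff_eq_add] at e2
      have hα0 : α = 0 := by
        have := qp_act g p'
        rw [e1] at this
        simp only [qp_add, qp_smul, pol_add_left, pol_smul_left, pol_smul_right, q1, q2, q3, b12, b13, b23] at this
        linear_combination this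
      have hδ0 : δ = 0 := by
        have := qp_act g r'
        rw [e2] at this
        simp only [qp_add, qp_smul, pol_add_left, pol_smul_left, pol_smul_right, q1, q2, q4, b12, b14, b24] at this
        linear_combination this
      have hβγ : β + γ = 0 := by
        have := pol_act g p' r'
        rw [e1, e2] at this
        simp only [pol_add_left, pol_add_right, pol_smul_left, pol_smul_right, pol_self, q1, q2, b12, b34,
          b13, b14, b23, b24, pol_comm r p, pol_comm p' p, pol_comm p' r] at this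
        linear_combination this
      refine ⟨γ, act_ext fun v => ?_⟩
      rw [act_xU]
      have hv : v = (v - pol v p • p' - pol v r • r') + pol v p • p' + pol v r • r' := by abel
      conv_lhs => rw [hv]
      rw [act_add, act_add, act_smul, act_smul, hfix _
          (by simp only [pol_sub_left, pol_smul_left, pol_comm p' p, pol_comm r' p, b13, b14]; ring)
          (by simp only [pol_sub_left, pol_smul_left, pol_comm p' r, pol_comm r' r, b23, b24]; ring),
        e1, e2, hα0, hδ0, eq_neg_of_add_eq_zero_left hβγ, sX]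
      module
  · rintro ⟨a, rfl⟩
    refine Subgroup.subset_closure fun v h1 h2 => ?_
    rw [qp_add] at h1 h2
    have e1 : pol v p = 0 := by linear_combination h1
    have e2 : pol v r = 0 := by linear_combination h2
    rw [act_xU, sX, e1, e2]
    simp

end quad

theorem exists_quad {p r : Sp n F} (h : Line p r) : ∃ p' r', Quad p r p' r' := by
  let f : Sp n F →ₗ[F] (Fin 2 → F) :=
    { toFun := fun x => ![pol x p, pol x r]
      map_add' := fun x y => by ext i; fin_cases i <;> simp [pol_add_left]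
      map_smul' := fun c x => by ext i; fin_cases i <;> simp [pol_smul_left] }
  have hf : Function.Surjective f := by
    rw [← LinearMap.range_eq_top]
    by_contra hne
    obtain ⟨φ, hφ, hle⟩ := Submodule.exists_le_ker_of_lt_top _ (lt_top_iff_ne_top.mpr hne)
    have hz : φ (Pi.single 0 1) • p + φ (Pi.single 1 1) • r = 0 := eq_zero_of_pol fun w => by
      have := hle ⟨w, rfl⟩
      rw [LinearMap.mem_ker] at this
      have e : f w = pol w p • Pi.single 0 1 + pol w r • Pi.single 1 1 := by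
        ext i; fin_cases i <;> simp [f]
      rw [e, map_add, map_smul, map_smul, smul_eq_mul, smul_eq_mul] at this
      rw [pol_add_left, pol_smul_left, pol_smul_left, pol_comm p w, pol_comm r w]
      linear_combination this
    obtain ⟨e1, e2⟩ := LinearIndependent.pair_iff.mp h.li _ _ hz
    apply hφ
    refine LinearMap.pi_ext' fun i => LinearMap.ext_ring ?_
    fin_cases i <;> simp [e1, e2]
  obtain ⟨a, ha⟩ := hf (Pi.single 0 1)
  obtain ⟨b, hb⟩ := hf (Pi.single 1 1)
  have ha1 : pol a p = 1 := by simpa [f] using congrFun ha 0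
  have ha2 : pol a r = 0 := by simpa [f] using congrFun ha 1
  have hb1 : pol b p = 0 := by simpa [f] using congrFun hb 0
  have hb2 : pol b r = 1 := by simpa [f] using congrFun hb 1
  obtain ⟨hl, q1, q2, b12⟩ := h
  obtain ⟨p', hp'⟩ : ∃ p', p' = a - qp a • p := ⟨_, rfl⟩
  obtain ⟨c, hc⟩ : ∃ c, c = b - pol b p' • p := ⟨_, rfl⟩
  obtain ⟨r', hr'⟩ : ∃ r', r' = c - qp c • r := ⟨_, rfl⟩
  have b13 : pol p p' = 1 := by
    rw [hp', pol_sub_right, pol_smul_right, pol_self, q1, pol_comm, ha1]; ring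
  have b23 : pol r p' = 0 := by
    rw [hp', pol_sub_right, pol_smul_right, pol_comm r p, b12, pol_comm, ha2]; ring
  have q3 : qp p' = 0 := by
    rw [hp', sub_eq_add_neg, ← neg_smul, qp_add, qp_smul, pol_smul_right, q1, ha1]; ring
  have hc1 : pol c p = 0 := by
    rw [hc, pol_sub_left, pol_smul_left, hb1, pol_self, q1]; ring
  have hc2 : pol c r = 1 := by
    rw [hc, pol_sub_left, pol_smul_left, hb2, b12]; ring
  have hc3 : pol c p' = 0 := by
    rw [hc, pol_sub_left, pol_smul_left, b13]; ring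
  refine ⟨p', r', q1, q2, q3, ?_, b12, ?_, b13, ?_, b23, ?_⟩
  · rw [hr', sub_eq_add_neg, ← neg_smul, qp_add, qp_smul, pol_smul_right, q2, hc2]; ring
  · rw [hr', pol_sub_right, pol_smul_right, pol_comm p' r, b23, pol_comm, hc3]; ring
  · rw [hr', pol_sub_right, pol_smul_right, b12, pol_comm, hc1]; ring
  · rw [hr', pol_sub_right, pol_smul_right, pol_self, q2, pol_comm, hc2]; ring

theorem mem_T {p r : Sp n F} (h : Line p r) {g : O n F} :
    g ∈ T p r ↔ ∃ a : F, ∀ v, act g v = v + a • sX p r v := by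
  obtain ⟨p', r', hq⟩ := exists_quad h
  rw [mem_T_quad hq]
  exact ⟨fun ⟨a, e⟩ => ⟨a, fun v => by rw [e, act_xU]⟩,
    fun ⟨a, e⟩ => ⟨a, act_ext fun v => by rw [e, act_xU]⟩⟩

theorem exists_mem_T {p r : Sp n F} (h : Line p r) (a : F) :
    ∃ g ∈ T p r, ∀ v, act g v = v + a • sX p r v := by
  obtain ⟨p', r', hq⟩ := exists_quad h
  exact ⟨_, (mem_T_quad hq).mpr ⟨a, rfl⟩, act_xU hq a⟩

theorem T_ne_bot {p r : Sp n F} (h : Line p r) : T p r ≠ ⊥ := by
  obtain ⟨p', r', hq⟩ := exists_quad h
  intro e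
  have h1 : sl2Hom hq (xU 1) ∈ T p r := (mem_T_quad hq).mpr ⟨1, rfl⟩
  rw [e, Subgroup.mem_bot] at h1
  have h2 : (xU (1 : F)) ∈ (sl2Hom hq).ker := h1
  rw [sl2Hom_ker hq, Subgroup.mem_bot] at h2
  exact one_ne_zero ((by simpa [coe_xU] using congrArg (fun g : SpecialLinearGroup (Fin 2) F => g.1 0 1) h2) : (1 : F) = 0)

/-- Change of basis of a line. -/
theorem change {p r : Sp n F} (h : Line p r) {a b c d : F} (hdet : a * d - b * c ≠ 0) :
    Line (a • p + b • r) (c • p + d • r) ∧ T (a • p + b • r) (c • p + d • r) = T p r := by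
  have hl : Line (a • p + b • r) (c • p + d • r) := by
    obtain ⟨li, q1, q2, b12⟩ := h
    refine ⟨LinearIndependent.pair_iff.mpr fun s t e => ?_, ?_, ?_, ?_⟩
    · obtain ⟨e1, e2⟩ := LinearIndependent.pair_iff.mp li (s * a + t * c) (s * b + t * d)
        (by rw [← e]; module)
      constructor
      · exact (mul_eq_zero.mp (show s * (a * d - b * c) = 0 by linear_combination d * e1 - c * e2)).resolve_right hdet
      · exact (mul_eq_zero.mp (show t * (a * d - b * c) = 0 by linear_combination a * e2 - b * e1)).resolve_right hdet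
    all_goals
      simp only [qp_add, qp_smul, pol_add_left, pol_add_right, pol_smul_left, pol_smul_right, pol_self,
        q1, q2, b12, pol_comm r p]
      ring
  have hX : ∀ v, sX (a • p + b • r) (c • p + d • r) v = (a * d - b * c) • sX p r v := by
    intro v
    simp only [sX, pol_add_right, pol_smul_right]
    module
  refine ⟨hl, ?_⟩
  ext g
  rw [mem_T hl, mem_T h]
  constructor
  · rintro ⟨x, e⟩
    exact ⟨x * (a * d - b * c), fun v => by rw [e, hX, smul_smul]⟩
  · rintro ⟨x, e⟩
    exact ⟨x / (a * d - b * c), fun v => by rw [e, hX, smul_smul, div_mul_cancel₀ _ hdet]⟩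

theorem swap_line {p r : Sp n F} (h : Line p r) : Line r p ∧ T r p = T p r := by
  simpa using change h (a := (0 : F)) (b := 1) (c := 1) (d := 0) (by simp)

theorem conj_T {p r : Sp n F} (h : Line p r) (g : O n F) :
    Line (act g p) (act g r) ∧ Cfsg.conjBy (T p r) g = T (act g p) (act g r) := by
  have hl : Line (act g p) (act g r) := by
    refine ⟨LinearIndependent.pair_iff.mpr fun s t e => ?_, by rw [qp_act, h.qp1], by rw [qp_act, h.qp2],
      by rw [pol_act, h.pol12]⟩
    refine LinearIndependent.pair_iff.mp h.li s t ?_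
    rw [← act_inv_cancel g (s • p + t • r), act_add, act_smul, act_smul, e]
    exact Matrix.mulVec_zero _
  refine ⟨hl, ?_⟩
  ext y
  rw [mem_conjBy, mem_T h, mem_T hl]
  constructor
  · rintro ⟨a, e⟩
    refine ⟨a, fun v => ?_⟩
    have := congrArg (act g) (e (act g⁻¹ v))
    rwa [act_mul, act_mul, act_cancel_inv, act_cancel_inv, act_add, act_smul, sX_act, act_cancel_inv] at this
  · rintro ⟨a, e⟩
    refine ⟨a, fun v => ?_⟩
    rw [act_mul, act_mul, e, act_add, act_smul, act_inv_cancel, sX_act, act_inv_cancel, act_inv_cancel,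
      act_inv_cancel]

/-- Elements of two groups commute when the Siegel maps do. -/
theorem commute_of_maps {p r s t : Sp n F} (h : Line p r) (h' : Line s t)
    (hc : ∀ v, sX p r (sX s t v) = sX s t (sX p r v)) :
    ∀ x ∈ T p r, ∀ y ∈ T s t, x * y = y * x := by
  intro x hx y hy
  obtain ⟨a, ha⟩ := (mem_T h).mp hx
  obtain ⟨b, hb⟩ := (mem_T h').mp hy
  refine act_ext fun v => ?_
  rw [act_mul, act_mul, hb v, ha v, ha, hb]
  have l1 : sX p r (v + b • sX s t v) = sX p r v + b • sX p r (sX s t v) := by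
    simp only [sX, pol_add_left, pol_smul_left]; module
  have l2 : sX s t (v + a • sX p r v) = sX s t v + a • sX s t (sX p r v) := by
    simp only [sX, pol_add_left, pol_smul_left]; module
  rw [l1, l2, hc]
  module

theorem T_comm {p r : Sp n F} (h : Line p r) : IsMulCommutative (T p r) :=
  ⟨⟨fun x y => Subtype.ext (commute_of_maps h h (fun _ => rfl) x x.2 y y.2)⟩⟩

/-- The set of groups. -/
def roots (n : ℕ) (F : Type u) [Field F] : Set (Subgroup (O n F)) :=
  {A | ∃ p r, LinearIndependent F ![p, r] ∧ qp p = 0 ∧ qp r = 0 ∧ qp (p + r) = 0 ∧ A = T p r}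

theorem mem_roots {A : Subgroup (O n F)} : A ∈ roots n F ↔ ∃ p r, Line p r ∧ A = T p r := by
  constructor
  · rintro ⟨p, r, h1, h2, h3, h4, rfl⟩
    exact ⟨p, r, ⟨h1, h2, h3, by rw [qp_add, h2, h3] at h4; linear_combination h4⟩, rfl⟩
  · rintro ⟨p, r, h, rfl⟩
    exact ⟨p, r, h.li, h.qp1, h.qp2, by rw [qp_add, h.qp1, h.qp2, h.pol12]; ring, rfl⟩

/-- The three cases in normal form. -/
theorem trichotomy {p r s t : Sp n F} (h : Line p r) (h' : Line s t) :
    (∃ p' r', Quad p r p' r' ∧ T s t = T r' p') ∨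
    (∀ x ∈ T p r, ∀ y ∈ T s t, x * y = y * x) ∨
    (∃ p₁ r₁ s₁ t₁, Line p₁ r₁ ∧ Line s₁ t₁ ∧ T p r = T p₁ r₁ ∧ T s t = T s₁ t₁ ∧
      pol p₁ s₁ = 0 ∧ pol p₁ t₁ = 0 ∧ pol r₁ s₁ = 0 ∧ pol r₁ t₁ = 1 ∧ LinearIndependent F ![s₁, p₁]) := by
  by_cases hD : pol p s * pol r t - pol p t * pol r s = 0
  swap
  · left
    set D := pol p s * pol r t - pol p t * pol r s with hDdef
    obtain ⟨hl, hT⟩ := change h' (a := -pol p t / D) (b := pol p s / D) (c := pol r t / D) (d := -pol r s / D) (by
      have e : -pol p t / D * (-pol r s / D) - pol p s / D * (pol r t / D) = -D⁻¹ := by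
        field_simp
        rw [hDdef]; ring
      rw [e]
      exact neg_ne_zero.mpr (inv_ne_zero hD))
    obtain ⟨hl', hT'⟩ := swap_line hl
    refine ⟨(pol r t / D) • s + (-pol r s / D) • t, (-pol p t / D) • s + (pol p s / D) • t,
      ⟨h.qp1, h.qp2, hl'.qp1, hl'.qp2, h.pol12, hl'.pol12, ?_, ?_, ?_, ?_⟩, hT.symm⟩
    all_goals
      simp only [pol_add_right, pol_smul_right]
      field_simp
      ring
  right
  by_cases h0 : pol p s = 0 ∧ pol p t = 0 ∧ pol r s = 0 ∧ pol r t = 0
  · left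
    obtain ⟨e1, e2, e3, e4⟩ := h0
    refine commute_of_maps h h' fun v => ?_
    simp only [sX, pol_sub_left, pol_smul_left, pol_comm s p, pol_comm s r, pol_comm t p, pol_comm t r,
      e1, e2, e3, e4]
    module
  obtain ⟨p₂, r₂, s₂, t₂, hl, hl', hT, hT', hd, hD'⟩ : ∃ p₂ r₂ s₂ t₂, Line p₂ r₂ ∧ Line s₂ t₂ ∧
      T p r = T p₂ r₂ ∧ T s t = T s₂ t₂ ∧ pol r₂ t₂ ≠ 0 ∧
      pol p₂ s₂ * pol r₂ t₂ - pol p₂ t₂ * pol r₂ s₂ = 0 := by
    by_cases h4 : pol r t = 0
    swap
    · exact ⟨p, r, s, t, h, h', rfl, rfl, h4, hD⟩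
    by_cases h3 : pol r s = 0
    swap
    · exact ⟨p, r, t, s, h, (swap_line h').1, rfl, (swap_line h').2.symm, h3, by linear_combination -hD⟩
    by_cases h2 : pol p t = 0
    swap
    · exact ⟨r, p, s, t, (swap_line h).1, h', (swap_line h).2.symm, rfl, h2, by linear_combination -hD⟩
    refine ⟨r, p, t, s, (swap_line h).1, (swap_line h').1, (swap_line h).2.symm, (swap_line h').2.symm,
      fun h1 => h0 ⟨h1, h2, h3, h4⟩, by linear_combination hD⟩
  obtain ⟨d, hd'⟩ : ∃ d, d = pol r₂ t₂ := ⟨_, rfl⟩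
  rw [← hd'] at hd hD'
  obtain ⟨hl1, hT1⟩ := change hl (a := d) (b := -pol p₂ t₂) (c := 0) (d := 1) (by simpa using hd)
  obtain ⟨hl2, hT2⟩ := change hl' (a := d) (b := -pol r₂ s₂) (c := 0) (d := d⁻¹) (by simp [hd])
  obtain ⟨p₁, hp₁⟩ : ∃ p₁, p₁ = d • p₂ + (-pol p₂ t₂) • r₂ := ⟨_, rfl⟩
  obtain ⟨s₁, hs₁⟩ : ∃ s₁, s₁ = d • s₂ + (-pol r₂ s₂) • t₂ := ⟨_, rfl⟩
  rw [zero_smul, zero_add, one_smul, ← hp₁] at hl1 hT1
  rw [zero_smul, zero_add, ← hs₁] at hl2 hT2
  have ea : pol p₁ s₁ = 0 := by
    rw [hp₁, hs₁]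
    simp only [pol_add_left, pol_add_right, pol_smul_left, pol_smul_right, ← hd']
    linear_combination d * hD'
  have eb : pol p₁ (d⁻¹ • t₂) = 0 := by
    rw [hp₁]
    simp only [pol_add_left, pol_smul_left, pol_smul_right, ← hd']
    ring
  have ec : pol r₂ s₁ = 0 := by
    rw [hs₁]
    simp only [pol_add_right, pol_smul_right, ← hd']
    ring
  have ed : pol r₂ (d⁻¹ • t₂) = 1 := by
    simp only [pol_smul_right, ← hd']
    field_simp
  by_cases hli : LinearIndependent F ![s₁, p₁]
  · exact Or.inr ⟨p₁, r₂, s₁, d⁻¹ • t₂, hl1, hl2, hT.trans hT1.symm, hT'.trans hT2.symm, ea, eb, ec, ed, hli⟩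
  left
  have hp0 : p₁ ≠ 0 := by simpa using hl1.li.ne_zero 0
  obtain ⟨k, hk⟩ : ∃ k : F, k • p₁ = s₁ := by
    by_contra hne
    push Not at hne
    exact hli (LinearIndependent.pair_iff.mpr fun a b e => (LinearIndependent.pair_iff.mp
      ((LinearIndependent.pair_iff' hp0).mpr hne) b a (by rw [add_comm]; exact e)).symm)
  rw [hT.trans hT1.symm, hT'.trans hT2.symm]
  refine commute_of_maps hl1 hl2 fun v => ?_
  subst hk
  have ep : pol p₁ p₁ = 0 := by rw [pol_self, hl1.qp1, mul_zero]
  simp only [sX, pol_sub_left, pol_smul_left, pol_smul_right, pol_comm t₂ p₁, pol_comm t₂ r₂, pol_comm r₂ p₁,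
    hl1.pol12, ep]
  have e1 : pol p₁ t₂ * d⁻¹ = 0 := by rw [pol_smul_right] at eb; linear_combination eb
  have e2 : pol r₂ t₂ * d⁻¹ = 1 := by rw [pol_smul_right] at ed; linear_combination ed
  have e3 : pol p₁ t₂ = 0 := (mul_eq_zero.mp e1).resolve_right (inv_ne_zero hd)
  rw [e3]
  match_scalars <;> linear_combination (0 : F) * e2

theorem quad_pair {p r p' r' : Sp n F} (hq : Quad p r p' r') :
    (Cfsg.upperUnipotentSL2 F).map (sl2Hom hq) = T p r ∧
      (Cfsg.lowerUnipotentSL2 F).map (sl2Hom hq) = T r' p' := by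
  constructor
  · ext g
    rw [mem_T_quad hq]
    constructor
    · rintro ⟨_, hx, rfl⟩
      obtain ⟨a, rfl⟩ := mem_upper.mp hx
      exact ⟨a, rfl⟩
    · rintro ⟨a, rfl⟩
      exact ⟨_, mem_upper.mpr ⟨a, rfl⟩, rfl⟩
  · ext g
    rw [mem_T hq.swap.line]
    constructor
    · rintro ⟨_, hx, rfl⟩
      obtain ⟨b, rfl⟩ := mem_lower.mp hx
      exact ⟨b, act_yL hq b⟩
    · rintro ⟨b, e⟩
      exact ⟨_, mem_lower.mpr ⟨b, rfl⟩, act_ext fun v => by rw [act_yL, e]⟩

/-- The commutator case. -/
theorem commutator_formula {p r s t : Sp n F} (h : Line p r) (h' : Line s t)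
    (hps : pol p s = 0) (hpt : pol p t = 0) (hrs : pol r s = 0) (hrt : pol r t = 1) {x y z : O n F} {a b : F}
    (hx : ∀ v, act x v = v + a • sX p r v) (hy : ∀ v, act y v = v + b • sX s t v)
    (hz : ∀ v, act z v = v + (a * b) • sX s p v) : x * y = z * y * x := by
  refine act_ext fun v => ?_
  rw [act_mul, act_mul, act_mul, hx, hz, hy, hy, hx]
  have ep : pol p p = 0 := by rw [pol_self, h.qp1, mul_zero]
  have es : pol s s = 0 := by rw [pol_self, h'.qp1, mul_zero]
  simp only [sX, pol_add_left, pol_sub_left, pol_smul_left, pol_comm s p, pol_comm s r, pol_comm t p,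
    pol_comm t r, pol_comm r p, pol_comm t s, hps, hpt, hrs, hrt, h.pol12, h'.pol12, ep, es]
  module

/-- The rank one pairs in a subgroup. -/
theorem pair_in {p r p' r' : Sp n F} (hq : Quad p r p' r') (K : Subgroup (O n F))
    (h1 : T p r ≤ K) (h2 : T r' p' ≤ K) :
    Cfsg.IsRankOnePair ((T p r).subgroupOf K) ((T r' p').subgroupOf K) ∧
      Cfsg.IsPSL2PairOver F ((T p r).subgroupOf K) ((T r' p').subgroupOf K) := by
  obtain ⟨hu, hl⟩ := quad_pair hq
  have hK : ∀ g, sl2Hom hq g ∈ K := by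
    have h3 : Cfsg.upperUnipotentSL2 F ⊔ Cfsg.lowerUnipotentSL2 F ≤ K.comap (sl2Hom hq) :=
      sup_le (Subgroup.map_le_iff_le_comap.mp (hu ▸ h1)) (Subgroup.map_le_iff_le_comap.mp (hl ▸ h2))
    rw [upper_sup_lower] at h3
    exact fun g => h3 (Subgroup.mem_top g)
  set φ := (sl2Hom hq).codRestrict K hK
  have hker : φ.ker ≤ Subgroup.center (SpecialLinearGroup (Fin 2) F) := by
    intro g hg
    have : g ∈ (sl2Hom hq).ker := congrArg Subtype.val hg
    rw [sl2Hom_ker hq, Subgroup.mem_bot] at this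
    rw [this]; exact one_mem _
  have e : ∀ (U : Subgroup (SpecialLinearGroup (Fin 2) F)), U.map φ = (U.map (sl2Hom hq)).subgroupOf K := by
    intro U
    ext x
    rw [Subgroup.mem_subgroupOf]
    constructor
    · rintro ⟨u, hu, rfl⟩; exact ⟨u, hu, rfl⟩
    · rintro ⟨u, hu, e⟩; exact ⟨u, hu, Subtype.ext e⟩
  have eu : (Cfsg.upperUnipotentSL2 F).map φ = (T p r).subgroupOf K := by rw [e, hu]
  have el : (Cfsg.lowerUnipotentSL2 F).map φ = (T r' p').subgroupOf K := by rw [e, hl]
  refine ⟨?_, φ, ?_, hker, eu, el⟩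
  · have := isSpecial_of_hom (φ := φ) hker
    rw [eu, el] at this
    exact this.1
  · rw [← eu, ← el, ← Subgroup.map_sup, upper_sup_lower, MonoidHom.range_eq_map]

theorem opposite_common (hn : 3 ≤ n) {p r t : Sp n F} (h : Line p r) (h' : Line p t) :
    ∃ (x y : Sp n F) (c : F), Quad p r x y ∧ Quad p ((pol t y)⁻¹ • t + c • p) x y ∧ pol t y ≠ 0 := by
  obtain ⟨p', r', hq⟩ := exists_quad h
  obtain ⟨q1, q2, q3, q4, b12, b34, b13, b14, b23, b24⟩ := id hq
  obtain ⟨z, hzp, hzr, hzp', hzr', hz⟩ : ∃ z, pol z p = 0 ∧ pol z r = 0 ∧ pol z p' = 0 ∧ pol z r' = 0 ∧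
      pol t r' + pol t z - qp z * pol t r ≠ 0 := by
    by_cases h0 : pol t r' = 0
    swap
    · exact ⟨0, pol_zero_left _, pol_zero_left _, pol_zero_left _, pol_zero_left _,
        by simpa [qp, Cfsg.quadFormPlus, pol] using h0⟩
    by_contra hne
    push Not at hne
    let π : Sp n F → Sp n F := fun v => v - pol v p' • p - pol v p • p' - pol v r' • r - pol v r • r'
    have hπ : ∀ v, pol (π v) p = 0 ∧ pol (π v) r = 0 ∧ pol (π v) p' = 0 ∧ pol (π v) r' = 0 := by
      intro v
      simp only [π, pol_sub_left, pol_smul_left, pol_self, q1, q2, q3, q4, b12, b34, b13, b14, b23, b24,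
        pol_comm r p, pol_comm r' p', pol_comm p' p, pol_comm r' p, pol_comm p' r, pol_comm r' r]
      refine ⟨?_, ?_, ?_, ?_⟩ <;> ring
    have hf : ∀ z, pol z p = 0 → pol z r = 0 → pol z p' = 0 → pol z r' = 0 →
        pol t z = qp z * pol t r := fun z a b c d => by linear_combination hne z a b c d - h0
    have htr : pol t r = 0 := by
      by_contra htr
      let f : Sp n F →ₗ[F] (Fin 4 → F) :=
        { toFun := fun x => ![pol x p, pol x r, pol x p', pol x r']
          map_add' := fun x y => by ext i; fin_cases i <;> simp [pol_add_left]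
          map_smul' := fun c x => by ext i; fin_cases i <;> simp [pol_smul_left] }
      have hker : LinearMap.ker f ≠ ⊥ := LinearMap.ker_ne_bot_of_finrank_lt (by simp; omega)
      obtain ⟨z, hz, hz0⟩ := Submodule.exists_mem_ne_zero_of_ne_bot hker
      rw [LinearMap.mem_ker] at hz
      have z1 : pol z p = 0 := by simpa [f] using congrFun hz 0
      have z2 : pol z r = 0 := by simpa [f] using congrFun hz 1
      have z3 : pol z p' = 0 := by simpa [f] using congrFun hz 2
      have z4 : pol z r' = 0 := by simpa [f] using congrFun hz 3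
      apply hz0
      refine eq_zero_of_pol fun v => ?_
      obtain ⟨w1, w2, w3, w4⟩ := hπ v
      have e := hf (z + π v) (by rw [pol_add_left, z1, w1, add_zero]) (by rw [pol_add_left, z2, w2, add_zero])
        (by rw [pol_add_left, z3, w3, add_zero]) (by rw [pol_add_left, z4, w4, add_zero])
      rw [pol_add_right, hf z z1 z2 z3 z4, hf (π v) w1 w2 w3 w4, qp_add] at e
      have e' : pol z (π v) = 0 :=
        (mul_eq_zero.mp (show pol z (π v) * pol t r = 0 by linear_combination -e)).resolve_right htr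
      simp only [π, pol_sub_right, pol_smul_right, z1, z2, z3, z4] at e'
      linear_combination e'
    have htp : pol t p = 0 := by rw [pol_comm]; exact h'.pol12
    have : t = pol t p' • p := by
      rw [← sub_eq_zero]
      refine eq_zero_of_pol fun v => ?_
      obtain ⟨w1, w2, w3, w4⟩ := hπ v
      have e := hf (π v) w1 w2 w3 w4
      simp only [π, pol_sub_right, pol_smul_right, htr, htp, h0] at e
      rw [pol_sub_left, pol_smul_left, pol_comm p v]
      linear_combination e
    obtain ⟨κ, hκ⟩ : ∃ κ, κ = pol t p' := ⟨_, rfl⟩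
    rw [← hκ] at this
    obtain ⟨e1, -⟩ := LinearIndependent.pair_iff.mp h'.li (-κ) 1 (by rw [this]; module)
    have e2 : t = 0 := by rw [this, neg_eq_zero.mp e1, zero_smul]
    have e3 : t ≠ 0 := by simpa using h'.li.ne_zero 1
    exact e3 e2
  have hy1 : pol p (r' + z - qp z • r) = 0 := by
    simp only [pol_add_right, pol_sub_right, pol_smul_right, b14, b12, pol_comm p z, hzp]; ring
  have hy2 : pol p' (r' + z - qp z • r) = 0 := by
    simp only [pol_add_right, pol_sub_right, pol_smul_right, b34, pol_comm p' r, b23, pol_comm p' z, hzp']; ring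
  have hy3 : pol r (r' + z - qp z • r) = 1 := by
    simp only [pol_add_right, pol_sub_right, pol_smul_right, b24, pol_self, q2, pol_comm r z, hzr]; ring
  have hy4 : qp (r' + z - qp z • r) = 0 := by
    simp only [sub_eq_add_neg, ← neg_smul, qp_add, qp_smul, pol_add_left, pol_smul_right, q2, q4,
      pol_comm r' z, hzr', hzr, pol_comm r' r, b24]
    ring
  have hty : pol t (r' + z - qp z • r) = pol t r' + pol t z - qp z * pol t r := by
    simp only [pol_add_right, pol_sub_right, pol_smul_right]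
  obtain ⟨y, hy⟩ : ∃ y, y = r' + z - qp z • r := ⟨_, rfl⟩
  rw [← hy] at hy1 hy2 hy3 hy4 hty
  have hne : pol t y ≠ 0 := by rw [hty]; exact hz
  refine ⟨p', y, -((pol t y)⁻¹ * pol t p'), ⟨q1, q2, q3, hy4, b12, hy2, b13, hy1, b23, hy3⟩,
    ⟨q1, ?_, q3, hy4, ?_, hy2, b13, hy1, ?_, ?_⟩, hne⟩
  · simp only [qp_add, qp_smul, pol_smul_left, pol_smul_right, q1, h'.qp2, pol_comm t p, h'.pol12]; ring
  · simp only [pol_add_right, pol_smul_right, h'.pol12, pol_self, q1]; ring
  · simp only [pol_add_left, pol_smul_left, b13]; ring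
  · simp only [pol_add_left, pol_smul_left, hy1]; field_simp; ring

theorem main (hn : 3 ≤ n) :
    Cfsg.IsKRootSubgroupSet F ((fun A : Subgroup (O n F) => A.subgroupOf (⨆ B ∈ roots n F, B)) '' roots n F) ∧
      Cfsg.IsConnectedFamily (Cfsg.FAdj (roots n F)) (roots n F) := by
  set K : Subgroup (O n F) := ⨆ B ∈ roots n F, B with hKdef
  have hle : ∀ A ∈ roots n F, A ≤ K := fun A hA => le_biSup (fun B => B) hA
  have hcase : ∀ A ∈ roots n F, ∀ B ∈ roots n F,
      (Cfsg.IsRankOnePair (A.subgroupOf K) (B.subgroupOf K) ∧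
        Cfsg.IsPSL2PairOver F (A.subgroupOf K) (B.subgroupOf K)) ∨
      ⁅A.subgroupOf K, B.subgroupOf K⁆ = ⊥ ∨
      Cfsg.RootCommutatorCase ((fun C : Subgroup (O n F) => C.subgroupOf K) '' roots n F) (A.subgroupOf K)
        (B.subgroupOf K) := by
    intro A hA B hB
    obtain ⟨p, r, h, rfl⟩ := mem_roots.mp hA
    obtain ⟨s, t, h', rfl⟩ := mem_roots.mp hB
    rcases trichotomy h h' with ⟨p', r', hq, e⟩ | hc | ⟨p₁, r₁, s₁, t₁, hl, hl', e, e', ea, eb, ec, ed, hli⟩
    · left
      rw [e]
      exact pair_in hq K (hle _ hA) (e ▸ hle _ hB)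
    · right; left
      rw [Subgroup.commutator_eq_bot_iff_le_centralizer]
      intro x hx
      rw [Subgroup.mem_centralizer_iff]
      exact fun y hy => Subtype.ext (hc x (Subgroup.mem_subgroupOf.mp hx) y (Subgroup.mem_subgroupOf.mp hy)).symm
    · right; right
      rw [e] at hA ⊢
      rw [e'] at hB ⊢
      have hsp : Line s₁ p₁ := ⟨hli, hl'.qp1, hl.qp1, by rw [pol_comm]; exact ea⟩
      have hC : T s₁ p₁ ∈ roots n F := mem_roots.mpr ⟨s₁, p₁, hsp, rfl⟩
      have hcomm : ∀ x ∈ T p₁ r₁, ∀ y ∈ T s₁ t₁, ∀ a b : F, (∀ v, act x v = v + a • sX p₁ r₁ v) →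
          (∀ v, act y v = v + b • sX s₁ t₁ v) →
          x * y * x⁻¹ * y⁻¹ ∈ T s₁ p₁ ∧ ∀ v, act (x * y * x⁻¹ * y⁻¹) v = v + (a * b) • sX s₁ p₁ v := by
        intro x hx y hy a b ha hb
        obtain ⟨z, hz, hz'⟩ := exists_mem_T hsp (a * b)
        have := commutator_formula hl hl' ea eb ec ed ha hb hz'
        rw [show x * y * x⁻¹ * y⁻¹ = z by rw [this]; group]
        exact ⟨hz, hz'⟩
      have hne : ∀ {u w : Sp n F}, Line u w → ∀ x : K, (x : O n F) ∈ T u w → x ≠ 1 → ∀ a : F,
          (∀ v, act (x : O n F) v = v + a • sX u w v) → a ≠ 0 := by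
        intro u w _ x _ hx1 a ha e
        refine hx1 (Subtype.ext (act_ext fun v => ?_))
        rw [ha, e, zero_smul, add_zero]
        exact (act_one v).symm
      have h3 : ∀ x : K, (x : O n F) ∈ T p₁ r₁ → x ≠ 1 →
          Subgroup.closure ((fun y : K => x * y * x⁻¹ * y⁻¹) '' ((T s₁ t₁).subgroupOf K : Set K)) =
            (T s₁ p₁).subgroupOf K := by
        intro x hx hx1
        obtain ⟨a, ha⟩ := (mem_T hl).mp hx
        have ha0 := hne hl x hx hx1 a ha
        refine le_antisymm ((Subgroup.closure_le _).mpr ?_) fun z hz => ?_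
        · rintro _ ⟨y, hy, rfl⟩
          obtain ⟨b, hb⟩ := (mem_T hl').mp (Subgroup.mem_subgroupOf.mp hy)
          exact Subgroup.mem_subgroupOf.mpr (hcomm x hx y (Subgroup.mem_subgroupOf.mp hy) a b ha hb).1
        · obtain ⟨c, hc⟩ := (mem_T hsp).mp (Subgroup.mem_subgroupOf.mp hz)
          obtain ⟨y, hy, hy'⟩ := exists_mem_T hl' (a⁻¹ * c)
          refine Subgroup.subset_closure ⟨⟨y, hle _ hB hy⟩, Subgroup.mem_subgroupOf.mpr hy, Subtype.ext ?_⟩
          refine act_ext fun v => ?_
          rw [hc]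
          have := (hcomm x hx y hy a _ ha hy').2 v
          rw [← mul_assoc, mul_inv_cancel₀ ha0, one_mul] at this
          exact this
      have h4 : ∀ y : K, (y : O n F) ∈ T s₁ t₁ → y ≠ 1 →
          Subgroup.closure ((fun x : K => x * y * x⁻¹ * y⁻¹) '' ((T p₁ r₁).subgroupOf K : Set K)) =
            (T s₁ p₁).subgroupOf K := by
        intro y hy hy1
        obtain ⟨b, hb⟩ := (mem_T hl').mp hy
        have hb0 := hne hl' y hy hy1 b hb
        refine le_antisymm ((Subgroup.closure_le _).mpr ?_) fun z hz => ?_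
        · rintro _ ⟨x, hx, rfl⟩
          obtain ⟨a, ha⟩ := (mem_T hl).mp (Subgroup.mem_subgroupOf.mp hx)
          exact Subgroup.mem_subgroupOf.mpr (hcomm x (Subgroup.mem_subgroupOf.mp hx) y hy a b ha hb).1
        · obtain ⟨c, hc⟩ := (mem_T hsp).mp (Subgroup.mem_subgroupOf.mp hz)
          obtain ⟨x, hx, hx'⟩ := exists_mem_T hl (c * b⁻¹)
          refine Subgroup.subset_closure ⟨⟨x, hle _ hA hx⟩, Subgroup.mem_subgroupOf.mpr hx, Subtype.ext ?_⟩
          refine act_ext fun v => ?_
          rw [hc]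
          have := (hcomm x hx y hy _ b hx' hb).2 v
          rw [mul_assoc c b⁻¹ b, inv_mul_cancel₀ hb0, mul_one] at this
          exact this
      obtain ⟨x₁, hx₁, hx₁'⟩ := exists_mem_T hl 1
      have hK1 : ∀ {U : Subgroup (O n F)}, U ∈ roots n F → ∃ x : K, (x : O n F) ∈ U ∧ x ≠ 1 := by
        intro U hU
        obtain ⟨u, w, hu, rfl⟩ := mem_roots.mp hU
        obtain ⟨x, hx, hx1⟩ := (T u w).bot_or_exists_ne_one.resolve_left (T_ne_bot hu)
        exact ⟨⟨x, hle _ hU hx⟩, hx, fun e => hx1 (congrArg Subtype.val e)⟩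
      have heq : ⁅(T p₁ r₁).subgroupOf K, (T s₁ t₁).subgroupOf K⁆ = (T s₁ p₁).subgroupOf K := by
        refine le_antisymm (Subgroup.commutator_le.mpr fun x hx y hy => ?_) fun z hz => ?_
        · obtain ⟨a, ha⟩ := (mem_T hl).mp (Subgroup.mem_subgroupOf.mp hx)
          obtain ⟨b, hb⟩ := (mem_T hl').mp (Subgroup.mem_subgroupOf.mp hy)
          rw [commutatorElement_def, Subgroup.mem_subgroupOf]
          exact (hcomm x (Subgroup.mem_subgroupOf.mp hx) y (Subgroup.mem_subgroupOf.mp hy) a b ha hb).1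
        · obtain ⟨x, hx, hx1⟩ := hK1 hA
          rw [← h3 x hx hx1] at hz
          refine (Subgroup.closure_le _).mpr ?_ hz
          rintro _ ⟨y, hy, rfl⟩
          exact Subgroup.commutator_mem_commutator (Subgroup.mem_subgroupOf.mpr hx) hy
      refine ⟨heq ▸ ⟨_, hC, rfl⟩, ?_, fun x hx hx1 => heq ▸ h3 x (Subgroup.mem_subgroupOf.mp hx) hx1,
        fun y hy hy1 => heq ▸ h4 y (Subgroup.mem_subgroupOf.mp hy) hy1⟩
      rw [heq]
      have ep : pol p₁ p₁ = 0 := by rw [pol_self, hl.qp1, mul_zero]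
      have es : pol s₁ s₁ = 0 := by rw [pol_self, hl'.qp1, mul_zero]
      have c1 := commute_of_maps hsp hl fun v => by
        simp only [sX, pol_sub_left, pol_smul_left, pol_comm s₁ p₁, pol_comm s₁ r₁, pol_comm r₁ p₁, hl.pol12,
          ea, ec, ep]
        module
      have c2 := commute_of_maps hsp hl' fun v => by
        simp only [sX, pol_sub_left, pol_smul_left, pol_comm t₁ p₁, pol_comm s₁ p₁, pol_comm t₁ s₁, hl'.pol12,
          ea, eb, es]
        module
      intro z hz w hw
      have hz' : z ∈ Subgroup.centralizer ((((T p₁ r₁).subgroupOf K) ⊔ ((T s₁ t₁).subgroupOf K) : Subgroup K) : Set K) := by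
        have hsup : ((T p₁ r₁).subgroupOf K) ⊔ ((T s₁ t₁).subgroupOf K) ≤ Subgroup.centralizer {z} :=
          sup_le (fun x hx => Subgroup.mem_centralizer_singleton_iff.mpr (Subtype.ext
              (c1 z (Subgroup.mem_subgroupOf.mp hz) x (Subgroup.mem_subgroupOf.mp hx)).symm))
            (fun x hx => Subgroup.mem_centralizer_singleton_iff.mpr (Subtype.ext
              (c2 z (Subgroup.mem_subgroupOf.mp hz) x (Subgroup.mem_subgroupOf.mp hx)).symm))
        rw [Subgroup.mem_centralizer_iff]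
        intro x hx
        exact Subgroup.mem_centralizer_singleton_iff.mp (hsup hx)
      exact (Subgroup.mem_centralizer_iff.mp hz' w hw).symm
  refine ⟨⟨⟨?_, ?_, ?_, ?_, ?_⟩, ?_⟩, ?_⟩
  · rintro _ ⟨A, hA, rfl⟩
    obtain ⟨p, r, h, rfl⟩ := mem_roots.mp hA
    exact ⟨⟨fun x y => Subtype.ext (Subtype.ext
      (commute_of_maps h h (fun _ => rfl) _ (Subgroup.mem_subgroupOf.mp x.2) _ (Subgroup.mem_subgroupOf.mp y.2)))⟩⟩
  · rintro _ ⟨A, hA, rfl⟩ e
    obtain ⟨p, r, h, rfl⟩ := mem_roots.mp hA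
    obtain ⟨x, hx, hx1⟩ := (T p r).bot_or_exists_ne_one.resolve_left (T_ne_bot h)
    have : (⟨x, hle _ hA hx⟩ : K) ∈ (T p r).subgroupOf K := Subgroup.mem_subgroupOf.mpr hx
    rw [show (T p r).subgroupOf K = ⊥ from e, Subgroup.mem_bot] at this
    exact hx1 (congrArg Subtype.val this)
  · rw [eq_top_iff, ← (Subgroup.map_le_map_iff_of_injective K.subtype_injective)]
    rw [← MonoidHom.range_eq_map, Subgroup.range_subtype]
    simp only [Subgroup.map_iSup, iSup_image]
    rw [hKdef]
    refine iSup₂_mono fun A hA => ?_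
    rw [← hKdef, Subgroup.subgroupOf_map_subtype]
    exact le_inf le_rfl (hle A hA)
  · rintro _ ⟨A, hA, rfl⟩ g
    obtain ⟨p, r, h, rfl⟩ := mem_roots.mp hA
    obtain ⟨hl, e⟩ := conj_T h (g : O n F)
    refine ⟨_, mem_roots.mpr ⟨_, _, hl, e⟩, ?_⟩
    ext x
    rw [Subgroup.mem_subgroupOf, mem_conjBy, mem_conjBy, Subgroup.mem_subgroupOf]
    rfl
  · rintro _ ⟨A, hA, rfl⟩ _ ⟨B, hB, rfl⟩
    rcases hcase A hA B hB with h | h | h
    · exact Or.inr (Or.inl h.1)
    · exact Or.inl h
    · exact Or.inr (Or.inr h)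
  · rintro _ ⟨A, hA, rfl⟩ _ ⟨B, hB, rfl⟩ hpair
    rcases hcase A hA B hB with h | h | h
    · exact h.2
    · exact absurd h (commutator_ne_bot hpair)
    · exfalso
      obtain ⟨a, ha, ha1⟩ := exists_ne_one_left hpair
      obtain ⟨u, w, hu, rfl⟩ := mem_roots.mp hB
      exact false_of_central hpair (fun x hx y hy => Subtype.ext
          (commute_of_maps hu hu (fun _ => rfl) _ (Subgroup.mem_subgroupOf.mp hx) _ (Subgroup.mem_subgroupOf.mp hy)))
        ha ha1 fun x hx y hy => h.2.1 _ (mem_commutator_elem ha hx) y (Subgroup.mem_sup_right hy)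
  · intro A hA B hB
    obtain ⟨p, r, h, rfl⟩ := mem_roots.mp hA
    obtain ⟨s, t, h', rfl⟩ := mem_roots.mp hB
    have hpair : ∀ {u w u' w' : Sp n F}, Quad u w u' w' →
        Cfsg.FAdj (roots n F) (T u w) (T w' u') ∧ Cfsg.FAdj (roots n F) (T w' u') (T u w) := by
      intro u w u' w' hq
      have m1 : T u w ∈ roots n F := mem_roots.mpr ⟨_, _, hq.line, rfl⟩
      have m2 : T w' u' ∈ roots n F := mem_roots.mpr ⟨_, _, hq.swap.line, rfl⟩
      obtain ⟨eu, el⟩ := quad_pair hq
      have := (isSpecial_of_hom (φ := sl2Hom hq) (by rw [sl2Hom_ker hq]; exact bot_le)).1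
      rw [eu, el] at this
      exact ⟨⟨m1, m2, this⟩, ⟨m2, m1, Cfsg.RankOnePair_symm this⟩⟩
    have hshare : ∀ {u v w : Sp n F}, Line u v → Line u w →
        Relation.ReflTransGen (Cfsg.FAdj (roots n F)) (T u v) (T u w) := by
      intro u v w hv hw
      obtain ⟨x, y, c, hq, hq', hne⟩ := opposite_common hn hv hw
      obtain ⟨-, e⟩ := change hw (a := (1 : F)) (b := 0) (c := c) (d := (pol w y)⁻¹) (by simpa using hne)
      rw [one_smul, zero_smul, add_zero, add_comm] at e
      refine (Relation.ReflTransGen.single (hpair hq).1).tail ?_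
      rw [← e]
      exact (hpair hq').2
    -- a point of the second line orthogonal to `p`
    obtain ⟨s', t', h'', e, hps⟩ : ∃ s' t', Line s' t' ∧ T s' t' = T s t ∧ pol p s' = 0 := by
      by_cases hs : pol p s = 0
      · exact ⟨s, t, h', rfl, hs⟩
      · obtain ⟨hl, e⟩ := change h' (a := -pol p t) (b := pol p s) (c := (1 : F)) (d := 0) (by simpa using hs)
        exact ⟨_, _, hl, e, by simp only [pol_add_right, pol_smul_right]; ring⟩
    rw [← e]
    by_cases hli : LinearIndependent F ![p, s']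
    · have hm : Line p s' := ⟨hli, h.qp1, h''.qp1, hps⟩
      refine (hshare h hm).trans ?_
      obtain ⟨hm', em⟩ := swap_line hm
      rw [← em]
      exact hshare hm' h''
    · have hp0 : p ≠ 0 := by simpa using h.li.ne_zero 0
      obtain ⟨k, rfl⟩ : ∃ k : F, k • p = s' := by
        by_contra hne
        push Not at hne
        exact hli ((LinearIndependent.pair_iff' hp0).mpr hne)
      have hk : k ≠ 0 := fun e => by simpa [e] using h''.li.ne_zero 0
      obtain ⟨hl, e'⟩ := change h'' (a := k⁻¹) (b := 0) (c := 0) (d := 1) (by simpa using hk)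
      rw [zero_smul, add_zero, smul_smul, inv_mul_cancel₀ hk, one_smul, zero_smul, zero_add, one_smul] at hl e'
      rw [← e']
      exact hshare h hl

end Cfsg.Agent.Lib.RootSub.Siegel
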