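import Cfsg.Agent.Lib.RootSub.Transvections
import Cfsg.Agent.Lib.Classical.SympGroup

/-!
The transvection subgroups of `Sp_{2m}(F)`.
-/

namespace Cfsg.Agent.Lib.RootSub

open Matrix Cfsg.Agent.Lib.QuadPair Cfsg.Agent.Lib.Geometry Cfsg.Agent.Lib.Classical

variable {F : Type*} [Field F] {m : ℕ}

/-- `Sp_{2m}` inside the linear group. -/
noncomputable def spLin (m : ℕ) (F : Type*) [Field F] :
    Matrix.symplecticGroup (Fin m) F →* LinearMap.GeneralLinearGroup F (Fin m ⊕ Fin m → F) :=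
  Matrix.GeneralLinearGroup.toLin.toMonoidHom.comp (spToGL m F)

theorem spLin_apply (g : Matrix.symplecticGroup (Fin m) F) (v : Fin m ⊕ Fin m → F) :
    (spLin m F g : Module.End F (Fin m ⊕ Fin m → F)) v = g.1 *ᵥ v := rfl

theorem spLin_injective : Function.Injective (spLin m F) :=
  fun g h e => sp_ext fun x => by rw [← spLin_apply, ← spLin_apply, e]

/-- The pair of a vector: its form functional and itself. -/
noncomputable def symPair (p : Fin m ⊕ Fin m → F) :
    ((Fin m ⊕ Fin m → F) →ₗ[F] F) × (Fin m ⊕ Fin m → F) :=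
  ((sympBilin m F).flip p, p)

theorem symPair_apply (p v : Fin m ⊕ Fin m → F) :
    (symPair p).1 v = Cfsg.sympForm m F v p := sympBilin_apply v p

theorem symPair_ne {p : Fin m ⊕ Fin m → F} (hp : p ≠ 0) : (symPair p).1 ≠ 0 := by
  intro e
  obtain ⟨x, hx⟩ := exists_sympForm_eq_one hp
  have h := symPair_apply p x
  rw [e, LinearMap.zero_apply, sympForm_swap, hx] at h
  exact one_ne_zero (neg_eq_zero.mp h.symm)

/-- The pairs of the non-zero vectors. -/
def symPairs (m : ℕ) (F : Type*) [Field F] :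
    Set (((Fin m ⊕ Fin m → F) →ₗ[F] F) × (Fin m ⊕ Fin m → F)) :=
  {x | ∃ p : Fin m ⊕ Fin m → F, p ≠ 0 ∧ x = symPair p}

theorem spLin_spT (p : Fin m ⊕ Fin m → F) (c : F) :
    spLin m F (spT p c) = uni (c • tv (symPair p)) := by
  have h0 : (symPair p).1 (symPair p).2 = 0 := by rw [symPair_apply]; exact sympForm_self p
  refine Units.ext (LinearMap.ext fun v => ?_)
  rw [spLin_apply, coe_uni (smul_sq (tv_sq h0) c), spT_mulVec]
  simp [tv_apply, smul_smul, symPair, sympBilin_apply]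

theorem spSetting (m : ℕ) : TSetting (spLin (m + 1) F) (symPairs (m + 1) F) where
  inj := spLin_injective
  isotropic := by
    rintro _ ⟨p, -, rfl⟩
    rw [symPair_apply]; exact sympForm_self p
  left_ne := by
    rintro _ ⟨p, hp, rfl⟩
    exact symPair_ne hp
  right_ne := by
    rintro _ ⟨p, hp, rfl⟩
    exact hp
  range_le := by
    rintro _ ⟨p, -, rfl⟩ g hg
    obtain ⟨c, rfl⟩ := (mem_tgrp (by rw [symPair_apply]; exact sympForm_self p)).mp hg
    exact ⟨spT p c, spLin_spT p c⟩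
  closed := by
    rintro _ ⟨p, -, rfl⟩ _ ⟨r, -, rfl⟩ h1 h2
    refine absurd ?_ h1
    rw [symPair_apply] at h2 ⊢
    change Cfsg.sympForm _ F r p = 0
    change Cfsg.sympForm _ F p r = 0 at h2
    rw [sympForm_swap, h2, neg_zero]
  conj h := by
    rintro _ ⟨p, hp, rfl⟩
    refine ⟨symPair (h.1 *ᵥ p), ⟨_, fun e => hp ?_, rfl⟩, ?_⟩
    · rw [← sp_inv_mulVec_cancel h p, e, Matrix.mulVec_zero]
    · rw [conjBy_tgrp (by rw [symPair_apply]; exact sympForm_self p)]
      congr 1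
      refine Prod.ext (LinearMap.ext fun v => ?_) rfl
      rw [symPair_apply, LinearMap.comp_apply, symPair_apply, ← map_inv, spLin_apply, ← sp_form h (_ *ᵥ v) p,
        sp_mulVec_inv_cancel]
  middle := by
    rintro _ ⟨p, hp, rfl⟩ _ ⟨r, hr, rfl⟩
    obtain ⟨w, hw1, hw2⟩ := exists_two_ne_zero (symPair_ne hp) (symPair_ne hr)
    have hw : w ≠ 0 := fun e => hw1 (by rw [e, map_zero])
    have hs : ∀ u : Fin (m + 1) ⊕ Fin (m + 1) → F, (symPair u).1 w ≠ 0 → (symPair w).1 u ≠ 0 := fun u hu e => by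
      rw [symPair_apply] at hu e
      rw [sympForm_swap, e, neg_zero] at hu
      exact hu rfl
    exact ⟨symPair w, ⟨w, hw, rfl⟩, hw1, hs p hw1, hw2, hs r hw2⟩
  nonempty := ⟨_, Pi.single (Sum.inl 0) 1, by simp, rfl⟩
  generates := by
    refine sp_eq_top_of_transvections fun v c => ?_
    rcases eq_or_ne v 0 with rfl | hv
    · have : spT (0 : Fin (m + 1) ⊕ Fin (m + 1) → F) c = 1 := sp_ext fun x => by
        rw [spT_mulVec, smul_zero, add_zero, sp_one_mulVec]
      rw [this]; exact one_mem _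
    · refine le_iSup₂ (f := fun x _ => (tgrp x).comap (spLin (m + 1) F)) (symPair v) ⟨v, hv, rfl⟩ ?_
      rw [Subgroup.mem_comap, spLin_spT]
      exact uni_mem_tgrp _ _

theorem spSet_eq (m : ℕ) :
    {A : Subgroup ↥(Matrix.symplecticGroup (Fin (m + 1)) F) | ∃ p : Fin (m + 1) ⊕ Fin (m + 1) → F, p ≠ 0 ∧
        A = Subgroup.closure {g : ↥(Matrix.symplecticGroup (Fin (m + 1)) F) | ∃ c : F, ∀ v : Fin (m + 1) ⊕ Fin (m + 1) → F,
          (g : Matrix (Fin (m + 1) ⊕ Fin (m + 1)) (Fin (m + 1) ⊕ Fin (m + 1)) F) *ᵥ v =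
            v + (c * (v ⬝ᵥ (Matrix.J (Fin (m + 1)) F *ᵥ p))) • p}} =
      tset (spLin (m + 1) F) (symPairs (m + 1) F) := by
  have key : ∀ p : Fin (m + 1) ⊕ Fin (m + 1) → F,
      Subgroup.closure {g : ↥(Matrix.symplecticGroup (Fin (m + 1)) F) | ∃ c : F, ∀ v : Fin (m + 1) ⊕ Fin (m + 1) → F,
          (g : Matrix (Fin (m + 1) ⊕ Fin (m + 1)) (Fin (m + 1) ⊕ Fin (m + 1)) F) *ᵥ v =
            v + (c * (v ⬝ᵥ (Matrix.J (Fin (m + 1)) F *ᵥ p))) • p} =
        (tgrp (symPair p)).comap (spLin (m + 1) F) := by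
    intro p
    have h0 : (symPair p).1 (symPair p).2 = 0 := by rw [symPair_apply]; exact sympForm_self p
    refine le_antisymm ((Subgroup.closure_le _).mpr ?_) ?_
    · rintro g ⟨c, hc⟩
      have : g = spT p c := sp_ext fun v => by rw [hc v, spT_mulVec]; rfl
      rw [this, SetLike.mem_coe, Subgroup.mem_comap, spLin_spT]
      exact uni_mem_tgrp _ _
    · intro g hg
      obtain ⟨c, hc⟩ := (mem_tgrp h0).mp (Subgroup.mem_comap.mp hg)
      rw [← spLin_spT, spLin_injective.eq_iff] at hc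
      exact Subgroup.subset_closure ⟨c, fun v => by rw [hc, spT_mulVec]; rfl⟩
  ext A
  constructor
  · rintro ⟨p, hp, rfl⟩
    exact ⟨_, ⟨p, hp, rfl⟩, (key p).symm⟩
  · rintro ⟨_, ⟨p, hp, rfl⟩, rfl⟩
    exact ⟨p, hp, (key p).symm⟩

theorem spDegenerate (m : ℕ) :
    Cfsg.IsDegenerateRootSet (tset (spLin (m + 1) F) (symPairs (m + 1) F)) := by
  refine (spSetting m).degenerate ?_
  rintro _ ⟨p, -, rfl⟩ _ ⟨r, -, rfl⟩ h
  rw [symPair_apply] at h ⊢
  change Cfsg.sympForm _ F r p = 0 at h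
  change Cfsg.sympForm _ F p r = 0
  rw [sympForm_swap, h, neg_zero]

end Cfsg.Agent.Lib.RootSub
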