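import Cfsg.Agent.Lib.RootSub.Special

/-!
The diagonal subgroup moves the unipotent subgroups of a special rank one group.
-/

namespace Cfsg.Agent.Lib.RootSub

open Subgroup
open scoped commutatorElement

variable {G : Type*} [Group G] {A B : Subgroup G}

/-- In a braided pair with more than three elements, a subgroup absorbing all `[a, h]`, `h` in the
diagonal subgroup, contains `A`. -/
theorem IsBraided.left_le_of_diagonal (h : IsBraided A B) (h3 : 3 < ENat.card A) (D : Subgroup G)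
    (hcom : ∀ g ∈ Cfsg.rankOneDiagonal A B, ∀ z ∈ A, ⁅z, g⁆ ∈ D) : A ≤ D := by
  have hswap : ∀ {x c : G}, IsBraidPair A B x c → ∀ z ∈ A, (x * c * x) * z * (x * c * x)⁻¹ ∈ B :=
    fun hp z hz => (hp.swap_left h.pair h.comm_left).le (conj_mem_conjBy hz)
  have hn : ∀ {x c : G}, IsBraidPair A B x c → x * c * x ∈ A ⊔ B := fun hp =>
    mul_mem (mul_mem (mem_sup_left hp.1) (mem_sup_right hp.2.2.1)) (mem_sup_left hp.1)
  have hdiff : ∀ {x c y c' : G}, IsBraidPair A B x c → IsBraidPair A B y c' → ∀ z ∈ A,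
      (x * c * x)⁻¹ * (((x * c * x) * z * (x * c * x)⁻¹)⁻¹ * ((y * c' * y) * z * (y * c' * y)⁻¹)) *
        (x * c * x)⁻¹⁻¹ ∈ D := by
    intro x c y c' hp hq z hz
    have e : (x * c * x)⁻¹ * (((x * c * x) * z * (x * c * x)⁻¹)⁻¹ * ((y * c' * y) * z * (y * c' * y)⁻¹)) *
        (x * c * x)⁻¹⁻¹ = ⁅z⁻¹, (x * c * x)⁻¹ * (y * c' * y)⁆ := by
      simp only [commutatorElement_def]; group
    rw [e]
    refine hcom _ (Subgroup.mem_inf.mpr ⟨Subgroup.mem_inf.mpr ⟨mul_mem (inv_mem (hn hp)) (hn hq), ?_⟩, ?_⟩)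
      _ (inv_mem hz) <;> rw [← conjBy_eq_self_iff, ← conjBy_conjBy]
    · rw [hq.swap_left h.pair h.comm_left, conjBy_eq_iff, inv_inv, hp.swap_left h.pair h.comm_left]
    · rw [hq.swap_right h.pair h.comm_right, conjBy_eq_iff, inv_inv, hp.swap_right h.pair h.comm_right]
  by_contra hle
  -- the key congruence
  have key : ∀ x ∈ A, x ≠ 1 → ∀ y ∈ A, y ≠ 1 → x * y ∉ D → x * y * y ∈ D := by
    intro x hxA hx1 y hy hy1 hxy
    obtain ⟨c, hxc⟩ := h.exists_right x hxA hx1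
    set n := x * c * x with hndef
    have hnA : n ∈ A ⊔ B := hn hxc
    obtain ⟨d, hyd⟩ := h.exists_right y hy hy1
    have hw₀ : (x * y)⁻¹ ∈ A := inv_mem (mul_mem hxA hy)
    have hc₀ := hswap hxc _ hw₀
    rw [← hndef] at hc₀
    have hc₀1 : n * (x * y)⁻¹ * n⁻¹ ≠ 1 := fun e => hxy (by
      have : x * y = 1 := inv_eq_one.mp (conj_eq_one_iff.mp e)
      rw [this]; exact one_mem D)
    obtain ⟨w, hwp⟩ := h.exists_left _ hc₀ hc₀1
    have hwD : w⁻¹ * (x * y)⁻¹ ∈ D := by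
      -- `n w n⁻¹` is congruent to the partner of `w`
      have h1 := hdiff hxc hwp w hwp.1
      rw [hwp.swap_conj, ← hndef] at h1
      have h2 := h1
      have e : n⁻¹ * ((n * w * n⁻¹)⁻¹ * (n * (x * y)⁻¹ * n⁻¹)) * n⁻¹⁻¹ = w⁻¹ * (x * y)⁻¹ := by group
      rwa [e] at h2
    have hcd1 : c * d ≠ 1 := by
      intro e
      apply hxy
      have hq := hdiff hxc hyd y hy
      rw [hyd.swap_conj, ← hndef, ← inv_eq_of_mul_eq_one_right e, ← hxc.swap_conj] at hq
      have h2 := inv_mem hq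
      have e2 : (n⁻¹ * ((n * y * n⁻¹)⁻¹ * (n * x * n⁻¹)⁻¹) * n⁻¹⁻¹)⁻¹ = x * y := by group
      rw [← hndef, e2] at h2
      exact h2
    obtain ⟨v, hvp⟩ := h.exists_left (c * d) (mul_mem hxc.2.2.1 hyd.2.2.1) hcd1
    have hvD : v⁻¹ * (x * y) ∈ D := by
      have h1 := hdiff hxc hvp v hvp.1
      rw [hvp.swap_conj, ← hndef] at h1
      have h2 := hdiff hxc hyd y hy
      rw [hyd.swap_conj, ← hndef] at h2
      have e : v⁻¹ * (x * y) = n⁻¹ * ((n * v * n⁻¹)⁻¹ * (c * d)) * n⁻¹⁻¹ *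
          (n⁻¹ * ((n * y * n⁻¹)⁻¹ * d) * n⁻¹⁻¹)⁻¹ := by
        conv_rhs => rw [← hxc.swap_conj, ← hndef]
        group
      rw [e]
      exact mul_mem h1 (inv_mem h2)
    -- two computations of `A ^ (c d)`
    have e1 : Cfsg.conjBy A (c * d) = Cfsg.conjBy B (x⁻¹ * w⁻¹) := by
      rw [← conjBy_conjBy, hyd.conjBy_eq h.pair h.comm_left, conjBy_conjBy,
        show c * y⁻¹ = x⁻¹ * ((n * (x * y)⁻¹ * n⁻¹) * n) by rw [hndef, h.comm_left x hxA y hy]; group,
        ← conjBy_conjBy, ← conjBy_conjBy _ (n * (x * y)⁻¹ * n⁻¹), hndef,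
        hxc.swap_right h.pair h.comm_right, ← hndef, hwp.conjBy_eq h.pair h.comm_left, conjBy_conjBy]
    rw [hvp.conjBy_eq h.pair h.comm_left] at e1
    have e2 : v * (x⁻¹ * w⁻¹) = 1 := by
      refine eq_one_of_fix h.pair (mul_mem hvp.1 (mul_mem (inv_mem hxA) (inv_mem hwp.1))) ?_
      rw [← conjBy_conjBy, ← e1, conjBy_conjBy, mul_inv_cancel, conjBy_one]
    have e3 : v⁻¹ * (x * y) = x⁻¹ * ((w⁻¹ * (x * y)⁻¹) * (x * y) * (x * y)) := by
      rw [eq_inv_of_mul_eq_one_right e2 |>.symm]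
      group
    have e4 : v⁻¹ * (x * y) = (w⁻¹ * (x * y)⁻¹) * (x * y * y) := by
      rw [e3]
      have hcA : ∀ u ∈ A, x⁻¹ * u = u * x⁻¹ := fun u hu => h.comm_left _ (inv_mem hxA) _ hu
      rw [show (w⁻¹ * (x * y)⁻¹) * (x * y) * (x * y) = w⁻¹ * (x * y) by group,
        ← mul_assoc x⁻¹, hcA _ (inv_mem hwp.1)]
      group
    rw [e4] at hvD
    have := mul_mem (inv_mem hwD) hvD
    rwa [inv_mul_cancel_left] at this
  obtain ⟨x, hxA, hxD⟩ := SetLike.not_le_iff_exists.mp hle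
  have hx1 : x ≠ 1 := fun e => hxD (e ▸ one_mem D)
  by_cases hA0 : ∃ a ∈ A, a ∈ D ∧ a ≠ 1
  · obtain ⟨y, hy, hyD, hy1⟩ := hA0
    have hxy : x * y ∉ D := fun e => hxD (by simpa using mul_mem e (inv_mem hyD))
    exact hxD (by simpa using mul_mem (mul_mem (key x hxA hx1 y hy hy1 hxy) (inv_mem hyD)) (inv_mem hyD))
  · have htriv : ∀ a ∈ A, a ∈ D → a = 1 := by
      intro a ha haD
      by_contra h1
      exact hA0 ⟨a, ha, haD, h1⟩
    have h2 : ∀ x ∈ A, x ≠ 1 → ∀ y ∈ A, y ≠ 1 → x * y ≠ 1 → x * y * y = 1 := by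
      intro x hxA hx1 y hy hy1 hxy
      exact htriv _ (mul_mem (mul_mem hxA hy) hy)
        (key x hxA hx1 y hy hy1 fun e => hxy (htriv _ (mul_mem hxA hy) e))
    classical
    have hsub : (A : Set G) ⊆ ↑({1, x, x⁻¹} : Finset G) := by
      intro y hy
      simp only [Finset.coe_insert, Finset.coe_singleton, Set.mem_insert_iff, Set.mem_singleton_iff]
      by_cases hy1 : y = 1
      · exact Or.inl hy1
      by_cases hxy : x * y = 1
      · exact Or.inr (Or.inr (eq_inv_of_mul_eq_one_right hxy))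
      have hc := h.comm_left x hxA y hy
      have e1 := h2 x hxA hx1 y hy hy1 hxy
      have e2 := h2 y hy hy1 x hxA hx1 (hc ▸ hxy)
      rw [← hc, ← e1] at e2
      exact Or.inr (Or.inl (mul_left_cancel e2).symm)
    have : ENat.card A ≤ 3 := by
      change Set.encard (A : Set G) ≤ 3
      refine (Set.encard_mono hsub).trans ?_
      rw [Set.encard_coe_eq_coe_finsetCard]
      exact_mod_cast Finset.card_le_three
    exact absurd h3 (not_lt.mpr this)

end Cfsg.Agent.Lib.RootSub
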