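import Cfsg.Agent.Lib.RootSub.Special
import Cfsg.Agent.Lib.RootSub.SteinbergSL2

/-!
The subgroup generated by a braid pair of prime order is an image of `SL₂(p)`.
-/

set_option autoImplicit false

namespace Cfsg.Agent.Lib.RootSub

open Cfsg.Agent.S5016

variable {G : Type*} [Group G] {A B : Subgroup G}

theorem IsBraided.exponent_right (h : IsBraided A B) {p : ℕ} (hp : ∀ x ∈ A, x ^ p = 1) :
    ∀ y ∈ B, y ^ p = 1 := by
  intro y hy
  obtain ⟨a, ha, ha1⟩ := exists_ne_one_left h.pair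
  obtain ⟨c, hac⟩ := h.exists_right a ha ha1
  obtain ⟨z, hz, rfl⟩ : ∃ z ∈ A, (a * c * a) * z * (a * c * a)⁻¹ = y :=
    ⟨_, mem_conjBy.mp ((hac.swap_left h.pair h.comm_left).ge hy), by group⟩
  rw [conj_pow, hp z hz, mul_one, mul_inv_cancel]

theorem IsBraidPair.steinberg (h : IsBraided A B) {p : ℕ} [Fact p.Prime] (hp : ∀ x ∈ A, x ^ p = 1)
    {a c : G} (hac : IsBraidPair A B a c) :
    IsSteinbergPair (fun t : ZMod p => a ^ t.val) (fun s : ZMod p => c ^ (-s).val) := by
  have hcp := h.exponent_right hp c hac.2.2.1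
  have hap := hp a hac.1
  have hadd : ∀ {g : G}, g ^ p = 1 → ∀ s t : ZMod p, g ^ s.val * g ^ t.val = g ^ (s + t).val := by
    intro g hg s t
    rw [← pow_add, ZMod.val_add]
    exact pow_eq_pow_mod _ hg
  have hmul : ∀ {g : G}, g ^ p = 1 → ∀ s t : ZMod p, g ^ (s * t).val = (g ^ s.val) ^ t.val := by
    intro g hg s t
    rw [← pow_mul, ZMod.val_mul]
    exact (pow_eq_pow_mod _ hg).symm
  have hpair : ∀ t : ZMod p, t ≠ 0 → IsBraidPair A B (a ^ t.val) (c ^ t⁻¹.val) := by
    intro t ht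
    have hprime : p.Prime := Fact.out
    have hm1 : 1 ≤ t.val := Nat.one_le_iff_ne_zero.mpr fun e => ht ((ZMod.val_eq_zero t).mp e)
    have hk : ∀ k, 1 ≤ k → k < t.val → ∀ u ∈ A, u ^ k = 1 → u = 1 := by
      intro k h1 h2 u hu huk
      have hd := Nat.dvd_gcd (orderOf_dvd_of_pow_eq_one huk) (orderOf_dvd_of_pow_eq_one (hp u hu))
      have hcop : Nat.gcd k p = 1 := Nat.Coprime.symm ((Nat.Prime.coprime_iff_not_dvd hprime).mpr
        (Nat.not_dvd_of_pos_of_lt h1 (h2.trans (ZMod.val_lt t))))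
      rw [hcop, Nat.dvd_one, orderOf_eq_one_iff] at hd
      exact hd
    have ha1 : a ^ t.val ≠ 1 := by
      intro e
      apply hac.2.1
      have := hmul hap t t⁻¹
      rw [mul_inv_cancel₀ ht, ZMod.val_one, pow_one, e, one_pow] at this
      exact this
    obtain ⟨d, hd⟩ := h.exists_right _ (pow_mem hac.1 _) ha1
    have hdm := h.scaling t.val hm1 hk a c d hac hd
    have hdp := h.exponent_right hp d hd.2.2.1
    have : d = c ^ t⁻¹.val := by
      have e := hmul hdp t t⁻¹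
      rw [mul_inv_cancel₀ ht, ZMod.val_one, pow_one, hdm] at e
      exact e
    rwa [this] at hd
  have hconj : ∀ (N u v : G), N * u * N⁻¹ = v → ∀ k : ℕ, N * u ^ k * N⁻¹ = v ^ k := by
    intro N u v e k
    rw [← conj_pow, e]
  refine ⟨fun s t => hadd hap s t, fun s t => ?_, fun t ht u => ?_, fun t ht u => ?_⟩
  · show c ^ (-s).val * c ^ (-t).val = c ^ (-(s + t)).val
    rw [hadd hcp, neg_add]
  · have hP := hpair t ht
    have e := hconj _ _ _ hP.swap_conj (u / t).val
    rw [← hmul hap, ← hmul hcp, mul_div_cancel₀ u ht] at e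
    show (a ^ t.val * c ^ (-(-t⁻¹)).val * a ^ t.val) * a ^ u.val *
      (a ^ t.val * c ^ (-(-t⁻¹)).val * a ^ t.val)⁻¹ = c ^ (-(-(t⁻¹ ^ 2 * u))).val
    rw [neg_neg, neg_neg, e]
    congr 2
    field_simp
  · have hti : -t⁻¹ ≠ 0 := neg_ne_zero.mpr (inv_ne_zero ht)
    have hP := hpair (-t⁻¹) hti
    rw [inv_neg, inv_inv] at hP
    have e := hconj _ _ _ hP.swap_conj' (u / t).val
    rw [← hmul hap, ← hmul hcp, hP.2.2.2.2] at e
    show (c ^ (-t).val * a ^ (-t⁻¹).val * c ^ (-t).val) * c ^ (-u).val *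
      (c ^ (-t).val * a ^ (-t⁻¹).val * c ^ (-t).val)⁻¹ = a ^ (-(t⁻¹ ^ 2 * u)).val
    rw [show -t * (u / t) = -u by field_simp] at e
    rw [e]
    congr 2
    field_simp

/-- The image of `SL₂(p)` attached to a braid pair. -/
theorem IsBraidPair.exists_sl2_hom (h : IsBraided A B) {p : ℕ} [Fact p.Prime] (hp : ∀ x ∈ A, x ^ p = 1)
    {a c : G} (hac : IsBraidPair A B a c) :
    ∃ φ : Matrix.SpecialLinearGroup (Fin 2) (ZMod p) →* G,
      φ.range = Subgroup.closure {a, c⁻¹} ∧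
      (φ.ker = ⊥ ∨ φ.ker = Subgroup.center (Matrix.SpecialLinearGroup (Fin 2) (ZMod p))) := by
  obtain ⟨φ, hx, hy⟩ := exists_hom_sl2 (IsBraidPair.steinberg h hp hac)
  have hA : φ (up 1) = a := by rw [hx, ZMod.val_one, pow_one]
  have hC : φ (lo (-1)) = c := by rw [hy, neg_neg, ZMod.val_one, pow_one]
  have hgen := (Cfsg.Agent.S5016.result (ZMod p)).1.1
  have hlo : (Cfsg.lowerUnipotentSL2 (ZMod p)).map φ ≤ Subgroup.zpowers c := by
    rintro _ ⟨g, hg, rfl⟩
    obtain ⟨t, rfl⟩ := mem_lower.mp hg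
    rw [hy]
    exact pow_mem (Subgroup.mem_zpowers c) _
  have hrange : φ.range = Subgroup.closure {a, c⁻¹} := by
    apply le_antisymm
    · rw [MonoidHom.range_eq_map, ← hgen, Subgroup.map_sup, sup_le_iff]
      constructor
      · refine hlo.trans (Subgroup.zpowers_le.mpr ?_)
        have := inv_mem (Subgroup.subset_closure (by simp : c⁻¹ ∈ ({a, c⁻¹} : Set G)))
        rwa [inv_inv] at this
      · rintro _ ⟨g, hg, rfl⟩
        obtain ⟨t, rfl⟩ := mem_upper.mp hg
        rw [hx]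
        exact pow_mem (Subgroup.subset_closure (by simp)) _
    · rw [Subgroup.closure_le]
      rintro g (rfl | rfl)
      · exact ⟨_, hA⟩
      · exact ⟨(lo (-1))⁻¹, by rw [map_inv, hC]⟩
  refine ⟨φ, hrange, ?_⟩
  rcases normal_sup_or_central (Cfsg.Agent.S5016.result (ZMod p)).1 φ.ker inferInstance with hsup | hle
  · exfalso
    have hB : φ.range ≤ Subgroup.zpowers c := by
      rw [MonoidHom.range_eq_map, ← hsup, Subgroup.map_sup, (Subgroup.map_eq_bot_iff _).mpr le_rfl, bot_sup_eq]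
      exact hlo
    have haB : a ∈ B := Subgroup.zpowers_le.mpr hac.2.2.1 (hB ⟨_, hA⟩)
    exact hac.2.1 (eq_one_of_fix h.pair hac.1 (conjBy_of_mem haB))
  · rcases Subgroup.bot_or_exists_ne_one φ.ker with h0 | ⟨g, hg, hg1⟩
    · exact Or.inl h0
    · right
      refine le_antisymm hle fun z hz => ?_
      have hval : ∀ w ∈ Subgroup.center (Matrix.SpecialLinearGroup (Fin 2) (ZMod p)),
          (w : Matrix (Fin 2) (Fin 2) (ZMod p)) = 1 ∨ (w : Matrix (Fin 2) (Fin 2) (ZMod p)) = -1 := by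
        intro w hw
        obtain ⟨r, hr, hw'⟩ := Matrix.SpecialLinearGroup.mem_center_iff.mp hw
        rw [Fintype.card_fin, sq_eq_one_iff] at hr
        rcases hr with rfl | rfl
        · left; rw [← hw', map_one]
        · right; rw [← hw', map_neg, map_one]
      rcases hval z hz with hz1 | hz1
      · rw [show z = 1 from Subtype.ext hz1]; exact one_mem _
      · rcases hval g (hle hg) with hg2 | hg2
        · exact absurd (Subtype.ext hg2) hg1
        · rwa [show z = g from Subtype.ext (hz1.trans hg2.symm)]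

theorem IsBraidPair.closure_iso (h : IsBraided A B) {p : ℕ} [Fact p.Prime] (hp : ∀ x ∈ A, x ^ p = 1)
    {a c : G} (hac : IsBraidPair A B a c) :
    Nonempty (↥(Subgroup.closure ({a, c⁻¹} : Set G)) ≃* Matrix.SpecialLinearGroup (Fin 2) (ZMod p)) ∨
    Nonempty (↥(Subgroup.closure ({a, c⁻¹} : Set G)) ≃* Matrix.ProjectiveSpecialLinearGroup (Fin 2) (ZMod p)) := by
  obtain ⟨φ, hr, hk | hk⟩ := hac.exists_sl2_hom h hp
  · exact Or.inl ⟨((MonoidHom.ofInjective ((MonoidHom.ker_eq_bot_iff φ).mp hk)).trans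
      (MulEquiv.subgroupCongr hr)).symm⟩
  · exact Or.inr ⟨(((QuotientGroup.quotientMulEquivOfEq hk.symm).trans
      (QuotientGroup.quotientKerEquivRange φ)).trans (MulEquiv.subgroupCongr hr)).symm⟩

end Cfsg.Agent.Lib.RootSub
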