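import Cfsg.Agent.Lib.RootSub.RootSet

/-!
Three members `A, B, C` with `⁅A, B⁆`, `⁅B, C⁆` members and `A`, `C` commuting generate a nilpotent group.
-/

set_option autoImplicit false

namespace Cfsg.Agent.Lib.RootSub

open Subgroup
open scoped commutatorElement

variable {G : Type*} [Group G] {S : Set (Subgroup G)} {A B C : Subgroup G}

theorem closure_commutator_le {s : Set G} {M Z : Subgroup G} (h : ∀ x ∈ s, ∀ m ∈ M, ⁅x, m⁆ ∈ Z)
    (hn : Subgroup.closure s ≤ normalizer (Z : Set G)) : ⁅Subgroup.closure s, M⁆ ≤ Z := by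
  refine commutator_le.mpr fun x hx m hm => ?_
  induction hx using Subgroup.closure_induction with
  | mem y hy => exact h y hy m hm
  | one => simp
  | mul u v hu _ hu' hv' =>
    rw [show ⁅u * v, m⁆ = (u * ⁅v, m⁆ * u⁻¹) * ⁅u, m⁆ by simp only [commutatorElement_def]; group]
    exact mul_mem ((mem_normalizer_iff.mp (hn hu) _).mp hv') hu'
  | inv u hu hu' =>
    rw [show ⁅u⁻¹, m⁆ = u⁻¹ * ⁅u, m⁆⁻¹ * u⁻¹⁻¹ by simp only [commutatorElement_def]; group]
    exact (mem_normalizer_iff.mp (hn (inv_mem hu)) _).mp (inv_mem hu')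

theorem sup_commutator_le {H K M Z : Subgroup G} (hH : ⁅H, M⁆ ≤ Z) (hK : ⁅K, M⁆ ≤ Z)
    (hn : H ⊔ K ≤ normalizer (Z : Set G)) : ⁅H ⊔ K, M⁆ ≤ Z := by
  rw [Subgroup.sup_eq_closure] at hn ⊢
  refine closure_commutator_le (fun x hx m hm => ?_) hn
  rcases hx with hx | hx
  · exact hH (commutator_mem_commutator hx hm)
  · exact hK (commutator_mem_commutator hx hm)

theorem le_normalizer_of_centralizes {H Z : Subgroup G} (h : ∀ x ∈ H, ∀ z ∈ Z, x * z = z * x) :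
    H ≤ normalizer (Z : Set G) := fun x hx =>
  conjBy_eq_self_iff.mp (conjBy_of_commute fun z hz => h x hx z hz)

theorem centralizes_sup {H K Z : Subgroup G} (hH : ∀ x ∈ H, ∀ z ∈ Z, x * z = z * x)
    (hK : ∀ x ∈ K, ∀ z ∈ Z, x * z = z * x) : ∀ x ∈ H ⊔ K, ∀ z ∈ Z, x * z = z * x := by
  intro x hx z hz
  have hle : H ⊔ K ≤ centralizer ({z} : Set G) := by
    refine sup_le ?_ ?_ <;> intro y hy <;> rw [mem_centralizer_singleton_iff]
    · exact hH y hy z hz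
    · exact hK y hy z hz
  exact mem_centralizer_singleton_iff.mp (hle hx)

/-- A member commuting with a pair of members that it can be shifted into does not occur. -/
theorem not_pair_of_shift (hS : Cfsg.IsRootSubgroupSet S) {P Q Q₀ F : Subgroup G} (hP : P ∈ S) (hQ : Q ∈ S)
    (hQ₀ : Q₀ ∈ S) (hF : F ∈ S) {b : G}
    (hcent : ∀ x ∈ P ⊔ Q, ∀ y ∈ Q₀, x * y = y * x)
    (hconj : ∀ y ∈ Q₀, b⁻¹ * y * b ∈ Q ∧ y⁻¹ * (b⁻¹ * y * b) ∈ F) :
    ¬ Cfsg.IsRankOnePair P Q := by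
  intro h
  obtain ⟨y, hy, hy1⟩ := (bot_or_exists_ne_one Q₀).resolve_left (hS.ne_bot Q₀ hQ₀)
  obtain ⟨h1, h2⟩ := hconj y hy
  have hq1 : b⁻¹ * y * b ≠ 1 := fun e => hy1 (by
    have e' : y = b * (b⁻¹ * y * b) * b⁻¹ := by group
    rw [e', e]; group)
  refine hy1 (inv_eq_one.mp (shift hS hQ hP (Cfsg.RankOnePair_symm h) h1 hq1 ?_ hF h2).1)
  intro x hx
  have := hcent x (by rwa [sup_comm]) y⁻¹ (inv_mem hy)
  exact this.symm

/-- A pair of members which is not a rank one pair generates a group of class at most two. -/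
theorem class_two_of_not_pair (hS : Cfsg.IsRootSubgroupSet S) {P Q : Subgroup G} (hP : P ∈ S) (hQ : Q ∈ S)
    (h : ¬ Cfsg.IsRankOnePair P Q) :
    ⁅P ⊔ Q, P ⊔ Q⁆ ≤ ⁅P, Q⁆ ∧ (∀ x ∈ P ⊔ Q, ∀ z ∈ ⁅P, Q⁆, x * z = z * x) ∧
      (⁅P, Q⁆ = ⊥ → IsMulCommutative ↥(P ⊔ Q)) := by
  have hz : ∀ x ∈ P ⊔ Q, ∀ z ∈ ⁅P, Q⁆, x * z = z * x := by
    rcases hS.pair P hP Q hQ with h0 | h0 | h0
    · intro x _ z hz
      rw [h0, mem_bot] at hz
      rw [hz, mul_one, one_mul]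
    · exact absurd h0 h
    · exact fun x hx z hz => (h0.2.1 z hz x hx).symm
  have hbot : ∀ {R : Subgroup G}, R ∈ S → ⁅R, R⁆ ≤ (⊥ : Subgroup G) := fun hR =>
    commutator_le.mpr fun x hx y hy => mem_bot.mpr
      (commutatorElement_eq_one_iff_mul_comm.mpr (comm_of_mem hS hR hx hy))
  have hn := le_normalizer_of_centralizes hz
  have h1 : ⁅P ⊔ Q, P ⊔ Q⁆ ≤ ⁅P, Q⁆ := by
    refine sup_commutator_le ?_ ?_ hn <;> rw [Subgroup.commutator_comm] <;> refine sup_commutator_le ?_ ?_ hn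
    · exact (hbot hP).trans bot_le
    · rw [Subgroup.commutator_comm]
    · exact le_rfl
    · exact (hbot hQ).trans bot_le
  refine ⟨h1, hz, fun e => ⟨⟨fun u v => Subtype.ext ?_⟩⟩⟩
  exact commutatorElement_eq_one_iff_mul_comm.mp
    (mem_bot.mp (e ▸ h1 (commutator_mem_commutator u.2 v.2)))

theorem case_member_le (hc : Cfsg.RootCommutatorCase S A B) {b : G} (hb : b ∈ B) (hb1 : b ≠ 1) :
    ⁅A, B⁆ ≤ A ⊔ Cfsg.conjBy A b⁻¹ ∧ Cfsg.conjBy A b⁻¹ ≤ A ⊔ ⁅A, B⁆ := by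
  refine ⟨?_, fun x hx => ?_⟩
  · rw [← hc.2.2.2 b⁻¹ (inv_mem hb) (inv_ne_one.mpr hb1), closure_le]
    rintro _ ⟨a, ha, rfl⟩
    show a * b⁻¹ * a⁻¹ * b⁻¹⁻¹ ∈ A ⊔ Cfsg.conjBy A b⁻¹
    rw [show a * b⁻¹ * a⁻¹ * b⁻¹⁻¹ = a * (b⁻¹ * a⁻¹ * b⁻¹⁻¹) by group]
    exact mul_mem (mem_sup_left ha) (mem_sup_right (conj_mem_conjBy (inv_mem ha)))
  · have hx' := mem_conjBy.mp hx
    rw [inv_inv] at hx'
    have e : x = (b * x * b⁻¹) * ⁅(b * x * b⁻¹)⁻¹, b⁻¹⁆ := by simp only [commutatorElement_def]; group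
    rw [e]
    exact mul_mem (mem_sup_left hx')
      (mem_sup_right (commutator_mem_commutator (inv_mem hx') (inv_mem hb)))

theorem three_chain (hS : Cfsg.IsRootSubgroupSet S)
    (hA : A ∈ S) (hB : B ∈ S) (hC : C ∈ S) (hAB : ⁅A, B⁆ ∈ S) (hBC : ⁅B, C⁆ ∈ S)
    (hAC : ⁅A, C⁆ = ⊥) {b : G} (hb : b ∈ B) (hb1 : b ≠ 1) :
    ((IsMulCommutative ↥(A ⊔ Cfsg.conjBy C b⁻¹) ∧ IsMulCommutative ↥(Cfsg.conjBy A b⁻¹ ⊔ C)) ∨
      ((¬ IsMulCommutative ↥(A ⊔ Cfsg.conjBy C b⁻¹) ∧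
          ⁅⁅A ⊔ Cfsg.conjBy C b⁻¹, A ⊔ Cfsg.conjBy C b⁻¹⁆, A ⊔ Cfsg.conjBy C b⁻¹⁆ = ⊥) ∧
        (¬ IsMulCommutative ↥(Cfsg.conjBy A b⁻¹ ⊔ C) ∧
          ⁅⁅Cfsg.conjBy A b⁻¹ ⊔ C, Cfsg.conjBy A b⁻¹ ⊔ C⁆, Cfsg.conjBy A b⁻¹ ⊔ C⁆ = ⊥))) ∧
    ⁅A ⊔ Cfsg.conjBy C b⁻¹, Cfsg.conjBy A b⁻¹ ⊔ C⁆ = ⊥ ∧
    (∀ r ∈ A ⊔ B ⊔ C, Cfsg.conjBy ((A ⊔ Cfsg.conjBy C b⁻¹) ⊔ (Cfsg.conjBy A b⁻¹ ⊔ C)) r =
      (A ⊔ Cfsg.conjBy C b⁻¹) ⊔ (Cfsg.conjBy A b⁻¹ ⊔ C)) ∧
    ((A ⊔ Cfsg.conjBy C b⁻¹) ⊔ (Cfsg.conjBy A b⁻¹ ⊔ C)) ⊔ B = A ⊔ B ⊔ C ∧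
    Group.IsNilpotent ↥(A ⊔ B ⊔ C) := by
  have hcAB := rootCase_of_commutator_mem hS hA hB hAB
  have hcBC := rootCase_of_commutator_mem hS hB hC hBC
  have hcCB := rootCase_symm hcBC
  have hCB : ⁅C, B⁆ = ⁅B, C⁆ := Subgroup.commutator_comm C B
  obtain ⟨hDle, hA'le⟩ := case_member_le hcAB hb hb1
  obtain ⟨hEle, hC'le⟩ := case_member_le hcCB hb hb1
  rw [hCB] at hEle hC'le
  set A' := Cfsg.conjBy A b⁻¹ with hA'def
  set C' := Cfsg.conjBy C b⁻¹ with hC'def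
  set D := ⁅A, B⁆ with hDdef
  set E := ⁅B, C⁆ with hEdef
  have hA'S : A' ∈ S := hS.conj_mem A hA _
  have hC'S : C' ∈ S := hS.conj_mem C hC _
  -- the two halves commute
  have cAD : ∀ x ∈ A, ∀ z ∈ D, x * z = z * x := fun x hx z hz => (hcAB.2.1 z hz x (mem_sup_left hx)).symm
  have cBD : ∀ x ∈ B, ∀ z ∈ D, x * z = z * x := fun x hx z hz => (hcAB.2.1 z hz x (mem_sup_right hx)).symm
  have cCE : ∀ x ∈ C, ∀ z ∈ E, x * z = z * x := fun x hx z hz => (hcBC.2.1 z hz x (mem_sup_right hx)).symm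
  have cBE : ∀ x ∈ B, ∀ z ∈ E, x * z = z * x := fun x hx z hz => (hcBC.2.1 z hz x (mem_sup_left hx)).symm
  have cAC : ∀ x ∈ A, ∀ z ∈ C, x * z = z * x := fun x hx z hz => commute_of_commutator_eq_bot hAC hx hz
  have cAA' : ∀ x ∈ A, ∀ z ∈ A', x * z = z * x := fun x hx z hz =>
    (centralizes_sup (fun y hy w hw => comm_of_mem hS hA hy hw) (fun y hy w hw => (cAD w hw y hy).symm)
      z (hA'le hz) x hx).symm
  have cCC' : ∀ x ∈ C, ∀ z ∈ C', x * z = z * x := fun x hx z hz =>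
    (centralizes_sup (fun y hy w hw => comm_of_mem hS hC hy hw) (fun y hy w hw => (cCE w hw y hy).symm)
      z (hC'le hz) x hx).symm
  have cA'C' : ∀ x ∈ A', ∀ z ∈ C', x * z = z * x := by
    intro x hx z hz
    have := cAC _ (mem_conjBy.mp hx) _ (mem_conjBy.mp hz)
    simp only [inv_inv] at this
    have e : (b⁻¹ * ((b * x * b⁻¹) * (b * z * b⁻¹)) * b) = b⁻¹ * ((b * z * b⁻¹) * (b * x * b⁻¹)) * b := by
      rw [this]
    simpa [mul_assoc] using e
  have hXY : ∀ x ∈ A ⊔ C', ∀ y ∈ A' ⊔ C, x * y = y * x := by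
    intro x hx y hy
    refine centralizes_sup ?_ ?_ x hx y hy <;> intro u hu v hv <;> refine (centralizes_sup ?_ ?_ v hv u hu).symm <;>
      intro w hw z hz
    · exact (cAA' z hz w hw).symm
    · exact (cAC z hz w hw).symm
    · exact cA'C' w hw z hz
    · exact cCC' w hw z hz
  have hXYbot : ⁅A ⊔ C', A' ⊔ C⁆ = ⊥ := le_bot_iff.mp (commutator_le.mpr fun x hx y hy =>
    mem_bot.mpr (commutatorElement_eq_one_iff_mul_comm.mpr (hXY x hx y hy)))
  -- neither half is a rank one pair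
  have npX : ¬ Cfsg.IsRankOnePair A C' := by
    refine not_pair_of_shift hS (b := b) hA hC'S hC hBC (fun x hx y hy => hXY x hx y (mem_sup_right hy)) fun y hy =>
      ⟨by rw [hC'def, mem_conjBy]; simpa [mul_assoc] using hy, ?_⟩
    rw [hEdef, Subgroup.commutator_comm, show y⁻¹ * (b⁻¹ * y * b) = ⁅y⁻¹, b⁻¹⁆ by simp [commutatorElement_def, mul_assoc]]
    exact commutator_mem_commutator (inv_mem hy) (inv_mem hb)
  have npY : ¬ Cfsg.IsRankOnePair C A' := by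
    refine not_pair_of_shift hS (b := b) hC hA'S hA hAB
      (fun x hx y hy => (hXY y (mem_sup_left hy) x (by rwa [sup_comm])).symm) fun y hy =>
      ⟨by rw [hA'def, mem_conjBy]; simpa [mul_assoc] using hy, ?_⟩
    rw [show y⁻¹ * (b⁻¹ * y * b) = ⁅y⁻¹, b⁻¹⁆ by simp [commutatorElement_def, mul_assoc]]
    exact commutator_mem_commutator (inv_mem hy) (inv_mem hb)
  obtain ⟨hX1, hX2, hX3⟩ := class_two_of_not_pair hS hA hC'S npX
  obtain ⟨hY1, hY2, hY3⟩ := class_two_of_not_pair hS hC hA'S npY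
  rw [sup_comm C A'] at hY1 hY2 hY3
  -- `[A, E]` and `[C, D]` vanish together
  have hAE : ⁅A, C'⁆ = ⊥ ↔ ⁅A, E⁆ = ⊥ := by
    constructor <;> intro h <;> rw [eq_bot_iff, commutator_le] <;> intro x hx y hy <;>
      rw [mem_bot, commutatorElement_eq_one_iff_mul_comm]
    · exact (centralizes_sup (fun u hu v hv => (cAC v hv u hu).symm)
        (fun u hu v hv => (commute_of_commutator_eq_bot h hv hu).symm) y (hEle hy) x hx).symm
    · exact (centralizes_sup (fun u hu v hv => (cAC v hv u hu).symm)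
        (fun u hu v hv => (commute_of_commutator_eq_bot h hv hu).symm) y (hC'le hy) x hx).symm
  have hCD : ⁅C, A'⁆ = ⊥ ↔ ⁅C, D⁆ = ⊥ := by
    constructor <;> intro h <;> rw [eq_bot_iff, commutator_le] <;> intro x hx y hy <;>
      rw [mem_bot, commutatorElement_eq_one_iff_mul_comm]
    · exact (centralizes_sup (fun u hu v hv => cAC u hu v hv)
        (fun u hu v hv => (commute_of_commutator_eq_bot h hv hu).symm) y (hDle hy) x hx).symm
    · exact (centralizes_sup (fun u hu v hv => cAC u hu v hv)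
        (fun u hu v hv => (commute_of_commutator_eq_bot h hv hu).symm) y (hA'le hy) x hx).symm
  have three : ⁅A, E⁆ = ⊥ ↔ ⁅C, D⁆ = ⊥ := by
    constructor <;> intro h
    · rw [Subgroup.commutator_comm C D, hDdef]
      refine Subgroup.commutator_commutator_eq_bot_of_rotate ?_ ?_
      · rw [← hEdef, Subgroup.commutator_comm]; exact h
      · rw [Subgroup.commutator_comm C A, hAC, Subgroup.commutator_bot_left]
    · rw [Subgroup.commutator_comm A E, hEdef]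
      refine Subgroup.commutator_commutator_eq_bot_of_rotate ?_ ?_
      · rw [Subgroup.commutator_comm C A, hAC, Subgroup.commutator_bot_left]
      · rw [← hDdef, Subgroup.commutator_comm]; exact h
  have hdich : (IsMulCommutative ↥(A ⊔ C') ∧ IsMulCommutative ↥(A' ⊔ C)) ∨
      ((¬ IsMulCommutative ↥(A ⊔ C') ∧ ⁅⁅A ⊔ C', A ⊔ C'⁆, A ⊔ C'⁆ = ⊥) ∧
        (¬ IsMulCommutative ↥(A' ⊔ C) ∧ ⁅⁅A' ⊔ C, A' ⊔ C⁆, A' ⊔ C⁆ = ⊥)) := by
    by_cases h : ⁅A, E⁆ = ⊥
    · exact Or.inl ⟨hX3 (hAE.mpr h), hY3 (hCD.mpr (three.mp h))⟩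
    · refine Or.inr ⟨⟨fun hc => h (hAE.mp ?_), ?_⟩, fun hc => h (three.mpr (hCD.mp ?_)), ?_⟩
      · exact le_bot_iff.mp (commutator_le.mpr fun x hx y hy => mem_bot.mpr
          (commutatorElement_eq_one_iff_mul_comm.mpr
            (congrArg Subtype.val (hc.is_comm.comm ⟨x, mem_sup_left hx⟩ ⟨y, mem_sup_right hy⟩))))
      · exact le_bot_iff.mp (commutator_le.mpr fun z hz y hy => mem_bot.mpr
          (commutatorElement_eq_one_iff_mul_comm.mpr (hX2 y hy z (hX1 hz)).symm))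
      · exact le_bot_iff.mp (commutator_le.mpr fun x hx y hy => mem_bot.mpr
          (commutatorElement_eq_one_iff_mul_comm.mpr
            (congrArg Subtype.val (hc.is_comm.comm ⟨x, mem_sup_right hx⟩ ⟨y, mem_sup_left hy⟩))))
      · exact le_bot_iff.mp (commutator_le.mpr fun z hz y hy => mem_bot.mpr
          (commutatorElement_eq_one_iff_mul_comm.mpr (hY2 y hy z (hY1 hz)).symm))
  -- the product
  set N := (A ⊔ C') ⊔ (A' ⊔ C) with hN
  have hAN : A ≤ N := le_sup_of_le_left le_sup_left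
  have hCN : C ≤ N := le_sup_of_le_right le_sup_right
  have hDN : D ≤ N := hDle.trans (sup_le hAN (le_sup_of_le_right le_sup_left))
  have hEN : E ≤ N := hEle.trans (sup_le hCN (le_sup_of_le_left le_sup_right))
  have hNeq : N = (A ⊔ D) ⊔ (C ⊔ E) := le_antisymm
    (sup_le (sup_le (le_sup_of_le_left le_sup_left) (hC'le.trans le_sup_right))
      (sup_le (hA'le.trans le_sup_left) (le_sup_of_le_right le_sup_left)))
    (sup_le (sup_le hAN hDN) (sup_le hCN hEN))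
  have hconjle : ∀ r ∈ B, Cfsg.conjBy N r ≤ N := by
    intro r hr
    have hA1 : Cfsg.conjBy A r ≤ A ⊔ D := fun x hx => by
      have hx' := mem_conjBy.mp hx
      rw [show x = ⁅r, r⁻¹ * x * r⁆ * (r⁻¹ * x * r) by simp only [commutatorElement_def]; group]
      refine mul_mem (mem_sup_right ?_) (mem_sup_left hx')
      rw [hDdef, Subgroup.commutator_comm]
      exact commutator_mem_commutator hr hx'
    have hC1 : Cfsg.conjBy C r ≤ C ⊔ E := fun x hx => by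
      have hx' := mem_conjBy.mp hx
      rw [show x = ⁅r, r⁻¹ * x * r⁆ * (r⁻¹ * x * r) by simp only [commutatorElement_def]; group]
      exact mul_mem (mem_sup_right (commutator_mem_commutator hr hx')) (mem_sup_left hx')
    rw [hNeq, conjBy_sup, conjBy_sup, conjBy_sup, conjBy_of_commute (A := D) (fun z hz => cBD r hr z hz),
      conjBy_of_commute (A := E) (fun z hz => cBE r hr z hz)]
    exact sup_le (sup_le (hA1.trans le_sup_left) (le_sup_of_le_left le_sup_right))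
      (sup_le (hC1.trans le_sup_right) (le_sup_of_le_right le_sup_right))
  have hBn : B ≤ normalizer (N : Set G) := fun r hr => conjBy_eq_self_iff.mp (le_antisymm (hconjle r hr) (by
    have := conjBy_mono (hconjle r⁻¹ (inv_mem hr)) r
    rwa [conjBy_conjBy, mul_inv_cancel, conjBy_one] at this))
  have hRn : A ⊔ B ⊔ C ≤ normalizer (N : Set G) :=
    sup_le (sup_le (hAN.trans le_normalizer) hBn) (hCN.trans le_normalizer)
  have hReq : N ⊔ B = A ⊔ B ⊔ C := by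
    have hA'R : ∀ {P : Subgroup G}, P ≤ A ⊔ B ⊔ C → Cfsg.conjBy P b⁻¹ ≤ A ⊔ B ⊔ C := fun hP =>
      conjBy_le_of_le hP (inv_mem (mem_sup_left (mem_sup_right hb)))
    refine le_antisymm (sup_le (sup_le (sup_le ?_ ?_) (sup_le ?_ ?_)) ?_) (sup_le (sup_le ?_ ?_) ?_)
    · exact le_sup_of_le_left le_sup_left
    · exact hA'R le_sup_right
    · exact hA'R (le_sup_of_le_left le_sup_left)
    · exact le_sup_right
    · exact le_sup_of_le_left le_sup_right
    · exact le_sup_of_le_left hAN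
    · exact le_sup_right
    · exact le_sup_of_le_left hCN
  -- the derived group of `N` is central in it
  set Z₀ := ⁅A, C'⁆ ⊔ ⁅C, A'⁆ with hZ₀
  have hZ₀c : ∀ x ∈ N, ∀ z ∈ Z₀, x * z = z * x := by
    intro x hx z hz
    have hFX : ⁅A, C'⁆ ≤ A ⊔ C' :=
      (commutator_mono le_sup_left le_sup_right).trans (commutator_le_self _)
    have hFY : ⁅C, A'⁆ ≤ A' ⊔ C :=
      (commutator_mono le_sup_right le_sup_left).trans (commutator_le_self _)
    refine (centralizes_sup ?_ ?_ z hz x hx).symm <;> intro u hu v hv <;>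
      refine (centralizes_sup ?_ ?_ v hv u hu).symm <;> intro p hp q hq
    · exact hX2 p hp q hq
    · exact (hXY q (hFX hq) p hp).symm
    · exact hXY p hp q (hFY hq)
    · exact hY2 p hp q hq
  have hNN : ⁅N, N⁆ ≤ Z₀ := by
    have hn := le_normalizer_of_centralizes hZ₀c
    refine sup_commutator_le ?_ ?_ hn <;> rw [Subgroup.commutator_comm] <;> refine sup_commutator_le ?_ ?_ hn
    · exact hX1.trans le_sup_left
    · rw [Subgroup.commutator_comm, hXYbot]; exact bot_le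
    · rw [hXYbot]; exact bot_le
    · exact hY1.trans le_sup_right
  set Z := ⁅N, N⁆ with hZ
  have hZc : ∀ x ∈ N, ∀ z ∈ Z, x * z = z * x := fun x hx z hz => hZ₀c x hx z (hNN hz)
  have hZN : Z ≤ N := commutator_le_self _
  set T := ⁅D ⊔ E, D ⊔ E⁆ with hT
  have hDEN : D ⊔ E ≤ N := sup_le hDN hEN
  have hTZ : T ≤ Z := commutator_mono hDEN hDEN
  have cBDE : ∀ x ∈ B, ∀ z ∈ D ⊔ E, x * z = z * x := fun x hx z hz =>
    (centralizes_sup (fun u hu v hv => (cBD v hv u hu).symm) (fun u hu v hv => (cBE v hv u hu).symm) z hz x hx).symm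
  have hTB : ∀ x ∈ B, ∀ z ∈ T, x * z = z * x := fun x hx z hz => cBDE x hx z (commutator_le_self _ hz)
  have hTc : ∀ x ∈ A ⊔ B ⊔ C, ∀ z ∈ T, x * z = z * x := by
    rw [← hReq]; exact centralizes_sup (fun x hx z hz => hZc x hx z (hTZ hz)) hTB
  have hcomm : ∀ {P Q : Subgroup G}, (∀ x ∈ P, ∀ z ∈ Q, x * z = z * x) → ⁅P, Q⁆ = ⊥ := fun h =>
    le_bot_iff.mp (commutator_le.mpr fun x hx y hy => mem_bot.mpr
      (commutatorElement_eq_one_iff_mul_comm.mpr (h x hx y hy)))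
  have hself : ∀ {P : Subgroup G}, P ∈ S → ⁅P, P⁆ = ⊥ := fun hP => hcomm fun x hx y hy => comm_of_mem hS hP hx hy
  -- generators of the derived group
  set Z₁ := ⁅A, E⁆ ⊔ ⁅C, D⁆ ⊔ T with hZ₁
  have hZ₁Z : Z₁ ≤ Z := sup_le (sup_le (commutator_mono hAN hEN) (commutator_mono hCN hDN)) hTZ
  have hNn₁ : N ≤ normalizer (Z₁ : Set G) :=
    le_normalizer_of_centralizes fun x hx z hz => hZc x hx z (hZ₁Z hz)
  have hZZ₁ : Z ≤ Z₁ := by
    have hDE : ⁅D, E⁆ ≤ Z₁ := le_sup_of_le_right (commutator_mono le_sup_left le_sup_right)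
    have hAE₁ : ⁅A, E⁆ ≤ Z₁ := le_sup_of_le_left le_sup_left
    have hCD₁ : ⁅C, D⁆ ≤ Z₁ := le_sup_of_le_left le_sup_right
    have b0 : ∀ {P Q : Subgroup G}, ⁅P, Q⁆ = ⊥ → ⁅P, Q⁆ ≤ Z₁ ∧ ⁅Q, P⁆ ≤ Z₁ := fun h =>
      ⟨h ▸ bot_le, by rw [Subgroup.commutator_comm, h]; exact bot_le⟩
    rw [hZ, hNeq]
    rw [hNeq] at hNn₁
    have nl := le_trans le_sup_left hNn₁
    have nr := le_trans le_sup_right hNn₁
    refine sup_commutator_le (sup_commutator_le ?_ ?_ nl) (sup_commutator_le ?_ ?_ nr) hNn₁ <;>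
      rw [Subgroup.commutator_comm] <;>
      refine sup_commutator_le (sup_commutator_le ?_ ?_ nl) (sup_commutator_le ?_ ?_ nr) hNn₁
    · exact (b0 (hself hA)).1
    · exact (b0 (hcomm cAD)).2
    · exact (b0 hAC).2
    · rw [Subgroup.commutator_comm]; exact hAE₁
    · exact (b0 (hcomm cAD)).1
    · exact (b0 (hself hAB)).1
    · exact hCD₁
    · rw [Subgroup.commutator_comm]; exact hDE
    · exact (b0 hAC).1
    · rw [Subgroup.commutator_comm]; exact hCD₁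
    · exact (b0 (hself hC)).1
    · exact (b0 (hcomm cCE)).2
    · exact hAE₁
    · exact hDE
    · exact (b0 (hcomm cCE)).1
    · exact (b0 (hself hBC)).1
  have hgenB : ∀ (P Q R' : Subgroup G), P ≤ N → Q ≤ N → R' ≤ N → ⁅P, B⁆ ≤ R' → (∀ x ∈ B, ∀ z ∈ Q, x * z = z * x) →
      ⁅R', Q⁆ ≤ T → ⁅⁅P, Q⁆, B⁆ ≤ T := by
    intro P Q R' hP hQ hR' hPB hQB hRQ
    rw [Subgroup.commutator_def P Q]
    refine closure_commutator_le ?_ ?_
    · rintro _ ⟨u, hu, v, hv, rfl⟩ r hr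
      have hd : ⁅r, u⁆ ∈ R' := hPB (by rw [Subgroup.commutator_comm]; exact commutator_mem_commutator hr hu)
      have hz := commutator_mem_commutator (hP hu) (hQ hv)
      have e : r * ⁅u, v⁆ * r⁻¹ = ⁅u, v⁆ * ⁅⁅r, u⁆, v⁆ := by
        calc r * ⁅u, v⁆ * r⁻¹ = ⁅r * u * r⁻¹, r * v * r⁻¹⁆ := by simp only [commutatorElement_def]; group
          _ = ⁅⁅r, u⁆ * u, v⁆ := by
              rw [hQB r hr v hv, mul_inv_cancel_right,
                show r * u * r⁻¹ = ⁅r, u⁆ * u by simp only [commutatorElement_def]; group]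
          _ = (⁅r, u⁆ * ⁅u, v⁆ * ⁅r, u⁆⁻¹) * ⁅⁅r, u⁆, v⁆ := by simp only [commutatorElement_def]; group
          _ = _ := by rw [hZc _ (hR' hd) _ hz, mul_inv_cancel_right]
      have e' : ⁅⁅u, v⁆, r⁆ = ⁅⁅r, u⁆, v⁆⁻¹ := by
        rw [show ⁅⁅u, v⁆, r⁆ = ⁅u, v⁆ * (r * ⁅u, v⁆ * r⁻¹)⁻¹ by simp only [commutatorElement_def]; group, e]
        have := hTc _ (hReq ▸ mem_sup_left (hZN hz)) _ (inv_mem (hRQ (commutator_mem_commutator hd hv)))
        rw [mul_inv_rev, ← mul_assoc, this, mul_inv_cancel_right]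
      rw [e']
      exact inv_mem (hRQ (commutator_mem_commutator hd hv))
    · intro x hx
      rw [← Subgroup.commutator_def] at hx
      exact le_normalizer_of_centralizes (Z := T) hTc (hReq ▸ mem_sup_left (hZN (commutator_mono hP hQ hx)))
  have hnT : A ⊔ B ⊔ C ≤ normalizer (T : Set G) := le_normalizer_of_centralizes hTc
  have hZB : ⁅Z, B⁆ ≤ T := by
    refine le_trans (commutator_mono hZZ₁ le_rfl) ?_
    refine sup_commutator_le (sup_commutator_le ?_ ?_ ?_) ?_ ?_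
    · exact hgenB A E D hAN hEN hDN (hDdef ▸ le_rfl) cBE (commutator_mono le_sup_left le_sup_right)
    · refine hgenB C D E hCN hDN hEN hCB.le cBD ?_
      rw [Subgroup.commutator_comm]
      exact commutator_mono le_sup_left le_sup_right
    · exact le_trans (le_trans le_sup_left (hZ₁Z.trans hZN)) (le_trans (hReq ▸ le_sup_left) hnT)
    · rw [Subgroup.commutator_comm, hcomm hTB]; exact bot_le
    · exact le_trans (hZ₁Z.trans hZN) (le_trans (hReq ▸ le_sup_left) hnT)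
  -- the series
  set K := D ⊔ E ⊔ Z with hK
  have hKN : K ≤ N := sup_le hDEN hZN
  have hnZ : A ⊔ B ⊔ C ≤ normalizer (Z : Set G) := by
    intro x hx
    refine conjBy_eq_self_iff.mp ?_
    rw [hZ, conjBy_commutator, conjBy_eq_self_iff.mpr (hRn hx)]
  have hnK : A ⊔ B ⊔ C ≤ normalizer (K : Set G) := by
    rw [← hReq]
    refine sup_le ?_ ?_ <;> intro x hx <;> refine conjBy_eq_self_iff.mp ?_
    · refine le_antisymm (fun y hy => ?_) (fun y hy => ?_)
      · have hy' := mem_conjBy.mp hy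
        rw [show y = ⁅x, x⁻¹ * y * x⁆ * (x⁻¹ * y * x) by simp only [commutatorElement_def]; group]
        exact mul_mem (mem_sup_right (commutator_mem_commutator hx (hKN hy'))) hy'
      · rw [mem_conjBy, show x⁻¹ * y * x = ⁅x⁻¹, y⁆ * y by simp only [commutatorElement_def]; group]
        exact mul_mem (mem_sup_right (commutator_mem_commutator (inv_mem hx) (hKN hy))) hy
    · rw [hK, conjBy_sup, conjBy_of_commute (A := D ⊔ E) (fun z hz => cBDE x hx z hz),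
        conjBy_eq_self_iff.mpr (hnZ (mem_sup_left (mem_sup_right hx)))]
  have hNB : ⁅N, B⁆ ≤ K := by
    rw [hNeq]
    have hn : (A ⊔ D) ⊔ (C ⊔ E) ≤ normalizer (K : Set G) := by
      rw [← hNeq]
      exact le_trans (hReq ▸ le_sup_left) hnK
    refine sup_commutator_le (sup_commutator_le ?_ ?_ (le_trans le_sup_left hn))
      (sup_commutator_le ?_ ?_ (le_trans le_sup_right hn)) hn
    · exact le_sup_of_le_left le_sup_left
    · rw [Subgroup.commutator_comm, hcomm cBD]; exact bot_le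
    · rw [hCB]; exact le_sup_of_le_left le_sup_right
    · rw [Subgroup.commutator_comm, hcomm cBE]; exact bot_le
  have s1 : ⁅A ⊔ B ⊔ C, A ⊔ B ⊔ C⁆ ≤ K := by
    rw [← hReq] at hnK ⊢
    refine sup_commutator_le ?_ ?_ hnK <;> rw [Subgroup.commutator_comm] <;> refine sup_commutator_le ?_ ?_ hnK
    · exact le_sup_right
    · rw [Subgroup.commutator_comm]; exact hNB
    · exact hNB
    · rw [hself hB]; exact bot_le
  have s2 : ⁅K, A ⊔ B ⊔ C⁆ ≤ Z := by
    rw [Subgroup.commutator_comm, ← hReq]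
    rw [← hReq] at hnZ
    refine sup_commutator_le ?_ ?_ hnZ
    · exact commutator_mono le_rfl hKN
    · rw [Subgroup.commutator_comm]
      refine sup_commutator_le ?_ (hZB.trans hTZ) (le_trans (hKN.trans le_sup_left) hnZ)
      rw [Subgroup.commutator_comm, hcomm cBDE]
      exact bot_le
  have s3 : ⁅Z, A ⊔ B ⊔ C⁆ ≤ T := by
    rw [Subgroup.commutator_comm, ← hReq]
    rw [← hReq] at hnT
    refine sup_commutator_le ?_ ?_ hnT
    · rw [hcomm hZc]; exact bot_le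
    · rw [Subgroup.commutator_comm]; exact hZB
  have s4 : ⁅T, A ⊔ B ⊔ C⁆ = ⊥ := by rw [Subgroup.commutator_comm]; exact hcomm hTc
  refine ⟨hdich, hXYbot, fun r hr => conjBy_eq_self_iff.mpr (hRn hr), hReq, ?_⟩
  rw [Subgroup.isNilpotent_iff_lowerCentralSeries]
  refine ⟨4, ?_⟩
  have step : ∀ (n : ℕ) {P Q : Subgroup G}, Subgroup.lowerCentralSeries (A ⊔ B ⊔ C) n ≤ P →
      ⁅P, A ⊔ B ⊔ C⁆ ≤ Q → Subgroup.lowerCentralSeries (A ⊔ B ⊔ C) (n + 1) ≤ Q := by
    intro n P Q hP hQ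
    rw [Subgroup.lowerCentralSeries_succ]
    exact (commutator_mono hP le_rfl).trans hQ
  rw [eq_bot_iff]
  exact step 3 (step 2 (step 1 (step 0 (P := A ⊔ B ⊔ C) le_rfl s1) s2) s3) s4.le

end Cfsg.Agent.Lib.RootSub
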