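import Cfsg.Agent.Lib.RootSub.SL2Pair
import Cfsg.Agent.Lib.RootSub.Transfer
import Cfsg.Agent.Lib.QuadPair.Cases

/-!
Classes of transvection subgroups inside a linear group as classes of abstract root subgroups.
-/

namespace Cfsg.Agent.Lib.RootSub

open Matrix Cfsg.Agent.Lib.QuadPair
open scoped commutatorElement

variable {k : Type*} [Field k] {M : Type*} [AddCommGroup M] [Module k M]

local notation "GLM" => LinearMap.GeneralLinearGroup k M
local notation "ND" => M →ₗ[k] M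
local notation "PD" => (M →ₗ[k] k) × M

/-- The transvection endomorphism of a functional and a vector. -/
def tv (x : PD) : ND := x.1.smulRight x.2

theorem tv_apply (x : PD) (m : M) : tv x m = x.1 m • x.2 := rfl

theorem tv_mul (x y : PD) : tv x * tv y = x.1 y.2 • tv (y.1, x.2) := by
  ext m; simp [tv_apply, Module.End.mul_apply, smul_smul, mul_comm]

theorem tv_sq {x : PD} (h : x.1 x.2 = 0) : tv x * tv x = 0 := by rw [tv_mul, h, zero_smul]

theorem tv_ne_zero {x : PD} (h1 : x.1 ≠ 0) (h2 : x.2 ≠ 0) : tv x ≠ 0 := by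
  intro e
  obtain ⟨m, hm⟩ : ∃ m, x.1 m ≠ 0 := by
    by_contra hno; push Not at hno; exact h1 (LinearMap.ext hno)
  exact (smul_ne_zero hm h2) (DFunLike.congr_fun e m)

/-- The group of the transvections of a functional and a vector. -/
noncomputable def tgrp (x : PD) : Subgroup GLM :=
  Subgroup.closure (Set.range fun c : k => uni (c • tv x))

theorem mem_tgrp {x : PD} (h : x.1 x.2 = 0) {g : GLM} : g ∈ tgrp x ↔ ∃ c : k, g = uni (c • tv x) := by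
  refine ⟨fun hg => ?_, fun ⟨c, e⟩ => e ▸ Subgroup.subset_closure ⟨c, rfl⟩⟩
  unfold tgrp at hg
  induction hg using Subgroup.closure_induction with
  | mem y hy => obtain ⟨c, rfl⟩ := hy; exact ⟨c, rfl⟩
  | one => exact ⟨0, by rw [zero_smul, uni_zero]⟩
  | mul y z _ _ hy hz =>
    obtain ⟨c, rfl⟩ := hy; obtain ⟨d, rfl⟩ := hz
    have hz : ∀ c d : k, (c • tv x) * (d • tv x) = 0 := fun c d => by
      rw [smul_mul_smul_comm, tv_sq h, smul_zero]
    exact ⟨c + d, by rw [uni_mul (hz c c) (hz d d) (hz c d) (hz d c), add_smul]⟩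
  | inv y _ hy =>
    obtain ⟨c, rfl⟩ := hy
    exact ⟨-c, by rw [uni_inv (smul_sq (tv_sq h) c), neg_smul]⟩

theorem uni_mem_tgrp (x : PD) (c : k) : uni (c • tv x) ∈ tgrp x := Subgroup.subset_closure ⟨c, rfl⟩

theorem tgrp_congr {x y : PD} {a : k} (ha : a ≠ 0) (e : tv y = a • tv x) : tgrp y = tgrp x := by
  have : (Set.range fun c : k => (uni (c • tv y) : GLM)) = Set.range fun c : k => uni (c • tv x) := by
    ext g
    constructor
    · rintro ⟨c, rfl⟩; exact ⟨c * a, by simp [e, smul_smul]⟩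
    · rintro ⟨c, rfl⟩; exact ⟨c * a⁻¹, by simp [e, smul_smul, ha]⟩
  rw [tgrp, tgrp, this]

theorem tv_conj (g : GLM) (x : PD) :
    (g : ND) * tv x * ((g⁻¹ : GLM) : ND) = tv (x.1.comp ((g⁻¹ : GLM) : ND), (g : ND) x.2) := by
  ext m; simp [tv_apply, Module.End.mul_apply]

theorem conjBy_tgrp {x : PD} (h : x.1 x.2 = 0) (g : GLM) :
    Cfsg.conjBy (tgrp x) g = tgrp (x.1.comp ((g⁻¹ : GLM) : ND), (g : ND) x.2) := by
  rw [tgrp, tgrp, Cfsg.conjBy, MonoidHom.map_closure, ← Set.range_comp]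
  congr 1
  refine congrArg Set.range (funext fun c => ?_)
  change g * uni (c • tv x) * g⁻¹ = _
  rw [conj_uni (smul_sq (tv_sq h) c), mul_smul_comm, smul_mul_assoc, tv_conj]

section Pair

variable {x y : (M →ₗ[k] k) × M}

/-- The block endomorphism of a matrix. -/
noncomputable def blk (x y : PD) (Y : Matrix (Fin 2) (Fin 2) k) : ND :=
  Y 0 0 • ((y.1 x.2)⁻¹ • tv (y.1, x.2)) + Y 0 1 • ((x.1 y.2)⁻¹ • tv x) +
    Y 1 0 • ((y.1 x.2)⁻¹ • tv y) + Y 1 1 • ((x.1 y.2)⁻¹ • tv (x.1, y.2))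

theorem blk_mul (hx : x.1 x.2 = 0) (hy : y.1 y.2 = 0) (hxy : x.1 y.2 ≠ 0) (hyx : y.1 x.2 ≠ 0)
    (Y Z : Matrix (Fin 2) (Fin 2) k) : blk x y (Y * Z) = blk x y Y * blk x y Z := by
  ext m
  simp [blk, tv_apply, Module.End.mul_apply, hx, hy, Matrix.mul_apply, Fin.sum_univ_two]
  match_scalars <;> field_simp <;> ring

/-- The homomorphism of an opposite pair. -/
noncomputable def pairHom (hx : x.1 x.2 = 0) (hy : y.1 y.2 = 0) (hxy : x.1 y.2 ≠ 0) (hyx : y.1 x.2 ≠ 0) :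
    SpecialLinearGroup (Fin 2) k →* GLM :=
  MonoidHom.toHomUnits
    { toFun := fun g => 1 + blk x y (g.1 - 1)
      map_one' := by simp [blk]
      map_mul' := fun g h => by
        have e : (g * h).1 - 1 = (g.1 - 1) + (h.1 - 1) + (g.1 - 1) * (h.1 - 1) := by
          rw [sl_coe_mul]; noncomm_ring
        have hadd : ∀ Y Z : Matrix (Fin 2) (Fin 2) k, blk x y (Y + Z) = blk x y Y + blk x y Z := fun Y Z => by
          simp only [blk, Matrix.add_apply, add_smul]; abel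
        rw [e, hadd, hadd, blk_mul hx hy hxy hyx]
        noncomm_ring }

theorem coe_pairHom (hx : x.1 x.2 = 0) (hy : y.1 y.2 = 0) (hxy : x.1 y.2 ≠ 0) (hyx : y.1 x.2 ≠ 0)
    (g : SpecialLinearGroup (Fin 2) k) :
    (pairHom hx hy hxy hyx g : ND) = 1 + blk x y (g.1 - 1) := rfl

theorem pairHom_xU (hx : x.1 x.2 = 0) (hy : y.1 y.2 = 0) (hxy : x.1 y.2 ≠ 0) (hyx : y.1 x.2 ≠ 0) (u : k) :
    pairHom hx hy hxy hyx (xU u) = uni ((u * (x.1 y.2)⁻¹) • tv x) := by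
  ext1
  rw [coe_pairHom, coe_uni (smul_sq (tv_sq hx) _)]
  simp [blk, coe_xU, smul_smul]

theorem pairHom_yL (hx : x.1 x.2 = 0) (hy : y.1 y.2 = 0) (hxy : x.1 y.2 ≠ 0) (hyx : y.1 x.2 ≠ 0) (u : k) :
    pairHom hx hy hxy hyx (yL u) = uni ((u * (y.1 x.2)⁻¹) • tv y) := by
  ext1
  rw [coe_pairHom, coe_uni (smul_sq (tv_sq hy) _)]
  simp [blk, coe_yL, smul_smul]

theorem pair_of_opp (hx : x.1 x.2 = 0) (hy : y.1 y.2 = 0) (hxy : x.1 y.2 ≠ 0) (hyx : y.1 x.2 ≠ 0) :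
    Cfsg.IsSpecialRankOnePair (tgrp x) (tgrp y) ∧
      Cfsg.IsPSL2PairOver k (tgrp x) (tgrp y) := by
  set φ := pairHom hx hy hxy hyx with hφ
  have hA : (Cfsg.upperUnipotentSL2 k).map φ = tgrp x := by
    ext g
    rw [mem_tgrp hx]
    constructor
    · rintro ⟨_, hu, rfl⟩
      obtain ⟨u, rfl⟩ := mem_upper.mp hu
      exact ⟨_, pairHom_xU hx hy hxy hyx u⟩
    · rintro ⟨c, rfl⟩
      refine ⟨xU (c * x.1 y.2), mem_upper.mpr ⟨_, rfl⟩, ?_⟩
      rw [hφ, pairHom_xU, mul_assoc, mul_inv_cancel₀ hxy, mul_one]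
  have hB : (Cfsg.lowerUnipotentSL2 k).map φ = tgrp y := by
    ext g
    rw [mem_tgrp hy]
    constructor
    · rintro ⟨_, hu, rfl⟩
      obtain ⟨u, rfl⟩ := mem_lower.mp hu
      exact ⟨_, pairHom_yL hx hy hxy hyx u⟩
    · rintro ⟨c, rfl⟩
      refine ⟨yL (c * y.1 x.2), mem_lower.mpr ⟨_, rfl⟩, ?_⟩
      rw [hφ, pairHom_yL, mul_assoc, mul_inv_cancel₀ hyx, mul_one]
  have hker : φ.ker ≤ Subgroup.center (SpecialLinearGroup (Fin 2) k) := by
    intro g hg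
    have e := congrArg Units.val (MonoidHom.mem_ker.mp hg)
    rw [hφ, coe_pairHom, Units.val_one, add_eq_left] at e
    have hp := DFunLike.congr_fun e x.2
    have hr := DFunLike.congr_fun e y.2
    simp [blk, tv_apply, hx, hy, hxy, hyx] at hp hr
    have hp1 := congrArg x.1 hp
    have hp2 := congrArg y.1 hp
    have hr1 := congrArg x.1 hr
    have hr2 := congrArg y.1 hr
    simp [hx, hy, hxy, hyx] at hp1 hp2 hr1 hr2
    have : g = 1 := by
      ext i j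
      fin_cases i <;> fin_cases j <;> simp_all [sub_eq_zero]
    rw [this]
    exact one_mem _
  rw [← hA, ← hB]
  refine ⟨isSpecial_of_hom hker, φ, ?_, hker, rfl, rfl⟩
  rw [← Subgroup.map_sup, upper_sup_lower, MonoidHom.range_eq_map]

theorem commute_of_orth (hx : x.1 x.2 = 0) (hy : y.1 y.2 = 0) (hxy : x.1 y.2 = 0) (hyx : y.1 x.2 = 0)
    {g h : GLM} (hg : g ∈ tgrp x) (hh : h ∈ tgrp y) : g * h = h * g := by
  obtain ⟨c, rfl⟩ := (mem_tgrp hx).mp hg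
  obtain ⟨d, rfl⟩ := (mem_tgrp hy).mp hh
  ext1
  rw [Units.val_mul, Units.val_mul, coe_uni (smul_sq (tv_sq hx) c), coe_uni (smul_sq (tv_sq hy) d)]
  simp only [mul_add, add_mul, smul_mul_smul_comm, tv_mul, hxy, hyx, zero_smul, smul_zero, mul_one, one_mul]
  abel

theorem commutator_case (hx : x.1 x.2 = 0) (hy : y.1 y.2 = 0) (hxy : x.1 y.2 ≠ 0) (hyx : y.1 x.2 = 0) :
    (∀ c ∈ tgrp (y.1, x.2), ∀ g ∈ tgrp x ⊔ tgrp y, c * g = g * c) ∧
    (∀ g ∈ tgrp x, ∀ h ∈ tgrp y, g * h * g⁻¹ * h⁻¹ ∈ tgrp (y.1, x.2)) ∧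
    (∀ g ∈ tgrp x, g ≠ 1 → (tgrp (y.1, x.2) : Set GLM) ⊆ (fun h : GLM => g * h * g⁻¹ * h⁻¹) '' (tgrp y : Set GLM)) ∧
    (∀ h ∈ tgrp y, h ≠ 1 → (tgrp (y.1, x.2) : Set GLM) ⊆ (fun g : GLM => g * h * g⁻¹ * h⁻¹) '' (tgrp x : Set GLM)) := by
  have hz : (y.1, x.2).1 (y.1, x.2).2 = 0 := hyx
  have key : ∀ c d : k, (uni (c • tv x) : GLM) * uni (d • tv y) * (uni (c • tv x))⁻¹ * (uni (d • tv y))⁻¹ =
      uni ((c * d * x.1 y.2) • tv (y.1, x.2)) := by
    intro c d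
    have e1 : (c • tv x) * (d • tv y) = (c * d * x.1 y.2) • tv (y.1, x.2) := by
      rw [smul_mul_smul_comm, tv_mul, smul_smul]
    have e2 : (d • tv y) * (c • tv x) = 0 := by
      rw [smul_mul_smul_comm, tv_mul, hyx, zero_smul, smul_zero]
    have t1 : (c • tv x) * (d • tv y) * (c • tv x) = 0 := by rw [mul_assoc, e2, mul_zero]
    have t2 : (d • tv y) * (c • tv x) * (d • tv y) = 0 := by rw [e2, zero_mul]
    have := (commutator_uni (smul_sq (tv_sq hx) c) (smul_sq (tv_sq hy) d) t1 t2).2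
    rw [e1, e2, sub_zero, commutatorElement_def] at this
    exact this
  refine ⟨?_, ?_, ?_, ?_⟩
  · intro c hc g hg
    have hle : tgrp x ⊔ tgrp y ≤ Subgroup.centralizer {c} := by
      refine sup_le (fun g hg => ?_) (fun g hg => ?_) <;> rw [Subgroup.mem_centralizer_singleton_iff]
      · exact commute_of_orth hx hz hx hyx hg hc
      · exact commute_of_orth hy hz hyx hy hg hc
    exact (Subgroup.mem_centralizer_singleton_iff.mp (hle hg)).symm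
  · intro g hg h hh
    obtain ⟨c, rfl⟩ := (mem_tgrp hx).mp hg
    obtain ⟨d, rfl⟩ := (mem_tgrp hy).mp hh
    rw [key]
    exact uni_mem_tgrp _ _
  · intro g hg hg1 w hw
    obtain ⟨c, rfl⟩ := (mem_tgrp hx).mp hg
    obtain ⟨e, rfl⟩ := (mem_tgrp hz).mp hw
    have hc : c ≠ 0 := fun h => hg1 (by rw [h, zero_smul, uni_zero])
    refine ⟨uni ((e / (c * x.1 y.2)) • tv y), uni_mem_tgrp _ _, ?_⟩
    beta_reduce
    rw [key]
    congr 2
    field_simp
  · intro h hh hh1 w hw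
    obtain ⟨d, rfl⟩ := (mem_tgrp hy).mp hh
    obtain ⟨e, rfl⟩ := (mem_tgrp hz).mp hw
    have hd : d ≠ 0 := fun h => hh1 (by rw [h, zero_smul, uni_zero])
    refine ⟨uni ((e / (d * x.1 y.2)) • tv x), uni_mem_tgrp _ _, ?_⟩
    beta_reduce
    rw [key]
    congr 2
    field_simp

end Pair

variable {H : Type*} [Group H]

/-- A family of transvection pairs of a linear group. -/
structure TSetting (ι : H →* GLM) (P : Set PD) : Prop where
  inj : Function.Injective ι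
  isotropic : ∀ x ∈ P, x.1 x.2 = 0
  left_ne : ∀ x ∈ P, x.1 ≠ 0
  right_ne : ∀ x ∈ P, x.2 ≠ 0
  range_le : ∀ x ∈ P, tgrp x ≤ ι.range
  closed : ∀ x ∈ P, ∀ y ∈ P, x.1 y.2 ≠ 0 → y.1 x.2 = 0 → ∃ z ∈ P, tgrp z = tgrp (y.1, x.2)
  conj : ∀ h : H, ∀ x ∈ P, ∃ z ∈ P, tgrp z = Cfsg.conjBy (tgrp x) (ι h)
  middle : ∀ x ∈ P, ∀ y ∈ P, ∃ z ∈ P, x.1 z.2 ≠ 0 ∧ z.1 x.2 ≠ 0 ∧ y.1 z.2 ≠ 0 ∧ z.1 y.2 ≠ 0
  nonempty : P.Nonempty
  generates : (⨆ x ∈ P, (tgrp x).comap ι) = ⊤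

/-- The transvection subgroups. -/
def tset (ι : H →* GLM) (P : Set PD) : Set (Subgroup H) := (fun x => (tgrp x).comap ι) '' P

variable {ι : H →* LinearMap.GeneralLinearGroup k M} {P : Set ((M →ₗ[k] k) × M)}

theorem TSetting.map_eq (h : TSetting ι P) {x : PD} (hx : x ∈ P) : ((tgrp x).comap ι).map ι = tgrp x :=
  Subgroup.map_comap_eq_self (h.range_le x hx)

theorem TSetting.image_eq (h : TSetting ι P) :
    (fun C => Subgroup.map ι C) '' tset ι P = tgrp '' P := by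
  rw [tset, Set.image_image]
  exact Set.image_congr fun x hx => h.map_eq hx

theorem TSetting.tgrp_ne_bot (h : TSetting ι P) {x : PD} (hx : x ∈ P) : tgrp x ≠ (⊥ : Subgroup GLM) := by
  intro e
  have := uni_mem_tgrp x 1
  rw [e, Subgroup.mem_bot, one_smul, ← uni_zero] at this
  exact tv_ne_zero (h.left_ne x hx) (h.right_ne x hx) (uni_inj (tv_sq (h.isotropic x hx)) (by simp) this)

theorem TSetting.cases' (h : TSetting ι P) {x y : PD} (hx : x ∈ P) (hy : y ∈ P) :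
    (x.1 y.2 = 0 ∧ y.1 x.2 = 0 ∧ ⁅tgrp x, tgrp y⁆ = ⊥) ∨
    (x.1 y.2 ≠ 0 ∧ y.1 x.2 ≠ 0) ∨
    ((x.1 y.2 = 0 ↔ y.1 x.2 ≠ 0) ∧ Cfsg.RootCommutatorCase (tgrp '' P) (tgrp x) (tgrp y)) := by
  have hx0 := h.isotropic x hx
  have hy0 := h.isotropic y hy
  have key : ∀ {x y : PD}, x ∈ P → y ∈ P → x.1 y.2 ≠ 0 → y.1 x.2 = 0 →
      Cfsg.RootCommutatorCase (tgrp '' P) (tgrp x) (tgrp y) := by
    intro x y hx hy h1 h2
    obtain ⟨hc, hm, hA, hB⟩ := commutator_case (h.isotropic x hx) (h.isotropic y hy) h1 h2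
    have hle : ⁅tgrp x, tgrp y⁆ ≤ tgrp (y.1, x.2) := Subgroup.commutator_le.mpr fun g hg g' hg' => by
      rw [commutatorElement_def]; exact hm g hg g' hg'
    have hcl : ∀ g ∈ tgrp x, g ≠ 1 →
        Subgroup.closure ((fun h : GLM => g * h * g⁻¹ * h⁻¹) '' (tgrp y : Set GLM)) = tgrp (y.1, x.2) :=
      fun g hg hg1 => le_antisymm ((Subgroup.closure_le _).mpr (by rintro _ ⟨g', hg', rfl⟩; exact hm g hg g' hg'))
        fun w hw => Subgroup.subset_closure (hA g hg hg1 hw)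
    have hcr : ∀ g' ∈ tgrp y, g' ≠ 1 →
        Subgroup.closure ((fun g : GLM => g * g' * g⁻¹ * g'⁻¹) '' (tgrp x : Set GLM)) = tgrp (y.1, x.2) :=
      fun g' hg' hg1 => le_antisymm ((Subgroup.closure_le _).mpr (by rintro _ ⟨g, hg, rfl⟩; exact hm g hg g' hg'))
        fun w hw => Subgroup.subset_closure (hB g' hg' hg1 hw)
    obtain ⟨g, hg, hg1⟩ := (Subgroup.bot_or_exists_ne_one (tgrp x)).resolve_left (h.tgrp_ne_bot hx)
    have e : ⁅tgrp x, tgrp y⁆ = tgrp (y.1, x.2) := by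
      refine le_antisymm hle ?_
      rw [← hcl g hg hg1, Subgroup.closure_le]
      rintro _ ⟨g', hg', rfl⟩
      beta_reduce
      rw [SetLike.mem_coe, ← commutatorElement_def]
      exact Subgroup.commutator_mem_commutator hg hg'
    obtain ⟨z, hz, hze⟩ := h.closed x hx y hy h1 h2
    rw [Cfsg.RootCommutatorCase, e]
    exact ⟨⟨z, hz, hze⟩, hc, hcl, hcr⟩
  by_cases h1 : x.1 y.2 = 0 <;> by_cases h2 : y.1 x.2 = 0
  · refine Or.inl ⟨h1, h2, le_bot_iff.mp (Subgroup.commutator_le.mpr fun g hg g' hg' => ?_)⟩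
    rw [Subgroup.mem_bot, commutatorElement_eq_one_iff_mul_comm]
    exact commute_of_orth hx0 hy0 h1 h2 hg hg'
  · exact Or.inr (Or.inr ⟨iff_of_true h1 h2, rootCase_symm (key hy hx h2 h1)⟩)
  · exact Or.inr (Or.inr ⟨iff_of_false h1 (fun e => e h2), key hx hy h1 h2⟩)
  · exact Or.inr (Or.inl ⟨h1, h2⟩)

theorem TSetting.opp_pair (h : TSetting ι P) {x y : PD} (hx : x ∈ P) (hy : y ∈ P) (h1 : x.1 y.2 ≠ 0)
    (h2 : y.1 x.2 ≠ 0) :
    Cfsg.IsSpecialRankOnePair ((tgrp x).comap ι) ((tgrp y).comap ι) ∧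
      Cfsg.IsPSL2PairOver k ((tgrp x).comap ι) ((tgrp y).comap ι) := by
  obtain ⟨hs, φ, hr, hk, hA, hB⟩ := pair_of_opp (h.isotropic x hx) (h.isotropic y hy) h1 h2
  refine ⟨isSpecialRankOnePair_of_map h.inj (by rwa [h.map_eq hx, h.map_eq hy]), ?_⟩
  have hle : ∀ g, φ g ∈ ι.range := fun g =>
    sup_le (h.range_le x hx) (h.range_le y hy) (hr ▸ ⟨g, rfl⟩)
  let ψ : SpecialLinearGroup (Fin 2) k →* H := (MonoidHom.ofInjective h.inj).symm.toMonoidHom.comp (φ.codRestrict _ hle)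
  have hψ : ι.comp ψ = φ := MonoidHom.ext fun g => MonoidHom.apply_ofInjective_symm h.inj ⟨φ g, hle g⟩
  have hmap : ∀ X : Subgroup (SpecialLinearGroup (Fin 2) k), (X.map ψ).map ι = X.map φ := fun X => by
    rw [Subgroup.map_map, hψ]
  refine ⟨ψ, Subgroup.map_injective h.inj ?_, fun g hg => hk ?_, Subgroup.map_injective h.inj ?_,
    Subgroup.map_injective h.inj ?_⟩
  · rw [MonoidHom.range_eq_map, hmap, ← MonoidHom.range_eq_map, hr, Subgroup.map_sup, h.map_eq hx, h.map_eq hy]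
  · rw [MonoidHom.mem_ker] at hg ⊢
    rw [← hψ, MonoidHom.comp_apply, hg, map_one]
  · rw [hmap, hA, h.map_eq hx]
  · rw [hmap, hB, h.map_eq hy]

theorem TSetting.rootSet (h : TSetting ι P) : Cfsg.IsRootSubgroupSet (tset ι P) := by
  refine ⟨?_, ?_, ?_, ?_, ?_⟩
  · rintro _ ⟨x, hx, rfl⟩
    refine ⟨⟨fun a b => Subtype.ext (h.inj ?_)⟩⟩
    rw [Subgroup.coe_mul, Subgroup.coe_mul, map_mul, map_mul]
    exact commute_of_orth (h.isotropic x hx) (h.isotropic x hx) (h.isotropic x hx) (h.isotropic x hx) a.2 b.2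
  · rintro _ ⟨x, hx, rfl⟩ e
    beta_reduce at e
    refine h.tgrp_ne_bot hx ?_
    rw [← h.map_eq hx, e, Subgroup.map_bot]
  · rw [tset, iSup_image]; exact h.generates
  · rintro _ ⟨x, hx, rfl⟩ g
    obtain ⟨z, hz, hze⟩ := h.conj g x hx
    refine ⟨z, hz, Subgroup.map_injective h.inj ?_⟩
    beta_reduce
    rw [h.map_eq hz, map_conjBy, h.map_eq hx, hze]
  · rintro _ ⟨x, hx, rfl⟩ _ ⟨y, hy, rfl⟩
    rcases h.cases' hx hy with ⟨-, -, hc⟩ | ⟨h1, h2⟩ | ⟨-, hc⟩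
    · refine Or.inl ((Subgroup.map_eq_bot_iff_of_injective _ h.inj).mp ?_)
      rw [Subgroup.map_commutator, h.map_eq hx, h.map_eq hy, hc]
    · exact Or.inr (Or.inl (h.opp_pair hx hy h1 h2).1.1)
    · refine Or.inr (Or.inr ((rootCase_map_iff h.inj).mp ?_))
      rwa [h.map_eq hx, h.map_eq hy, h.image_eq]

theorem TSetting.opp_of_pair (h : TSetting ι P) {x y : PD} (hx : x ∈ P) (hy : y ∈ P)
    (hp : Cfsg.IsRankOnePair ((tgrp x).comap ι) ((tgrp y).comap ι)) : x.1 y.2 ≠ 0 ∧ y.1 x.2 ≠ 0 := by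
  rw [← isRankOnePair_map_iff h.inj, h.map_eq hx, h.map_eq hy] at hp
  rcases h.cases' hx hy with ⟨-, -, hc⟩ | h' | ⟨-, -, hcent, -⟩
  · exact absurd hc (commutator_ne_bot hp)
  · exact h'
  · exfalso
    obtain ⟨a, ha, ha1⟩ := exists_ne_one_left hp
    refine false_of_central hp (fun u hu v hv =>
      commute_of_orth (h.isotropic y hy) (h.isotropic y hy) (h.isotropic y hy) (h.isotropic y hy) hu hv)
      ha ha1 fun u hu v hv => ?_
    refine hcent _ ?_ v (Subgroup.mem_sup_right hv)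
    simpa only [commutatorElement_def] using Subgroup.commutator_mem_commutator ha hu

theorem TSetting.kRootSet (h : TSetting ι P) : Cfsg.IsKRootSubgroupSet k (tset ι P) := by
  refine ⟨h.rootSet, ?_⟩
  rintro _ ⟨x, hx, rfl⟩ _ ⟨y, hy, rfl⟩ hp
  obtain ⟨h1, h2⟩ := h.opp_of_pair hx hy hp
  exact (h.opp_pair hx hy h1 h2).2

theorem TSetting.connected (h : TSetting ι P) :
    Cfsg.IsConnectedFamily (Cfsg.FAdj (tset ι P)) (tset ι P) := by
  rintro _ ⟨x, hx, rfl⟩ _ ⟨y, hy, rfl⟩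
  obtain ⟨z, hz, h1, h2, h3, h4⟩ := h.middle x hx y hy
  exact (Relation.ReflTransGen.single ⟨⟨x, hx, rfl⟩, ⟨z, hz, rfl⟩, (h.opp_pair hx hz h1 h2).1.1⟩).tail
    ⟨⟨z, hz, rfl⟩, ⟨y, hy, rfl⟩, (h.opp_pair hz hy h4 h3).1.1⟩

theorem TSetting.exists_conj_pair (h : TSetting ι P) {x y : PD} (hx : x ∈ P) (hy : y ∈ P) :
    ∃ g : H, (tgrp y).comap ι = Cfsg.conjBy ((tgrp x).comap ι) g := by
  obtain ⟨z, hz, h1, h2, h3, h4⟩ := h.middle x hx y hy
  obtain ⟨u, -, hu⟩ := exists_conj (h.opp_pair hx hz h1 h2).1.1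
  obtain ⟨v, -, hv⟩ := exists_conj (h.opp_pair hz hy h4 h3).1.1
  exact ⟨v * u, by rw [← conjBy_conjBy, hu, hv]⟩

theorem TSetting.rootClass (h : TSetting ι P) : Cfsg.IsRootSubgroupClass (tset ι P) := by
  refine ⟨h.rootSet, ?_, ?_⟩
  · obtain ⟨x, hx⟩ := h.nonempty
    exact ⟨_, x, hx, rfl⟩
  · rintro _ ⟨x, hx, rfl⟩ _ ⟨y, hy, rfl⟩
    exact h.exists_conj_pair hx hy

theorem TSetting.degenerate (h : TSetting ι P) (hsym : ∀ x ∈ P, ∀ y ∈ P, x.1 y.2 = 0 → y.1 x.2 = 0) :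
    Cfsg.IsDegenerateRootSet (tset ι P) := by
  rintro _ ⟨x, hx, rfl⟩ _ ⟨y, hy, rfl⟩ hc
  rcases h.cases' hx hy with ⟨-, -, hb⟩ | ⟨h1, h2⟩ | ⟨hiff, -⟩
  · refine h.rootSet.ne_bot _ hc.1 ((Subgroup.map_eq_bot_iff_of_injective _ h.inj).mp ?_)
    rw [Subgroup.map_commutator, h.map_eq hx, h.map_eq hy, hb]
  · have hp := (h.opp_pair hx hy h1 h2).1.1
    obtain ⟨a, ha, ha1⟩ := exists_ne_one_left hp
    refine false_of_central hp (fun u hu v hv => (h.rootSet.commutative _ ⟨y, hy, rfl⟩).is_comm.comm ⟨u, hu⟩ ⟨v, hv⟩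
      |> congrArg Subtype.val) ha ha1 fun u hu v hv => ?_
    refine hc.2.1 _ ?_ v (Subgroup.mem_sup_right hv)
    simpa only [commutatorElement_def] using Subgroup.commutator_mem_commutator ha hu
  · by_cases h1 : x.1 y.2 = 0
    · exact hiff.mp h1 (hsym x hx y hy h1)
    · exact h1 (hiff.mpr fun e => h1 (hsym y hy x hx e))

theorem TSetting.nondegenerate (h : TSetting ι P) {x y z w : PD} (hx : x ∈ P) (hy : y ∈ P) (hz : z ∈ P)
    (hw : w ∈ P) (h1 : x.1 y.2 = 0) (h2 : y.1 x.2 = 0) (hne : tgrp x ≠ tgrp y) (h3 : z.1 w.2 ≠ 0)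
    (h4 : w.1 z.2 = 0) : Cfsg.IsNondegenerateRootSet (tset ι P) := by
  refine ⟨⟨_, ⟨x, hx, rfl⟩, _, ⟨y, hy, rfl⟩, fun e => hne ?_, ?_⟩, ?_, ⟨_, ⟨z, hz, rfl⟩, _, ⟨w, hw, rfl⟩, ?_⟩⟩
  · rw [← h.map_eq hx, ← h.map_eq hy]; exact congrArg (Subgroup.map ι) e
  · refine (Subgroup.map_eq_bot_iff_of_injective _ h.inj).mp ?_
    rw [Subgroup.map_commutator, h.map_eq hx, h.map_eq hy]
    refine le_bot_iff.mp (Subgroup.commutator_le.mpr fun g hg g' hg' => ?_)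
    rw [Subgroup.mem_bot, commutatorElement_eq_one_iff_mul_comm]
    exact commute_of_orth (h.isotropic x hx) (h.isotropic y hy) h1 h2 hg hg'
  · obtain ⟨v, hv, g1, g2, -⟩ := h.middle x hx x hx
    exact ⟨_, ⟨x, hx, rfl⟩, _, ⟨v, hv, rfl⟩, (h.opp_pair hx hv g1 g2).1.1⟩
  · rcases h.cases' hz hw with ⟨g1, -⟩ | ⟨-, g2⟩ | ⟨-, hc⟩
    · exact absurd g1 h3
    · exact absurd h4 g2
    · refine (rootCase_map_iff h.inj).mp ?_
      rwa [h.map_eq hz, h.map_eq hw, h.image_eq]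

/-- Two proper subspaces do not cover. -/
theorem exists_two_ne_zero {V : Type*} [AddCommGroup V] [Module k V] {f g : V →ₗ[k] k} (hf : f ≠ 0) (hg : g ≠ 0) :
    ∃ v, f v ≠ 0 ∧ g v ≠ 0 := by
  by_contra hno
  push Not at hno
  obtain ⟨u, hu⟩ : ∃ u, f u ≠ 0 := by by_contra hh; push Not at hh; exact hf (LinearMap.ext hh)
  obtain ⟨w, hw⟩ : ∃ w, g w ≠ 0 := by by_contra hh; push Not at hh; exact hg (LinearMap.ext hh)
  have hgu := hno u hu
  by_cases hfw : f w = 0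
  · refine hw ?_
    have := hno (u + w) (by rwa [map_add, hfw, add_zero])
    rwa [map_add, hgu, zero_add] at this
  · exact hw (hno w hfw)

end Cfsg.Agent.Lib.RootSub
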