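import Cfsg.Agent.Lib.RootSub.Reverse
import Cfsg.Agent.Lib.RootSub.Lines
import Cfsg.Agent.Lib.RootSub.Transfer
import Cfsg.Agent.Lib.RootSub.Quasisimple
import Cfsg.Agent.Lib.RootSub.Quadratic

/-!
Lines of a set of abstract root subgroups: the member of a line not opposite to a given member, and the elements
moving the members of a line.
-/

namespace Cfsg.Agent.Lib.RootSub

open Subgroup
open scoped commutatorElement

variable {G : Type*} [Group G] {S : Set (Subgroup G)} {A B C D : Subgroup G}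

/-- Every member has a rank one partner. -/
def HasPartners (S : Set (Subgroup G)) : Prop := ∀ A ∈ S, ∃ P ∈ S, Cfsg.IsRankOnePair A P

theorem HasPartners.not_isolated (hF : HasPartners S) (hA : A ∈ S) : ¬ Cfsg.IsIsolatedIn (Cfsg.FAdj S) S A := by
  obtain ⟨P, hP, h⟩ := hF A hA
  exact fun hi => (hi.2 P).1 ⟨hA, hP, h⟩

theorem hasPartners_of_not_isolated (h : ∀ A ∈ S, ¬ Cfsg.IsIsolatedIn (Cfsg.FAdj S) S A) : HasPartners S :=
  fun A hA => exists_partner hA (h A hA)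

theorem eq_of_common (hS : Cfsg.IsRootSubgroupSet S) (hF : HasPartners S) (hA : A ∈ S) (hB : B ∈ S) {x : G}
    (hxA : x ∈ A) (hxB : x ∈ B) (hx : x ≠ 1) : A = B := by
  obtain ⟨P, hP, h⟩ := hF A hA
  refine (inf_eq_bot_or_eq hS hA hP h hB).resolve_left fun e => hx ?_
  have : x ∈ A ⊓ B := ⟨hxA, hxB⟩
  rwa [e, mem_bot] at this

theorem eq_of_le (hS : Cfsg.IsRootSubgroupSet S) (hF : HasPartners S) (hA : A ∈ S) (hB : B ∈ S) (h : A ≤ B) :
    A = B := by
  obtain ⟨x, hx, hx1⟩ := (bot_or_exists_ne_one A).resolve_left (hS.ne_bot A hA)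
  exact eq_of_common hS hF hA hB hx (h hx) hx1

theorem not_pair_of_bot (h : ⁅A, B⁆ = ⊥) : ¬ Cfsg.IsRankOnePair A B := fun hp => commutator_ne_bot hp h

theorem not_pair_of_case (hS : Cfsg.IsRootSubgroupSet S) (hB : B ∈ S) (h : Cfsg.RootCommutatorCase S A B) :
    ¬ Cfsg.IsRankOnePair A B := by
  intro hp
  obtain ⟨a, ha, ha1⟩ := exists_ne_one_left hp
  exact false_of_central hp (fun x hx y hy => comm_of_mem hS hB hx hy) ha ha1 fun x hx y hy =>
    h.2.1 _ (mem_commutator_elem ha hx) y (mem_sup_right hy)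

theorem comm_surj (h : Cfsg.RootCommutatorCase S A B) {a : G} (ha : a ∈ A) (ha1 : a ≠ 1) {x : G}
    (hx : x ∈ ⁅A, B⁆) : ∃ b ∈ B, a * b * a⁻¹ * b⁻¹ = x := by
  let f : B → G := fun b => a * b * a⁻¹ * (b : G)⁻¹
  have hmul : ∀ b c : B, f (b * c) = f b * f c := by
    intro b c
    have hcomm := h.2.1 _ (mem_commutator_elem ha c.2) b (mem_sup_right b.2)
    simp only [f, Subgroup.coe_mul]
    calc a * (↑b * ↑c) * a⁻¹ * (↑b * ↑c)⁻¹ = a * b * a⁻¹ * ((a * c * a⁻¹ * (c : G)⁻¹) * (b : G)⁻¹) := by group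
      _ = a * b * a⁻¹ * ((b : G)⁻¹ * (a * c * a⁻¹ * (c : G)⁻¹)) := by
        congr 1
        rw [eq_inv_mul_iff_mul_eq, ← mul_assoc, ← hcomm, mul_inv_cancel_right]
      _ = _ := by group
  have hle : Subgroup.closure ((fun b : G => a * b * a⁻¹ * b⁻¹) '' (B : Set G)) ≤ (MonoidHom.mk' f hmul).range := by
    rw [closure_le]
    rintro _ ⟨b, hb, rfl⟩
    exact ⟨⟨b, hb⟩, rfl⟩
  rw [h.2.2.1 a ha ha1] at hle
  obtain ⟨b, hb⟩ := hle hx
  exact ⟨b, b.2, hb⟩

theorem exists_comm_ne_one (hS : Cfsg.IsRootSubgroupSet S) (h : Cfsg.RootCommutatorCase S A B) {a : G}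
    (ha : a ∈ A) (ha1 : a ≠ 1) : ∃ b ∈ B, a * b * a⁻¹ * b⁻¹ ≠ 1 := by
  obtain ⟨x, hx, hx1⟩ := (bot_or_exists_ne_one _).resolve_left (hS.ne_bot _ h.1)
  obtain ⟨b, hb, e⟩ := comm_surj h ha ha1 hx
  exact ⟨b, hb, e ▸ hx1⟩

theorem case_commute_left (h : Cfsg.RootCommutatorCase S A B) : ⁅A, ⁅A, B⁆⁆ = ⊥ := by
  refine le_bot_iff.mp (commutator_le.mpr fun a ha c hc => ?_)
  rw [mem_bot, commutatorElement_eq_one_iff_mul_comm]
  exact (h.2.1 c hc a (mem_sup_left ha)).symm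

theorem case_commute_right (h : Cfsg.RootCommutatorCase S A B) : ⁅B, ⁅A, B⁆⁆ = ⊥ := by
  have := case_commute_left (rootCase_symm h)
  rwa [Subgroup.commutator_comm B A] at this

/-- Two commuting disjoint members cannot both have all products opposite to a third member. -/
theorem exists_not_opp (hS : Cfsg.IsRootSubgroupSet S) {U : Subgroup G}
    (hCU : ⁅C, U⁆ = ⊥) (hdis : ∀ x ∈ C, x ∈ U → x = 1) (hCD : Cfsg.IsRankOnePair C D)
    (hUD : Cfsg.IsRankOnePair U D) (hcov : ∀ x ∈ C ⊔ U, x ≠ 1 → ∃ M ∈ S, x ∈ M) {u : G} (hu : u ∈ U) (hu1 : u ≠ 1) :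
    ∃ c ∈ C, c ≠ 1 ∧ u * c ≠ 1 ∧ ∃ M ∈ S, u * c ∈ M ∧ ¬ Cfsg.IsRankOnePair M D := by
  obtain ⟨d, hd, hd1, he⟩ := hUD.cond_left u⁻¹ (inv_mem hu) (inv_ne_one.mpr hu1)
  obtain ⟨c, hc, hc1, hec⟩ := hCD.cond_right d hd hd1
  rw [inv_inv] at he
  have hne : u * c ≠ 1 := fun e => hc1 (hdis c hc (by rw [eq_inv_of_mul_eq_one_right e]; exact inv_mem hu))
  obtain ⟨M, hM, hmM⟩ := hcov _ (mul_mem (mem_sup_right hu) (mem_sup_left hc)) hne
  refine ⟨c, hc, hc1, hne, M, hM, hmM, fun hMD => hne ?_⟩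
  have hm : u * c = c * u := (commute_of_commutator_eq_bot hCU hc hu).symm
  refine eq_one_of_fix hMD hmM (eq_of_commute hMD (conj_mem_unipotents (right_mem_unipotents hMD) (mem_sup_left hmM))
    (right_mem_unipotents hMD) ?_)
  -- both are conjugates, by `c`, of commuting images
  have h1 : Cfsg.conjBy D (u * c) = Cfsg.conjBy (Cfsg.conjBy U d⁻¹) c := by
    rw [he, conjBy_conjBy, hm]
  have h2 : D = Cfsg.conjBy (Cfsg.conjBy C d⁻¹) c := by
    rw [← hec, conjBy_conjBy, mul_inv_cancel]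
    exact (conjBy_of_mem (one_mem D)).symm
  intro x hx y hy
  rw [h1] at hx
  rw [h2] at hy
  simp only [mem_conjBy] at hx hy
  have := commute_of_commutator_eq_bot hCU hy hx
  have h3 := congrArg (fun z => c * d⁻¹ * z * (d * c⁻¹)) this
  exact (by simpa [mul_assoc] using h3 : y * x = x * y).symm

/-- A member commuting with `A` with commutator a member with an opposite `B`. -/
theorem partner_chain (hS : Cfsg.IsRootSubgroupSet S) (hF : HasPartners S) (hA : A ∈ S) (hB : B ∈ S) (hC : C ∈ S)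
    (hAB : Cfsg.IsRankOnePair A B) (hAC : ⁅A, C⁆ = ⊥) (hBC : ⁅B, C⁆ ∈ S) :
    ⁅A, ⁅B, C⁆⁆ ∈ S ∧ ⁅B, ⁅A, ⁅B, C⁆⁆⁆ = ⁅B, C⁆ := by
  set E := ⁅B, C⁆ with hEdef
  have hcase := rootCase_of_commutator_mem hS hB hC hBC
  have hcA : ∀ x ∈ A, ∀ y ∈ C, x * y = y * x := fun x hx y hy => commute_of_commutator_eq_bot hAC hx hy
  obtain ⟨b₀, hb₀, hb₀1⟩ := exists_ne_one_left (Cfsg.RankOnePair_symm hAB)
  -- the image of `C` under an element of `B`
  have himg : ∀ b ∈ B, b ≠ 1 → ∃ a' ∈ A, Cfsg.conjBy A b⁻¹ = Cfsg.conjBy B a' ∧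
      ⁅A, Cfsg.conjBy C b⁆ = Cfsg.conjBy E (b * a') := by
    intro b hb hb1
    obtain ⟨a, ha, -, he⟩ := hAB.cond_right b hb hb1
    refine ⟨a⁻¹, inv_mem ha, he.symm, ?_⟩
    have hA' : A = Cfsg.conjBy B (b * a⁻¹) := by
      rw [← conjBy_conjBy, he, conjBy_conjBy, mul_inv_cancel]
      exact (conjBy_of_mem (one_mem A)).symm
    have hCfix : Cfsg.conjBy C a⁻¹ = C := conjBy_of_commute fun x hx => hcA _ (inv_mem ha) x hx
    have hC' : Cfsg.conjBy C b = Cfsg.conjBy C (b * a⁻¹) := by rw [← conjBy_conjBy, hCfix]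
    rw [hC', hEdef, conjBy_commutator, ← hA']
  -- `A` does not commute with `E`
  have hexp : ∀ b ∈ B, ∀ a ∈ A, ∀ y ∈ Cfsg.conjBy C b, a * y * a⁻¹ * y⁻¹ ∈ ⁅A, E⁆ := by
    intro b hb a ha y hy
    obtain ⟨c, hc, rfl⟩ : ∃ c ∈ C, b * c * b⁻¹ = y := ⟨b⁻¹ * y * b, mem_conjBy.mp hy, by group⟩
    have he' : b * c * b⁻¹ * c⁻¹ ∈ E := mem_commutator_elem hb hc
    have : a * (b * c * b⁻¹) * a⁻¹ * (b * c * b⁻¹)⁻¹ = a * (b * c * b⁻¹ * c⁻¹) * a⁻¹ * (b * c * b⁻¹ * c⁻¹)⁻¹ := by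
      calc _ = a * (b * c * b⁻¹ * c⁻¹) * (c * a⁻¹) * c⁻¹ * (b * c * b⁻¹ * c⁻¹)⁻¹ := by group
        _ = a * (b * c * b⁻¹ * c⁻¹) * (a⁻¹ * c) * c⁻¹ * (b * c * b⁻¹ * c⁻¹)⁻¹ := by
          rw [hcA _ (inv_mem ha) c hc]
        _ = _ := by group
    rw [this]
    exact mem_commutator_elem ha he'
  have hle : ∀ b ∈ B, b ≠ 1 → ∃ a' ∈ A, Cfsg.conjBy A b⁻¹ = Cfsg.conjBy B a' ∧
      Cfsg.conjBy E (b * a') ≤ ⁅A, E⁆ := by
    intro b hb hb1
    obtain ⟨a', ha', h1, h2⟩ := himg b hb hb1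
    refine ⟨a', ha', h1, h2 ▸ commutator_le.mpr fun a ha y hy => ?_⟩
    rw [commutatorElement_def]
    exact hexp b hb a ha y hy
  have hES : E ∈ S := hBC
  have hEC : ⁅E, C⁆ = ⊥ := by
    have := case_commute_right hcase
    rwa [Subgroup.commutator_comm] at this
  have hBE : ⁅B, E⁆ = ⊥ := case_commute_left hcase
  have hAEne : ⁅A, E⁆ ≠ ⊥ := by
    intro h0
    obtain ⟨a', -, -, h⟩ := hle b₀ hb₀ hb₀1
    rw [h0, le_bot_iff, conjBy_eq_bot] at h
    exact hS.ne_bot E hES h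
  -- `E` is not opposite to `A`
  have hnp : ¬ Cfsg.IsRankOnePair E A := by
    intro hp
    obtain ⟨c, hc, hc1⟩ := exists_comm_ne_one hS hcase hb₀ hb₀1
    have hc1' : c ≠ 1 := by rintro rfl; exact hc1 (by group)
    have hC' := hS.conj_mem C hC b₀
    have hpC := line_partner hS hES hC hA hC' hEC hp (not_pair_of_bot (by rwa [Subgroup.commutator_comm]))
      (mem_commutator_elem hb₀ hc) hc1 hc hc1' ?_
    · obtain ⟨a', -, -, h2⟩ := himg b₀ hb₀ hb₀1
      refine not_pair_of_case hS hC' (rootCase_of_commutator_mem hS hA hC' ?_) (Cfsg.RankOnePair_symm hpC)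
      rw [h2]
      exact hS.conj_mem E hES _
    · rw [mem_conjBy]
      have hcom : c * (b₀ * c * b₀⁻¹ * c⁻¹) = (b₀ * c * b₀⁻¹ * c⁻¹) * c :=
        (commute_of_commutator_eq_bot hEC (mem_commutator_elem hb₀ hc) hc).symm
      rw [hcom]
      simpa [mul_assoc] using hc
  have hFS : ⁅A, E⁆ ∈ S := by
    rcases hS.pair A hA E hES with h | h | h
    · exact absurd h hAEne
    · exact absurd (Cfsg.RankOnePair_symm h) hnp
    · exact h.1
  refine ⟨hFS, ?_⟩
  set F := ⁅A, E⁆ with hFdef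
  have hcAE := rootCase_of_commutator_mem hS hA hES hFS
  have hAF : ⁅A, F⁆ = ⊥ := case_commute_left hcAE
  have hEF : ⁅E, F⁆ = ⊥ := case_commute_right hcAE
  have hEFne : E ≠ F := fun e => hS.ne_bot F hFS (by
    rw [hFdef]; nth_rewrite 1 [e]; exact hAF)
  have hmove : ∀ b ∈ B, b ≠ 1 → ∃ a' ∈ A, Cfsg.conjBy F b⁻¹ = Cfsg.conjBy E a' := by
    intro b hb hb1
    obtain ⟨a', ha', -, h⟩ := hle b hb hb1
    refine ⟨a', ha', ?_⟩
    rw [← eq_of_le hS hF (hS.conj_mem E hES _) hFS h, conjBy_conjBy]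
    group
  have hpart := commutator_partition hS (hF.not_isolated hES) hES hA (by rwa [Subgroup.commutator_comm])
  rw [Subgroup.commutator_comm E A, ← hFdef] at hpart
  obtain ⟨hmem, -, -, -⟩ := hpart
  have hEleN : ∀ a ∈ A, Cfsg.conjBy E a ≤ E ⊔ F := fun a ha =>
    (hmem.ge (Or.inl ⟨a, ha, rfl⟩)).2
  have hBFne : ⁅B, F⁆ ≠ ⊥ := by
    intro h0
    obtain ⟨a', ha', e⟩ := hmove b₀ hb₀ hb₀1
    rw [conjBy_of_commute fun x hx => commute_of_commutator_eq_bot h0 (inv_mem hb₀) hx] at e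
    refine hEFne ?_
    refine conjBy_injective a' ?_
    beta_reduce
    rw [← e, conjBy_of_commute fun x hx => commute_of_commutator_eq_bot hAF ha' hx]
  have hFNF : ∀ b ∈ B, Cfsg.conjBy F b⁻¹ ≤ E ⊔ F := by
    intro b hb
    rcases eq_or_ne b 1 with rfl | hb1
    · rw [inv_one, conjBy_of_mem (one_mem F)]; exact le_sup_right
    · obtain ⟨a', ha', e⟩ := hmove b hb hb1
      exact e ▸ hEleN a' ha'
  have hGS : ⁅B, F⁆ ∈ S := by
    rcases hS.pair B hB F hFS with h | h | h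
    · exact absurd h hBFne
    · exfalso
      have hp := Cfsg.RankOnePair_symm h
      refine inv_ne_one.mpr hb₀1 (eq_one_of_fix (Cfsg.RankOnePair_symm hp) (inv_mem hb₀) ?_)
      refine eq_of_commute hp (conj_mem_unipotents left_mem_unipotents (mem_sup_right (inv_mem hb₀)))
        left_mem_unipotents fun x hx y hy => ?_
      have habel : ∀ z ∈ E ⊔ F, z * y = y * z := by
        intro z hz
        have hle : E ⊔ F ≤ centralizer ({y} : Set G) := by
          refine sup_le ?_ ?_ <;> intro w hw <;> rw [mem_centralizer_singleton_iff]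
          · exact commute_of_commutator_eq_bot hEF hw hy
          · exact comm_of_mem hS hFS hw hy
        exact (mem_centralizer_singleton_iff.mp (hle hz))
      exact habel x (hFNF b₀ hb₀ hx)
    · exact h.1
  have hGle : ⁅B, F⁆ ≤ E ⊔ F := by
    refine commutator_le.mpr fun b hb f hf => ?_
    rw [commutatorElement_def]
    have h1 : b * f * b⁻¹ ∈ Cfsg.conjBy F b := conj_mem_conjBy hf
    have h2 := hFNF b⁻¹ (inv_mem hb)
    rw [inv_inv] at h2
    exact mul_mem (h2 h1) (mem_sup_right (inv_mem hf))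
  have hGmem : ⁅B, F⁆ ∈ (fun a : G => Cfsg.conjBy E a) '' (A : Set G) ∪ {F} := hmem.le ⟨hGS, hGle⟩
  have hcBF := rootCase_of_commutator_mem hS hB hFS hGS
  rcases hGmem with ⟨a, ha, e⟩ | e
  · beta_reduce at e
    rcases eq_or_ne a 1 with rfl | ha1
    · rw [← e, conjBy_of_mem (one_mem E)]
    · exfalso
      apply hBFne
      have hcent : ∀ y ∈ B, ∀ x ∈ E ⊔ Cfsg.conjBy E a, x * y = y * x := by
        intro y hy x hx
        have hle : E ⊔ Cfsg.conjBy E a ≤ centralizer ({y} : Set G) := by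
          refine sup_le ?_ ?_ <;> intro w hw <;> rw [mem_centralizer_singleton_iff]
          · exact (commute_of_commutator_eq_bot hBE hy hw).symm
          · rw [e] at hw
            exact hcBF.2.1 w hw y (mem_sup_left hy)
        exact (mem_centralizer_singleton_iff.mp (hle hx))
      refine le_bot_iff.mp (commutator_le.mpr fun y hy f hf => ?_)
      rw [mem_bot, commutatorElement_eq_one_iff_mul_comm]
      refine (hcent y hy f ?_).symm
      obtain ⟨x, hx, hxe⟩ := comm_surj hcAE ha ha1 hf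
      rw [← hxe]
      exact mul_mem (mem_sup_right (conj_mem_conjBy hx)) (mem_sup_left (inv_mem hx))
  · exfalso
    rw [Set.mem_singleton_iff] at e
    apply hBFne
    have := case_commute_left hcBF
    rwa [e] at this

/-- A rank one pair with a normalized abelian subgroup on which one member is quadratic. -/
theorem special_of_module (hp : Cfsg.IsRankOnePair A B) (hcA : ∀ x ∈ A, ∀ y ∈ A, x * y = y * x)
    (hcB : ∀ x ∈ B, ∀ y ∈ B, x * y = y * x) {N : Subgroup G} (habel : ∀ x ∈ N, ∀ y ∈ N, x * y = y * x)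
    (hnorm : ∀ x ∈ A ⊔ B, ∀ n ∈ N, x * n * x⁻¹ ∈ N)
    (hq : ∀ a ∈ A, ∀ a' ∈ A, ∀ n ∈ N, a' * (a * n * a⁻¹ * n⁻¹) = (a * n * a⁻¹ * n⁻¹) * a')
    (hX : ∃ x ∈ A ⊔ B, ∃ y ∈ A ⊔ B, ∃ n ∈ N, y * (x * n * x⁻¹ * n⁻¹) ≠ (x * n * x⁻¹ * n⁻¹) * y) :
    Cfsg.IsSpecialRankOnePair A B := by
  set X := A ⊔ B with hXdef
  let iN : CommGroup N := { (inferInstance : Group N) with mul_comm := fun a b => Subtype.ext (habel a a.2 b b.2) }
  let iA : DistribMulAction X (Additive N) :=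
    { smul := fun g n => Additive.ofMul ⟨g * n.toMul * (g : G)⁻¹, hnorm g g.2 _ n.toMul.2⟩
      one_smul := fun n => congrArg Additive.ofMul (Subtype.ext
        (show (1 : G) * n.toMul * (1 : G)⁻¹ = n.toMul by group))
      mul_smul := fun g h n => congrArg Additive.ofMul (Subtype.ext
        (show ((g : G) * h) * n.toMul * ((g : G) * h)⁻¹ = g * (h * n.toMul * (h : G)⁻¹) * (g : G)⁻¹ by group))
      smul_zero := fun g => congrArg Additive.ofMul (Subtype.ext
        (show (g : G) * 1 * (g : G)⁻¹ = 1 by group))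
      smul_add := fun g m n => congrArg Additive.ofMul (Subtype.ext
        (show (g : G) * (m.toMul * n.toMul) * (g : G)⁻¹ =
          (g * m.toMul * (g : G)⁻¹) * (g * n.toMul * (g : G)⁻¹) by group)) }
  have hmapA : (A.subgroupOf X).map X.subtype = A := map_subgroupOf_eq_of_le le_sup_left
  have hmapB : (B.subgroupOf X).map X.subtype = B := map_subgroupOf_eq_of_le le_sup_right
  have hp' : Cfsg.IsRankOneGroup X (A.subgroupOf X) (B.subgroupOf X) := by
    refine ⟨Subgroup.map_injective X.subtype_injective ?_, (isRankOnePair_map_iff X.subtype_injective).mp ?_⟩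
    · rw [Subgroup.map_sup, hmapA, hmapB, ← MonoidHom.range_eq_map, Subgroup.range_subtype]
    · rwa [hmapA, hmapB]
  have hval : ∀ (g : X) (n : Additive N), ((g • n).toMul : G) = g * n.toMul * (g : G)⁻¹ := fun g n => rfl
  have hsub : ∀ (g : X) (n : Additive N), ((g • n - n).toMul : G) = g * n.toMul * (g : G)⁻¹ * (n.toMul : G)⁻¹ := by
    intro g n
    rw [sub_eq_add_neg]
    rfl
  have hqA := actsQuadratically_of (A := A.subgroupOf X) (N := Additive N) fun a ha a' ha' n => by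
    refine Additive.toMul.injective (Subtype.ext ?_)
    rw [hval, hsub, hq (a : G) ha (a' : G) ha' _ n.toMul.2, mul_inv_cancel_right]
  obtain ⟨x, hx, y, hy, n, hn, hne⟩ := hX
  have hnq : ∃ x y : X, (delta y * delta x : AddMonoid.End (Additive N)) ≠ 0 := by
    refine ⟨⟨x, hx⟩, ⟨y, hy⟩, fun e => hne ?_⟩
    have := DFunLike.congr_fun e (Additive.ofMul (⟨n, hn⟩ : N))
    change (⟨y, hy⟩ : X) • ((⟨x, hx⟩ : X) • Additive.ofMul (⟨n, hn⟩ : N) - Additive.ofMul (⟨n, hn⟩ : N)) -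
      ((⟨x, hx⟩ : X) • Additive.ofMul (⟨n, hn⟩ : N) - Additive.ofMul (⟨n, hn⟩ : N)) = 0 at this
    have := congrArg (fun m : Additive N => (m.toMul : G)) (sub_eq_zero.mp this)
    simp only [hval, hsub, toMul_ofMul] at this
    exact eq_mul_of_mul_inv_eq this
  refine ⟨hp, fun a ha ha1 b hb hb1 he => ?_⟩
  have := quadratic_special hp' hqA hnq (a := ⟨a, mem_sup_left ha⟩) (b := ⟨b, mem_sup_right hb⟩) ha hb ?_
  · exact congrArg Subtype.val this
  · refine Subgroup.map_injective X.subtype_injective ?_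
    rw [map_conjBy, map_conjBy, hmapA, hmapB]
    exact he

theorem special_of_chain (hS : Cfsg.IsRootSubgroupSet S) (hF : HasPartners S) (hA : A ∈ S) (hB : B ∈ S) (hC : C ∈ S)
    (hAB : Cfsg.IsRankOnePair A B) (hAC : ⁅A, C⁆ = ⊥) (hBC : ⁅B, C⁆ ∈ S) : Cfsg.IsSpecialRankOnePair A B := by
  obtain ⟨hFS, hBF⟩ := partner_chain hS hF hA hB hC hAB hAC hBC
  set E := ⁅B, C⁆ with hEdef
  set F := ⁅A, E⁆ with hFdef
  have hcB := rootCase_of_commutator_mem hS hB hC hBC
  have hcA := rootCase_of_commutator_mem hS hA hBC hFS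
  have hcBF := rootCase_of_commutator_mem hS hB hFS (hBF ▸ hBC)
  have hAF : ⁅A, F⁆ = ⊥ := case_commute_left hcA
  have hEF : ⁅E, F⁆ = ⊥ := case_commute_right hcA
  have hBE : ⁅B, E⁆ = ⊥ := case_commute_left hcB
  have habel : ∀ x ∈ E ⊔ F, ∀ y ∈ E ⊔ F, x * y = y * x := by
    have h1 : ∀ y ∈ E ⊔ F, ∀ x ∈ E, x * y = y * x := by
      intro y hy x hx
      have hle : E ⊔ F ≤ centralizer ({x} : Set G) := by
        refine sup_le ?_ ?_ <;> intro w hw <;> rw [mem_centralizer_singleton_iff]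
        · exact comm_of_mem hS hBC hw hx
        · exact (commute_of_commutator_eq_bot hEF hx hw).symm
      exact (mem_centralizer_singleton_iff.mp (hle hy)).symm
    have h2 : ∀ y ∈ E ⊔ F, ∀ x ∈ F, x * y = y * x := by
      intro y hy x hx
      have hle : E ⊔ F ≤ centralizer ({x} : Set G) := by
        refine sup_le ?_ ?_ <;> intro w hw <;> rw [mem_centralizer_singleton_iff]
        · exact commute_of_commutator_eq_bot hEF hw hx
        · exact comm_of_mem hS hFS hw hx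
      exact (mem_centralizer_singleton_iff.mp (hle hy)).symm
    intro x hx y hy
    have hle : E ⊔ F ≤ centralizer ({y} : Set G) := by
      refine sup_le ?_ ?_ <;> intro w hw <;> rw [mem_centralizer_singleton_iff]
      · exact h1 y hy w hw
      · exact h2 y hy w hw
    exact mem_centralizer_singleton_iff.mp (hle hx)
  have hstep : ∀ (P : Subgroup G), (∀ x ∈ P, ∀ e ∈ E, x * e * x⁻¹ ∈ E ⊔ F) →
      (∀ x ∈ P, ∀ f ∈ F, x * f * x⁻¹ ∈ E ⊔ F) → P ≤ normalizer ((E ⊔ F : Subgroup G) : Set G) := by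
    intro P h1 h2 x hx
    have hle : ∀ z ∈ P, Cfsg.conjBy (E ⊔ F) z ≤ E ⊔ F := by
      intro z hz
      rw [conjBy_sup]
      refine sup_le ?_ ?_ <;> intro w hw <;> rw [mem_conjBy] at hw
      · simpa [mul_assoc] using h1 z hz _ hw
      · simpa [mul_assoc] using h2 z hz _ hw
    refine conjBy_eq_self_iff.mp (le_antisymm (hle x hx) ?_)
    have := conjBy_mono (hle x⁻¹ (inv_mem hx)) x
    rwa [conjBy_conjBy, mul_inv_cancel, conjBy_of_mem (one_mem _)] at this
  have hnA : A ≤ normalizer ((E ⊔ F : Subgroup G) : Set G) := by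
    refine hstep A (fun x hx e he => ?_) (fun x hx f hf => ?_)
    · rw [show x * e * x⁻¹ = (x * e * x⁻¹ * e⁻¹) * e by group]
      exact mul_mem (mem_sup_right (mem_commutator_elem hx he)) (mem_sup_left he)
    · rw [commute_of_commutator_eq_bot hAF hx hf, mul_inv_cancel_right]
      exact mem_sup_right hf
  have hnB : B ≤ normalizer ((E ⊔ F : Subgroup G) : Set G) := by
    refine hstep B (fun x hx e he => ?_) (fun x hx f hf => ?_)
    · rw [commute_of_commutator_eq_bot hBE hx he, mul_inv_cancel_right]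
      exact mem_sup_left he
    · rw [show x * f * x⁻¹ = (x * f * x⁻¹ * f⁻¹) * f by group]
      exact mul_mem (mem_sup_left (hBF ▸ mem_commutator_elem hx hf)) (mem_sup_right hf)
  have hqA : ∀ a ∈ A, ∀ n ∈ E ⊔ F, a * n * a⁻¹ * n⁻¹ ∈ F := by
    intro a ha n hn
    have hEn : E ≤ normalizer (F : Set G) := fun e he =>
      conjBy_eq_self_iff.mp (conjBy_of_commute fun f hf => commute_of_commutator_eq_bot hEF he hf)
    rw [← SetLike.mem_coe, coe_mul_of_left_le_normalizer_right _ _ hEn] at hn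
    obtain ⟨e, he, f, hf, rfl⟩ := hn
    have : a * (e * f) * a⁻¹ * (e * f)⁻¹ = a * e * a⁻¹ * e⁻¹ := by
      calc _ = a * e * (f * a⁻¹) * f⁻¹ * e⁻¹ := by group
        _ = a * e * (a⁻¹ * f) * f⁻¹ * e⁻¹ := by rw [commute_of_commutator_eq_bot hAF (inv_mem ha) hf]
        _ = _ := by group
    rw [this]
    exact mem_commutator_elem ha he
  refine special_of_module hAB (fun x hx y hy => comm_of_mem hS hA hx hy) (fun x hx y hy => comm_of_mem hS hB hx hy)
    habel ?_ (fun a ha a' ha' n hn => commute_of_commutator_eq_bot hAF ha' (hqA a ha n hn)) ?_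
  · intro x hx n hn
    exact (mem_normalizer_iff.mp (sup_le hnA hnB hx) n).mp hn
  · obtain ⟨a, ha, ha1⟩ := exists_ne_one_left hAB
    obtain ⟨e, he, hne⟩ := exists_comm_ne_one hS hcA ha ha1
    obtain ⟨b, hb, hnb⟩ := exists_comm_ne_one hS (rootCase_symm hcBF) (mem_commutator_elem ha he) hne
    refine ⟨a, mem_sup_left ha, b, mem_sup_right hb, e, mem_sup_left he, fun h => hnb ?_⟩
    rw [← h]
    group

end Cfsg.Agent.Lib.RootSub
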