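import Cfsg.Agent.Lib.RootSub.TriLine

/-!
Lines, movers, generation and centralizer sets for classes of abstract root subgroups.
-/

namespace Cfsg.Agent.Lib.RootSub

open Subgroup
open scoped commutatorElement

variable {G : Type*} [Group G] {S : Set (Subgroup G)} {A B C : Subgroup G}

theorem commute_commutator {P Q : Subgroup G} {c : G} (hP : ∀ x ∈ P, x * c = c * x) (hQ : ∀ x ∈ Q, x * c = c * x) :
    ∀ x ∈ ⁅P, Q⁆, x * c = c * x := by
  intro x hx
  have hle : ⁅P, Q⁆ ≤ centralizer ({c} : Set G) := by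
    refine commutator_le.mpr fun p hp q hq => ?_
    have h1 : p ∈ centralizer ({c} : Set G) := mem_centralizer_singleton_iff.mpr (hP p hp)
    have h2 : q ∈ centralizer ({c} : Set G) := mem_centralizer_singleton_iff.mpr (hQ q hq)
    rw [commutatorElement_def]
    exact mul_mem (mul_mem (mul_mem h1 h2) (inv_mem h1)) (inv_mem h2)
  exact mem_centralizer_singleton_iff.mp (hle hx)

theorem bot_of_commute {P Q : Subgroup G} (h : ∀ x ∈ P, ∀ y ∈ Q, x * y = y * x) : ⁅P, Q⁆ = ⊥ :=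
  le_bot_iff.mp (commutator_le.mpr fun x hx y hy => by
    rw [mem_bot, commutatorElement_eq_one_iff_mul_comm]; exact h x hx y hy)

theorem chain_eq (hS : Cfsg.IsRootSubgroupSet S) (hF : HasPartners S) (hA : A ∈ S) (hB : B ∈ S) (hC : C ∈ S)
    (hAB : Cfsg.IsRankOnePair A B) (hAC : ⁅A, C⁆ = ⊥) (hBC : ⁅B, C⁆ ∈ S)
    (hcov : ∀ x ∈ A ⊔ C, x ≠ 1 → ∃ M ∈ S, x ∈ M) : ⁅A, ⁅B, C⁆⁆ = C := by
  obtain ⟨hFS, hBF⟩ := partner_chain hS hF hA hB hC hAB hAC hBC
  by_contra hne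
  set E := ⁅B, C⁆ with hEdef
  set F := ⁅A, E⁆ with hFdef
  have hcBC := rootCase_of_commutator_mem hS hB hC hBC
  have hcAE := rootCase_of_commutator_mem hS hA hBC hFS
  have hcBF := rootCase_of_commutator_mem hS hB hFS (hBF ▸ hBC)
  have hEC : ⁅C, E⁆ = ⊥ := case_commute_right hcBC
  have hcf : ∀ c ∈ C, ∀ x ∈ F, x * c = c * x := fun c hc => commute_commutator
    (fun x hx => commute_of_commutator_eq_bot hAC hx hc) (fun x hx => (commute_of_commutator_eq_bot hEC hc hx).symm)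
  obtain ⟨b, hb, hb1⟩ := exists_ne_one_left (Cfsg.RankOnePair_symm hAB)
  obtain ⟨c, hc, he1⟩ := exists_comm_ne_one hS hcBC hb hb1
  have hc1 : c ≠ 1 := by rintro rfl; exact he1 (by group)
  obtain ⟨f, hf, hfe⟩ := comm_surj hcBF hb hb1 (x := b * c * b⁻¹ * c⁻¹) (hBF.symm ▸ mem_commutator_elem hb hc)
  set z := c * f⁻¹ with hz
  have hz1 : z ≠ 1 := fun h => hne (eq_of_common hS hF hFS hC hf (mul_inv_eq_one.mp h ▸ hc) (fun h0 => hc1 (by
    rw [hz, h0, inv_one, mul_one] at h; exact h)))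
  have hzA : ∀ x ∈ A, x * z = z * x := by
    intro x hx
    rw [hz, ← mul_assoc, commute_of_commutator_eq_bot hAC hx hc, mul_assoc,
      commute_of_commutator_eq_bot (case_commute_left hcAE) hx (inv_mem hf), ← mul_assoc]
  have hzb : b * z = z * b := by
    have e1 : b * c * b⁻¹ = (b * c * b⁻¹ * c⁻¹) * c := by group
    have e2 : b * f * b⁻¹ = (b * c * b⁻¹ * c⁻¹) * f := by rw [← hfe]; group
    have e3 : (b * c * b⁻¹ * c⁻¹) * z = z * (b * c * b⁻¹ * c⁻¹) := by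
      have h1 := commute_of_commutator_eq_bot hEC hc (mem_commutator_elem hb hc)
      have h2 := commute_of_commutator_eq_bot (case_commute_right hcAE) (mem_commutator_elem hb hc) (inv_mem hf)
      rw [hz, ← mul_assoc, ← h1, mul_assoc, h2, ← mul_assoc]
    calc b * z = (b * c * b⁻¹) * (b * f * b⁻¹)⁻¹ * b := by rw [hz]; group
      _ = (b * c * b⁻¹ * c⁻¹) * z * (b * c * b⁻¹ * c⁻¹)⁻¹ * b := by rw [e2, hz]; rw [e1]; group
      _ = z * b := by rw [e3, mul_inv_cancel_right]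
  have hzX : ∀ x ∈ A ⊔ B, z * x = x * z := by
    have hne' : Cfsg.conjBy A b ≠ A := fun h => hb1 (eq_one_of_fix (Cfsg.RankOnePair_symm hAB) hb h)
    rw [← sup_eq_of_mem hAB left_mem_unipotents (conj_mem_unipotents left_mem_unipotents (mem_sup_right hb))
      hne'.symm]
    have hle : A ⊔ Cfsg.conjBy A b ≤ centralizer ({z} : Set G) := by
      have h1 : A ≤ centralizer ({z} : Set G) := fun x hx => mem_centralizer_singleton_iff.mpr (hzA x hx)
      exact sup_le h1 (conjBy_le_of_le h1 (mem_centralizer_singleton_iff.mpr hzb))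
    exact fun x hx => (mem_centralizer_singleton_iff.mp (hle hx)).symm
  obtain ⟨a, ha, ha1⟩ := exists_ne_one_left hAB
  have hAC' : C ≠ A := fun h => not_pair_of_case hS hA (rootCase_of_commutator_mem hS hB hA (h ▸ hBC))
    (Cfsg.RankOnePair_symm hAB)
  have hac1 : a * c ≠ 1 := fun h => hAC' (eq_of_common hS hF hC hA hc
    (by rw [eq_inv_of_mul_eq_one_right h]; exact inv_mem ha) hc1)
  obtain ⟨M, hM, hmM⟩ := hcov _ (mul_mem (mem_sup_left ha) (mem_sup_right hc)) hac1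
  have hcomm : ∀ e ∈ E, a * c * e * (a * c)⁻¹ * e⁻¹ = a * e * a⁻¹ * e⁻¹ := by
    intro e he
    calc _ = a * (c * e) * c⁻¹ * a⁻¹ * e⁻¹ := by group
      _ = a * (e * c) * c⁻¹ * a⁻¹ * e⁻¹ := by rw [commute_of_commutator_eq_bot hEC hc he]
      _ = _ := by group
  obtain ⟨e, he, hef⟩ := comm_surj hcAE ha ha1 hf
  obtain ⟨e', he', hne1⟩ := exists_comm_ne_one hS hcAE ha ha1
  rcases hS.pair M hM E hBC with h | h | h
  · refine hne1 ?_
    rw [← hcomm e' he', commute_of_commutator_eq_bot h hmM he']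
    group
  · exact false_of_central h (fun x hx y hy => comm_of_mem hS hBC hx hy) hmM hac1 fun x hx y hy => by
      rw [hcomm x hx]
      exact hcAE.2.1 _ (mem_commutator_elem ha hx) y (mem_sup_right hy)
  · have hzM : z * a ∈ Cfsg.conjBy M e := by
      have h1 := conj_mem_conjBy (g := e) hmM
      have h3 : f⁻¹ * (a * c) = z * a := by
        have hfa := commute_of_commutator_eq_bot (case_commute_left hcAE) ha (inv_mem hf)
        have hfc := hcf c hc f⁻¹ (inv_mem hf)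
        rw [hz, ← mul_assoc, ← hfa, mul_assoc, hfc, mul_assoc, ← hfa, ← mul_assoc,
          commute_of_commutator_eq_bot hAC ha hc, mul_assoc]
      have h2 : e * (a * c) * e⁻¹ = z * a := by
        rw [← h3, ← hef, ← hcomm e he]
        group
      rwa [h2] at h1
    exact hz1 (shift hS hA hB hAB ha ha1 hzX (hS.conj_mem M hM e) hzM).1

theorem linePartners_symm (hA : A ∈ S) (h : B ∈ Cfsg.linePartners S A) : A ∈ Cfsg.linePartners S B := by
  obtain ⟨⟨-, hne, hc⟩, hp⟩ := h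
  refine ⟨⟨hA, hne.symm, by rwa [Subgroup.commutator_comm]⟩, ?_⟩
  rwa [sup_comm]

theorem partition_conj {N : Subgroup G} (hS : Cfsg.IsRootSubgroupSet S)
    (h : Cfsg.IsSubgroupPartition N (Cfsg.membersIn S N)) (g : G) :
    Cfsg.IsSubgroupPartition (Cfsg.conjBy N g) (Cfsg.membersIn S (Cfsg.conjBy N g)) := by
  have hback : ∀ M ∈ Cfsg.membersIn S (Cfsg.conjBy N g), Cfsg.conjBy M g⁻¹ ∈ Cfsg.membersIn S N := by
    rintro M ⟨hM, hle⟩
    refine ⟨hS.conj_mem M hM _, ?_⟩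
    have := conjBy_mono hle g⁻¹
    rwa [conjBy_conjBy, inv_mul_cancel, conjBy_of_mem (one_mem N)] at this
  refine ⟨fun M hM => hM.2, fun x hx hx1 => ?_, fun M hM M' hM' hne => ?_⟩
  · obtain ⟨M, ⟨hM, hle⟩, hxM⟩ := h.2.1 (g⁻¹ * x * g) (mem_conjBy.mp hx)
      (fun h0 => hx1 (by
        calc x = g * (g⁻¹ * x * g) * g⁻¹ := by group
          _ = 1 := by rw [h0]; group))
    exact ⟨_, ⟨hS.conj_mem M hM g, conjBy_mono hle g⟩, mem_conjBy.mpr hxM⟩
  · rw [eq_bot_iff]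
    intro x hx
    have h0 := h.2.2 _ (hback M hM) _ (hback M' hM') (fun e => hne (conjBy_injective g⁻¹ e))
    have hx' : g⁻¹ * x * g ∈ Cfsg.conjBy M g⁻¹ ⊓ Cfsg.conjBy M' g⁻¹ :=
      ⟨mem_conjBy.mpr (by simpa [mul_assoc] using hx.1), mem_conjBy.mpr (by simpa [mul_assoc] using hx.2)⟩
    rw [h0, mem_bot] at hx'
    rw [mem_bot]
    calc x = g * (g⁻¹ * x * g) * g⁻¹ := by group
      _ = 1 := by rw [hx']; group

theorem linePartners_conj (hS : Cfsg.IsRootSubgroupSet S) (h : B ∈ Cfsg.linePartners S A) (g : G) :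
    Cfsg.conjBy B g ∈ Cfsg.linePartners S (Cfsg.conjBy A g) := by
  obtain ⟨⟨hB, hne, hc⟩, hp⟩ := h
  refine ⟨⟨hS.conj_mem B hB g, fun e => hne (conjBy_injective g e), ?_⟩, ?_⟩
  · rw [← conjBy_commutator, hc, conjBy_eq_bot]
  · rw [← conjBy_sup]
    exact partition_conj hS hp g

theorem linePartner_of_case (hS : Cfsg.IsRootSubgroupSet S) (hF : HasPartners S) (hA : A ∈ S) (hB : B ∈ S)
    (h : ⁅A, B⁆ ∈ S) : A ∈ Cfsg.linePartners S ⁅A, B⁆ :=
  (commutator_partition hS (hF.not_isolated hA) hA hB h).2.2.1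

/-- In a line through `A`, a member not opposite to a partner of `A`. -/
theorem line_member (hS : Cfsg.IsRootSubgroupSet S) (hF : HasPartners S) {L P : Subgroup G} (hA : A ∈ S)
    (hL : L ∈ Cfsg.linePartners S A) (hP : P ∈ S) (hAP : Cfsg.IsRankOnePair A P) :
    ∃ M ∈ Cfsg.linePartners S A, A ⊔ M = A ⊔ L ∧ ⁅P, M⁆ ∈ S ∧ ⁅A, ⁅P, M⁆⁆ = M ∧
      Cfsg.membersIn S (A ⊔ L) = (fun e : G => Cfsg.conjBy A e) '' ((⁅P, M⁆ : Subgroup G) : Set G) ∪ {M} := by
  obtain ⟨⟨hLS, hLA, hAL⟩, hpart⟩ := hL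
  have hdis : ∀ x ∈ A, x ∈ L → x = 1 := fun x hxA hxL => by
    by_contra h; exact hLA (eq_of_common hS hF hLS hA hxL hxA h)
  have hcov : ∀ x ∈ A ⊔ L, x ≠ 1 → ∃ M ∈ S, x ∈ M := fun x hx hx1 =>
    let ⟨M, hM, hxM⟩ := hpart.2.1 x hx hx1; ⟨M, hM.1, hxM⟩
  have hin : ∀ M ∈ S, ∀ x ∈ A ⊔ L, x ≠ 1 → x ∈ M → M ≤ A ⊔ L := fun M hM x hx hx1 hxM => by
    obtain ⟨M', hM', hxM'⟩ := hpart.2.1 x hx hx1
    exact eq_of_common hS hF hM hM'.1 hxM hxM' hx1 ▸ hM'.2
  obtain ⟨M, hM, hMle, hMA, hMP, hLM⟩ : ∃ M ∈ S, M ≤ A ⊔ L ∧ M ≠ A ∧ ¬ Cfsg.IsRankOnePair M P ∧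
      ∃ l ∈ L, l ≠ 1 ∧ l ∈ A ⊔ M := by
    obtain ⟨l, hl, hl1⟩ := (bot_or_exists_ne_one L).resolve_left (hS.ne_bot L hLS)
    by_cases hLP : Cfsg.IsRankOnePair L P
    · obtain ⟨c, hc, -, hlc1, M, hM, hlc, hMP⟩ := exists_not_opp hS hAL hdis hAP hLP hcov hl hl1
      refine ⟨M, hM, hin M hM _ (mul_mem (mem_sup_right hl) (mem_sup_left hc)) hlc1 hlc, ?_, hMP, l, hl, hl1, ?_⟩
      · rintro rfl
        exact hl1 (hdis l ((mul_mem_cancel_right hc).mp hlc) hl)
      · simpa using mul_mem (mem_sup_right (S := A) hlc) (mem_sup_left (T := M) (inv_mem hc))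
    · exact ⟨L, hLS, le_sup_right, hLA, hLP, l, hl, hl1, mem_sup_right hl⟩
  obtain ⟨l, hl, hl1, hlAM⟩ := hLM
  have hAM : ⁅A, M⁆ = ⊥ := by
    refine bot_of_commute fun x hx y hy => ?_
    have hle : A ⊔ L ≤ centralizer ({x} : Set G) := by
      refine sup_le ?_ ?_ <;> intro w hw <;> rw [mem_centralizer_singleton_iff]
      · exact comm_of_mem hS hA hw hx
      · exact (commute_of_commutator_eq_bot hAL hx hw).symm
    exact (mem_centralizer_singleton_iff.mp (hle (hMle hy))).symm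
  have hAMle : A ⊔ M ≤ A ⊔ L := sup_le le_sup_left hMle
  have hE : ⁅P, M⁆ ∈ S := by
    rcases hS.pair P hP M hM with h | h | h
    · exfalso
      obtain ⟨a, ha, ha1⟩ := exists_ne_one_left hAP
      obtain ⟨m, hm, hm1⟩ := (bot_or_exists_ne_one M).resolve_left (hS.ne_bot M hM)
      have hma : m * a ≠ 1 := fun h0 => hMA (eq_of_common hS hF hM hA hm
        (by rw [eq_inv_of_mul_eq_one_left h0]; exact inv_mem ha) hm1)
      obtain ⟨E, hE, hmE⟩ := hcov _ (mul_mem (hMle hm) (mem_sup_left ha)) hma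
      refine hm1 (shift hS hA hP hAP ha ha1 (fun x hx => ?_) hE hmE).1
      have hle : A ⊔ P ≤ centralizer ({m} : Set G) := by
        refine sup_le ?_ ?_ <;> intro w hw <;> rw [mem_centralizer_singleton_iff]
        · exact commute_of_commutator_eq_bot hAM hw hm
        · exact commute_of_commutator_eq_bot h hw hm
      exact (mem_centralizer_singleton_iff.mp (hle hx)).symm
    · exact absurd (Cfsg.RankOnePair_symm h) hMP
    · exact h.1
  have heq := chain_eq hS hF hA hP hM hAP hAM hE fun x hx => hcov x (hAMle hx)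
  obtain ⟨hmem, hpart', hAln, -⟩ := commutator_partition hS (hF.not_isolated hA) hA hE (by rw [heq]; exact hM)
  rw [heq] at hmem hpart' hAln
  have hLle : L ≤ A ⊔ M := by
    obtain ⟨C, hC, hlC⟩ := hpart'.2.1 l hlAM hl1
    exact eq_of_common hS hF hLS hC.1 hl hlC hl1 ▸ hC.2
  have hsup : A ⊔ M = A ⊔ L := le_antisymm hAMle (sup_le le_sup_left hLle)
  exact ⟨M, linePartners_symm hM hAln, hsup, hE, heq, hsup ▸ hmem⟩

/-- In the commutator case there is a member moving the commutator back. -/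
theorem exists_mover (hS : Cfsg.IsRootSubgroupSet S) (hF : HasPartners S) {U V : Subgroup G} (hU : U ∈ S)
    (hV : V ∈ S) (h : ⁅U, V⁆ ∈ S) : ∃ T ∈ S, ⁅⁅U, V⁆, T⁆ = U ∧ Cfsg.IsRankOnePair T V := by
  obtain ⟨P, hP, hWP⟩ := hF _ h
  obtain ⟨hmem, -, hUW, -⟩ := commutator_partition hS (hF.not_isolated hU) hU hV h
  obtain ⟨M, hM, hsup, hE, heq, -⟩ := line_member hS hF h hUW hP hWP
  have hMin : M ∈ Cfsg.membersIn S (U ⊔ ⁅U, V⁆) :=
    ⟨hM.1.1, by rw [sup_comm, ← hsup]; exact le_sup_right⟩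
  rcases hmem.le hMin with ⟨v, hv, hvM⟩ | e
  · have hT := hS.conj_mem _ hE v⁻¹
    have hWv : Cfsg.conjBy ⁅U, V⁆ v⁻¹ = ⁅U, V⁆ := conjBy_of_commute fun x hx =>
      ((rootCase_of_commutator_mem hS hU hV h).2.1 x hx _ (mem_sup_right (inv_mem hv))).symm
    have heT : ⁅⁅U, V⁆, Cfsg.conjBy ⁅P, M⁆ v⁻¹⁆ = U := by
      rw [← hWv, ← conjBy_commutator, heq, ← hvM, conjBy_conjBy, inv_mul_cancel]
      exact conjBy_of_mem (one_mem U)
    exact ⟨_, hT, heT, Cfsg.RankOnePair_symm (reverse_isRankOnePair hS hU hV h hT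
      (by rw [Subgroup.commutator_comm, heT]))⟩
  · exact absurd e hM.1.2.1

/-- The two kinds of movers of a line. -/
theorem line_data (hS : Cfsg.IsRootSubgroupSet S) (hF : HasPartners S) {L P : Subgroup G} (hA : A ∈ S)
    (hL : L ∈ Cfsg.linePartners S A) (hP : P ∈ S) (hAP : Cfsg.IsRankOnePair A P) :
    ∃ M T : Subgroup G, M ∈ Cfsg.linePartners S A ∧ ⁅P, M⁆ ∈ S ∧ T ∈ Cfsg.linePartners S A ∧ ⁅M, T⁆ = A ∧
      ⁅A, ⁅P, M⁆⁆ = M ∧
      Cfsg.membersIn S (A ⊔ L) = (fun e : G => Cfsg.conjBy A e) '' ((⁅P, M⁆ : Subgroup G) : Set G) ∪ {M} ∧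
      Cfsg.membersIn S (A ⊔ L) = (fun t : G => Cfsg.conjBy M t) '' (T : Set G) ∪ {A} := by
  obtain ⟨M, hM, hsup, hE, heq, hmem⟩ := line_member hS hF hA hL hP hAP
  obtain ⟨T, hT, hTeq, -⟩ := exists_mover hS hF hA hE (by rw [heq]; exact hM.1.1)
  rw [heq] at hTeq
  have hmem' := (commutator_partition hS (hF.not_isolated hM.1.1) hM.1.1 hT (by rw [hTeq]; exact hA)).1
  have hTA := linePartner_of_case hS hF hT hM.1.1 (by rw [Subgroup.commutator_comm, hTeq]; exact hA)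
  rw [Subgroup.commutator_comm, hTeq] at hTA
  rw [hTeq, sup_comm, hsup] at hmem'
  exact ⟨M, T, hM, hE, hTA, hTeq, heq, hmem, hmem'⟩

theorem two_transitive_line (hS : Cfsg.IsRootSubgroupSet S) (hF : HasPartners S) {L P M T : Subgroup G} (hA : A ∈ S)
    (hM : M ∈ S) (hMA : M ≠ A) (hTA : ⁅A, T⁆ = ⊥) (hE : ⁅P, M⁆ ∈ S) (hAE : ⁅A, ⁅P, M⁆⁆ = M)
    (h1 : Cfsg.membersIn S (A ⊔ L) = (fun e : G => Cfsg.conjBy A e) '' ((⁅P, M⁆ : Subgroup G) : Set G) ∪ {M})
    (h2 : Cfsg.membersIn S (A ⊔ L) = (fun t : G => Cfsg.conjBy M t) '' (T : Set G) ∪ {A})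
    {K : Subgroup G} (hEK : ⁅P, M⁆ ≤ K) (hTK : T ≤ K) {C₁ C₂ : Subgroup G}
    (hC₁ : C₁ ∈ Cfsg.membersIn S (A ⊔ L)) (hC₂ : C₂ ∈ Cfsg.membersIn S (A ⊔ L)) (hne : C₁ ≠ C₂) :
    ∃ x ∈ K, Cfsg.conjBy C₁ x = M ∧ Cfsg.conjBy C₂ x = A := by
  have hcase := rootCase_of_commutator_mem hS hA hE (hAE.symm ▸ hM)
  have hfixM : ∀ e ∈ ⁅P, M⁆, Cfsg.conjBy M e = M := fun e he => conjBy_of_commute fun y hy =>
    commute_of_commutator_eq_bot (by have := case_commute_right hcase; rwa [hAE] at this) he hy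
  have hfixA : ∀ t ∈ T, Cfsg.conjBy A t = A := fun t ht => conjBy_of_commute fun y hy =>
    (commute_of_commutator_eq_bot hTA hy ht).symm
  have hNE : ∀ e ∈ ⁅P, M⁆, ∀ D ∈ Cfsg.membersIn S (A ⊔ L), Cfsg.conjBy D e ∈ Cfsg.membersIn S (A ⊔ L) := by
    intro e he D hD
    rcases h1.le hD with ⟨e', he', rfl⟩ | e2
    · exact h1.ge (Or.inl ⟨e * e', mul_mem he he', (conjBy_conjBy e' e).symm⟩)
    · rw [Set.mem_singleton_iff.mp e2, hfixM e he]; exact h1.ge (Or.inr rfl)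
  have hNT : ∀ t ∈ T, ∀ D ∈ Cfsg.membersIn S (A ⊔ L), Cfsg.conjBy D t ∈ Cfsg.membersIn S (A ⊔ L) := by
    intro t ht D hD
    rcases h2.le hD with ⟨t', ht', rfl⟩ | e2
    · exact h2.ge (Or.inl ⟨t * t', mul_mem ht ht', (conjBy_conjBy t' t).symm⟩)
    · rw [Set.mem_singleton_iff.mp e2, hfixA t ht]; exact h2.ge (Or.inr rfl)
  have main : ∀ C₁ ∈ Cfsg.membersIn S (A ⊔ L), ∀ C₂ ∈ Cfsg.membersIn S (A ⊔ L), C₁ ≠ C₂ → C₁ ≠ A →
      ∃ x ∈ K, Cfsg.conjBy C₁ x = M ∧ Cfsg.conjBy C₂ x = A := by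
    intro C₁ hC₁ C₂ hC₂ hne hC₁A
    rcases h2.le hC₁ with ⟨t, ht, htC⟩ | e
    · have hD := hNT t⁻¹ (inv_mem ht) C₂ hC₂
      have hx1 : Cfsg.conjBy C₁ t⁻¹ = M := by
        rw [← htC, conjBy_conjBy, inv_mul_cancel]
        exact conjBy_of_mem (one_mem M)
      rcases h1.le hD with ⟨e, he, heD⟩ | e
      · refine ⟨e⁻¹ * t⁻¹, mul_mem (inv_mem (hEK he)) (inv_mem (hTK ht)), ?_, ?_⟩
        · rw [← conjBy_conjBy, hx1, hfixM _ (inv_mem he)]
        · rw [← conjBy_conjBy, ← heD, conjBy_conjBy, inv_mul_cancel]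
          exact conjBy_of_mem (one_mem A)
      · exact absurd (conjBy_injective t⁻¹ (hx1.trans (Set.mem_singleton_iff.mp e).symm)) hne
    · exact absurd e hC₁A
  by_cases hCA : C₁ = A
  · obtain ⟨a, ha, ha1⟩ := (bot_or_exists_ne_one A).resolve_left (hS.ne_bot A hA)
    obtain ⟨e, he, hne1⟩ := exists_comm_ne_one hS hcase ha ha1
    have hmove : Cfsg.conjBy C₁ e ≠ A := by
      rw [hCA]
      intro h
      refine hMA (eq_of_common hS hF hM hA (hAE ▸ mem_commutator_elem ha he) ?_ hne1)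
      have h' : e * a⁻¹ * e⁻¹ ∈ A := h ▸ conj_mem_conjBy (inv_mem ha)
      simpa [mul_assoc] using mul_mem ha h'
    obtain ⟨x, hx, h1', h2'⟩ := main _ (hNE e he _ hC₁) _ (hNE e he _ hC₂) (fun h => hne (conjBy_injective e h)) hmove
    exact ⟨x * e, mul_mem hx (hEK he), by rwa [← conjBy_conjBy], by rwa [← conjBy_conjBy]⟩
  · exact main C₁ hC₁ C₂ hC₂ hne hCA

/-! ### Classes -/

theorem class_partners (hS : Cfsg.IsRootSubgroupClass S) {P Q : Subgroup G} (hP : P ∈ S) (hQ : Q ∈ S)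
    (h : Cfsg.IsRankOnePair P Q) : HasPartners S := fun A hA => by
  obtain ⟨g, rfl⟩ := hS.2.2 P hP A hA
  exact partner_conj hS.1 hQ h g

theorem nondegenerate_partners (hS : Cfsg.IsRootSubgroupClass S) (hnd : Cfsg.IsNondegenerateRootSet S) :
    HasPartners S := by
  obtain ⟨-, ⟨P, hP, Q, hQ, h⟩, -⟩ := hnd
  exact class_partners hS hP hQ h

theorem exists_case (hS : Cfsg.IsRootSubgroupClass S) (hnd : Cfsg.IsNondegenerateRootSet S) (hA : A ∈ S) :
    ∃ U ∈ S, ∃ V ∈ S, ⁅U, V⁆ = A := by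
  obtain ⟨-, -, U, hU, V, hV, h⟩ := hnd
  obtain ⟨g, rfl⟩ := hS.2.2 _ h.1 A hA
  exact ⟨_, hS.1.conj_mem U hU g, _, hS.1.conj_mem V hV g, (conjBy_commutator g).symm⟩

theorem exists_linePartner (hS : Cfsg.IsRootSubgroupClass S) (hnd : Cfsg.IsNondegenerateRootSet S) (hA : A ∈ S) :
    ∃ L, L ∈ Cfsg.linePartners S A := by
  obtain ⟨U, hU, V, hV, rfl⟩ := exists_case hS hnd hA
  exact ⟨U, linePartner_of_case hS.1 (nondegenerate_partners hS hnd) hU hV hA⟩

theorem class_fAdj_connected (hS : Cfsg.IsRootSubgroupClass S) (hnd : Cfsg.IsNondegenerateRootSet S) :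
    Cfsg.IsConnectedFamily (Cfsg.FAdj S) S := by
  obtain ⟨⟨A, hA, B, hB, hne, -⟩, ⟨P, hP, Q, hQ, h⟩, -⟩ := hnd
  exact (connected_iff hS.1 ⟨A, hA, B, hB, hne⟩).mpr ⟨hS.2, P, hP, fun hi => (hi.2 Q).1 ⟨hP, hQ, h⟩⟩

theorem class_eAdj_connected (hS : Cfsg.IsRootSubgroupClass S) (hnd : Cfsg.IsNondegenerateRootSet S) :
    Cfsg.IsConnectedFamily (Cfsg.EAdj S S) S := by
  have hF := nondegenerate_partners hS hnd
  intro A hA B hB
  have key : ∀ {X Y : Subgroup G}, Cfsg.FAdj S X Y → Relation.ReflTransGen (Cfsg.EAdj S S) X Y := fun {X Y} hXY => ?_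
  · have hR := class_fAdj_connected hS hnd A hA B hB
    clear hB
    induction hR with
    | refl => exact Relation.ReflTransGen.refl
    | tail _ h ih => exact ih.trans (key h)
  obtain ⟨hX, hY, hp⟩ := hXY
  obtain ⟨L, hL⟩ := exists_linePartner hS hnd hX
  obtain ⟨M, hM, -, hE, heq, -⟩ := line_member hS.1 hF hX hL hY hp
  have hMS := hM.1.1
  have h1 := linePartner_of_case hS.1 hF hE hX (by rw [Subgroup.commutator_comm, heq]; exact hMS)
  rw [Subgroup.commutator_comm, heq] at h1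
  have h2 := linePartner_of_case hS.1 hF hY hMS hE
  exact ((Relation.ReflTransGen.single ⟨hX, hMS, hM⟩).tail ⟨hMS, hE, h1⟩).tail ⟨hE, hY, h2⟩

theorem class_generation (hS : Cfsg.IsRootSubgroupClass S) (hnd : Cfsg.IsNondegenerateRootSet S) (hA : A ∈ S)
    (hB : B ∈ S) (hAB : Cfsg.IsRankOnePair A B) : (⨆ C ∈ Cfsg.linePartners S A, C) ⊔ B = ⊤ := by
  have hF := nondegenerate_partners hS hnd
  set H := (⨆ C ∈ Cfsg.linePartners S A, C) ⊔ B with hH
  have hLle : ∀ C ∈ Cfsg.linePartners S A, C ≤ H := fun C hC =>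
    le_sup_of_le_left (le_iSup₂ (f := fun C _ => C) C hC)
  have hBle : B ≤ H := le_sup_right
  have hAle : A ≤ H := by
    obtain ⟨L, hL⟩ := exists_linePartner hS hnd hA
    obtain ⟨M, T, hM, -, hT, hTeq, -⟩ := line_data hS.1 hF hA hL hB hAB
    rw [← hTeq]
    exact commutator_le.mpr fun m hm t ht => by
      rw [commutatorElement_def]
      exact mul_mem (mul_mem (mul_mem (hLle M hM hm) (hLle T hT ht)) (inv_mem (hLle M hM hm))) (inv_mem (hLle T hT ht))
  have horbit : ∀ L ∈ Cfsg.linePartners S A, ∃ x ∈ H, Cfsg.conjBy A x = L := by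
    intro L hL
    obtain ⟨M, T, hM, hE, hT, hTeq, heq, h1, h2⟩ := line_data hS.1 hF hA hL hB hAB
    have hEle : ⁅B, M⁆ ≤ H := commutator_le.mpr fun b hb m hm => by
      rw [commutatorElement_def]
      exact mul_mem (mul_mem (mul_mem (hBle hb) (hLle M hM hm)) (inv_mem (hBle hb))) (inv_mem (hLle M hM hm))
    have hTA : ⁅A, T⁆ = ⊥ := hT.1.2.2
    have hAin : A ∈ Cfsg.membersIn S (A ⊔ L) := ⟨hA, le_sup_left⟩
    have hLin : L ∈ Cfsg.membersIn S (A ⊔ L) := ⟨hL.1.1, le_sup_right⟩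
    obtain ⟨x, hx, -, hx2⟩ := two_transitive_line hS.1 hF hA hM.1.1 hM.1.2.1 hTA hE heq h1 h2 hEle (hLle T hT)
      hAin hLin hL.1.2.1.symm
    exact ⟨x⁻¹, inv_mem hx, by rw [conjBy_eq_iff, inv_inv, hx2]⟩
  have hall : ∀ {D : Subgroup G}, Relation.ReflTransGen (Cfsg.EAdj S S) A D → ∃ x ∈ H, Cfsg.conjBy A x = D := by
    intro D hD
    induction hD with
    | refl => exact ⟨1, one_mem H, conjBy_of_mem (one_mem A)⟩
    | @tail X Y _ hXY ih =>
      obtain ⟨x, hx, rfl⟩ := ih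
      have hY := linePartners_conj hS.1 hXY.2.2 x⁻¹
      rw [conjBy_conjBy, inv_mul_cancel, conjBy_of_mem (one_mem A)] at hY
      obtain ⟨y, hy, hye⟩ := horbit _ hY
      exact ⟨x * y, mul_mem hx hy, by rw [← conjBy_conjBy, hye, conjBy_conjBy, mul_inv_cancel]; exact conjBy_of_mem (one_mem Y)⟩
  rw [eq_top_iff, ← hS.1.generates]
  refine iSup₂_le fun D hD => ?_
  obtain ⟨x, hx, rfl⟩ := hall (class_eAdj_connected hS hnd A hA D hD)
  exact conjBy_le_of_le hAle hx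

theorem central_false (hS : Cfsg.IsRootSubgroupClass S) (hnd : Cfsg.IsNondegenerateRootSet S) (hA : A ∈ S)
    (hB : B ∈ S) (hAB : Cfsg.IsRankOnePair A B) (hC : C ∈ S) (hl : ∀ L ∈ Cfsg.linePartners S A, ⁅L, C⁆ = ⊥)
    (hb : ⁅B, C⁆ = ⊥) : False := by
  obtain ⟨P, hP, h⟩ := nondegenerate_partners hS hnd C hC
  refine not_commute h fun c hc p hp => ?_
  have hle : (⨆ L ∈ Cfsg.linePartners S A, L) ⊔ B ≤ centralizer ({c} : Set G) := by
    refine sup_le (iSup₂_le fun L hL => ?_) ?_ <;> intro w hw <;> rw [mem_centralizer_singleton_iff]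
    · exact commute_of_commutator_eq_bot (hl L hL) hw hc
    · exact commute_of_commutator_eq_bot hb hw hc
  rw [class_generation hS hnd hA hB hAB] at hle
  exact (mem_centralizer_singleton_iff.mp (hle (mem_top p))).symm

theorem mem_centralizingMembers : B ∈ Cfsg.centralizingMembers S A ↔ B ∈ S ∧ ⁅B, A⁆ = ⊥ := by
  rw [commutator_eq_bot_iff_le_centralizer]
  exact Iff.rfl

theorem self_centralizing (hS : Cfsg.IsRootSubgroupSet S) (hA : A ∈ S) : A ∈ Cfsg.centralizingMembers S A :=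
  mem_centralizingMembers.mpr ⟨hA, bot_of_commute fun _ hx _ hy => comm_of_mem hS hA hx hy⟩

/-! ### Comparing centralizer sets -/

theorem opp_subset_commute (hS : Cfsg.IsRootSubgroupSet S) (hF : HasPartners S) (hA : A ∈ S) (hC : C ∈ S)
    (h : Cfsg.rankOnePartners S A ⊆ Cfsg.rankOnePartners S C) : ⁅A, C⁆ = ⊥ := by
  rcases hS.pair A hA C hC with e | e | e
  · exact e
  · exact absurd rfl (h ⟨hC, e⟩).2.ne
  · exfalso
    have e' := rootCase_symm e
    obtain ⟨T, hT, hTeq, hTA⟩ := exists_mover hS hF hC hA e'.1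
    have hcase := rootCase_of_commutator_mem hS e'.1 hT (by rw [hTeq]; exact hC)
    have := case_commute_right hcase
    rw [hTeq] at this
    exact not_pair_of_bot this (Cfsg.RankOnePair_symm (h ⟨hT, Cfsg.RankOnePair_symm hTA⟩).2)

theorem opp_subset_centralizing (hS : Cfsg.IsRootSubgroupSet S) (hF : HasPartners S) (hA : A ∈ S) (hC : C ∈ S)
    (h : Cfsg.rankOnePartners S A ⊆ Cfsg.rankOnePartners S C) :
    Cfsg.centralizingMembers S C ⊆ Cfsg.centralizingMembers S A := by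
  intro D hD
  obtain ⟨hD, hDC⟩ := mem_centralizingMembers.mp hD
  refine mem_centralizingMembers.mpr ⟨hD, ?_⟩
  rcases hS.pair D hD A hA with e | e | e
  · exact e
  · exfalso
    exact not_pair_of_bot hDC (Cfsg.RankOnePair_symm (h ⟨hD, Cfsg.RankOnePair_symm e⟩).2)
  · exfalso
    have hAC := opp_subset_commute hS hF hA hC h
    obtain ⟨T, hT, hTeq, hTA⟩ := exists_mover hS hF hD hA e.1
    have hCT := (h ⟨hT, Cfsg.RankOnePair_symm hTA⟩).2
    have hCF : ⁅C, ⁅D, A⁆⁆ = ⊥ := bot_of_commute fun c hc x hx => (commute_commutator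
      (fun y hy => commute_of_commutator_eq_bot hDC hy hc) (fun y hy => commute_of_commutator_eq_bot hAC hy hc) x hx).symm
    have hTF : ⁅T, ⁅D, A⁆⁆ = D := by rw [Subgroup.commutator_comm, hTeq]
    obtain ⟨h1, -⟩ := partner_chain hS hF hC hT e.1 hCT hCF (by rw [hTF]; exact hD)
    rw [hTF, Subgroup.commutator_comm, hDC] at h1
    exact hS.ne_bot _ h1 rfl

theorem centralizing_subset_opp (hS : Cfsg.IsRootSubgroupSet S) (hF : HasPartners S) (hA : A ∈ S) (hC : C ∈ S)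
    (h : Cfsg.centralizingMembers S A ⊆ Cfsg.centralizingMembers S C) :
    Cfsg.rankOnePartners S C ⊆ Cfsg.rankOnePartners S A := by
  rintro P ⟨hP, hCP⟩
  refine ⟨hP, ?_⟩
  rcases hS.pair P hP A hA with e | e | e
  · exfalso
    exact not_pair_of_bot (mem_centralizingMembers.mp (h (mem_centralizingMembers.mpr ⟨hP, e⟩))).2
      (Cfsg.RankOnePair_symm hCP)
  · exact Cfsg.RankOnePair_symm e
  · exfalso
    have hAC := (mem_centralizingMembers.mp (h (self_centralizing hS hA))).2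
    obtain ⟨h1, -⟩ := partner_chain hS hF hC hP hA hCP (by rwa [Subgroup.commutator_comm]) e.1
    have h2 : ⁅P, A⁆ ∈ Cfsg.centralizingMembers S A :=
      mem_centralizingMembers.mpr ⟨e.1, by rw [Subgroup.commutator_comm]; exact case_commute_right e⟩
    have h3 := (mem_centralizingMembers.mp (h h2)).2
    rw [Subgroup.commutator_comm] at h3
    exact hS.ne_bot _ h1 h3

theorem centralizing_subset_opp' (hS : Cfsg.IsRootSubgroupClass S) (hnd : Cfsg.IsNondegenerateRootSet S) (hA : A ∈ S)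
    (hC : C ∈ S) (h : Cfsg.centralizingMembers S A ⊆ Cfsg.centralizingMembers S C) :
    Cfsg.rankOnePartners S A ⊆ Cfsg.rankOnePartners S C := by
  have hF := nondegenerate_partners hS hnd
  have hopp := centralizing_subset_opp hS.1 hF hA hC h
  rintro B ⟨hB, hAB⟩
  refine ⟨hB, ?_⟩
  rcases hS.1.pair B hB C hC with e | e | e
  · exfalso
    exact central_false hS hnd hA hB hAB hC (fun L hL =>
      (mem_centralizingMembers.mp (h (mem_centralizingMembers.mpr ⟨hL.1.1, by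
        rw [Subgroup.commutator_comm]; exact hL.1.2.2⟩))).2) e
  · exact Cfsg.RankOnePair_symm e
  · exfalso
    obtain ⟨T, hT, hTeq, hTC⟩ := exists_mover hS.1 hF hB hC e.1
    have hAT := (hopp ⟨hT, Cfsg.RankOnePair_symm hTC⟩).2
    have hTB : ⁅T, ⁅B, C⁆⁆ = B := by rw [Subgroup.commutator_comm, hTeq]
    have hln := linePartner_of_case hS.1 hF hT e.1 (by rw [hTB]; exact hB)
    rw [hTB] at hln
    obtain ⟨M, hM, hsup, hE, -, -⟩ :=
      line_member hS.1 hF hT (linePartners_symm hB hln) hA (Cfsg.RankOnePair_symm hAT)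
    have hMS := hM.1.1
    have hnAM := not_pair_of_case hS.1 hMS (rootCase_of_commutator_mem hS.1 hA hMS hE)
    have hnMC : ¬ Cfsg.IsRankOnePair M C := fun hp =>
      hnAM (hopp ⟨hMS, Cfsg.RankOnePair_symm hp⟩).2
    have hMB : M ≠ B := fun he => hnAM (he ▸ hAB)
    have hnorm : T ≤ normalizer (B : Set G) := fun t ht => conjBy_eq_self_iff.mp
      (conjBy_of_commute fun y hy => (commute_of_commutator_eq_bot hln.1.2.2 hy ht).symm)
    obtain ⟨m, hm, hm1⟩ := (bot_or_exists_ne_one M).resolve_left (hS.1.ne_bot M hMS)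
    have hmem : m ∈ ((T ⊔ B : Subgroup G) : Set G) := hsup ▸ mem_sup_right hm
    rw [coe_mul_of_left_le_normalizer_right _ _ hnorm] at hmem
    obtain ⟨t, ht, b, hb, rfl⟩ := hmem
    have hcomm : ⁅T, B⁆ = ⊥ := by rw [Subgroup.commutator_comm]; exact hln.1.2.2
    have ht1 : t ≠ 1 := by
      rintro rfl
      simp only [one_mul] at hm hm1
      exact hMB (eq_of_common hS.1 hF hMS hB hm hb hm1)
    have hb1 : b ≠ 1 := by
      rintro rfl
      simp only [mul_one] at hm hm1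
      exact hM.1.2.1 (eq_of_common hS.1 hF hMS hT hm ht hm1)
    refine hnMC (line_partner hS.1 hT hB hC hMS hcomm hTC (not_pair_of_case hS.1 hC e) ht ht1 hb hb1 ?_)
    rw [← commute_of_commutator_eq_bot hcomm ht hb]
    exact hm

theorem degenerate_subset (hS : Cfsg.IsRootSubgroupClass S) (hdeg : Cfsg.IsDegenerateRootSet S) (hA : A ∈ S)
    (hC : C ∈ S) (h : Cfsg.centralizingMembers S A ⊆ Cfsg.centralizingMembers S C) :
    Cfsg.centralizingMembers S C ⊆ Cfsg.centralizingMembers S A := by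
  intro D hD
  obtain ⟨hD, hDC⟩ := mem_centralizingMembers.mp hD
  refine mem_centralizingMembers.mpr ⟨hD, ?_⟩
  by_contra hne
  have two : ∀ {X Y : Subgroup G}, X ∈ S → Y ∈ S → ⁅X, Y⁆ ≠ ⊥ → Cfsg.IsRankOnePair X Y := fun hX hY hn =>
    ((hS.1.pair _ hX _ hY).resolve_left hn).resolve_right (hdeg _ hX _ hY)
  have hAD := Cfsg.RankOnePair_symm (two hD hA hne)
  have hAC : ⁅A, C⁆ = ⊥ := (mem_centralizingMembers.mp (h (self_centralizing hS.1 hA))).2
  obtain ⟨P, hP, hCP⟩ := class_partners hS hA hD hAD C hC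
  have hCcent : ∀ x ∈ A ⊔ D, ∀ c ∈ C, x * c = c * x := by
    intro x hx c hc
    have hle : A ⊔ D ≤ centralizer ({c} : Set G) := by
      refine sup_le ?_ ?_ <;> intro w hw <;> rw [mem_centralizer_singleton_iff]
      · exact commute_of_commutator_eq_bot hAC hw hc
      · exact commute_of_commutator_eq_bot hDC hw hc
    exact mem_centralizer_singleton_iff.mp (hle hx)
  have hconj : ∀ g : G, ∀ E ∈ S, ⁅E, Cfsg.conjBy A g⁆ = ⊥ → ⁅E, Cfsg.conjBy C g⁆ = ⊥ := by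
    intro g E hE he
    have h1 : ⁅Cfsg.conjBy E g⁻¹, A⁆ = ⊥ := by
      have : Cfsg.conjBy (Cfsg.conjBy A g) g⁻¹ = A := by
        rw [conjBy_conjBy, inv_mul_cancel]; exact conjBy_of_mem (one_mem A)
      rw [← this, ← conjBy_commutator, he, conjBy_eq_bot]
    have h2 := (mem_centralizingMembers.mp (h (mem_centralizingMembers.mpr ⟨hS.1.conj_mem E hE _, h1⟩))).2
    have : Cfsg.conjBy (Cfsg.conjBy E g⁻¹) g = E := by
      rw [conjBy_conjBy, mul_inv_cancel]; exact conjBy_of_mem (one_mem E)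
    rw [← this, ← conjBy_commutator, h2, conjBy_eq_bot]
  have hconjD : ∀ g : G, ∀ E ∈ S, ⁅E, Cfsg.conjBy D g⁆ = ⊥ → ⁅E, Cfsg.conjBy C g⁆ = ⊥ := by
    obtain ⟨x, hx, rfl⟩ := exists_conj hAD
    intro g E hE he
    rw [conjBy_conjBy] at he
    have h1 := hconj (g * x) E hE he
    rwa [← conjBy_conjBy, conjBy_of_commute (hCcent x hx)] at h1
  have hPA : Cfsg.IsRankOnePair A P := by
    refine Cfsg.RankOnePair_symm (two hP hA fun e => ?_)
    exact not_pair_of_bot (mem_centralizingMembers.mp (h (mem_centralizingMembers.mpr ⟨hP, e⟩))).2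
      (Cfsg.RankOnePair_symm hCP)
  have hPD : Cfsg.IsRankOnePair D P := by
    refine Cfsg.RankOnePair_symm (two hP hD fun e => ?_)
    have := hconjD 1 P hP (by rwa [conjBy_of_mem (one_mem D)])
    rw [conjBy_of_mem (one_mem C)] at this
    exact not_pair_of_bot this (Cfsg.RankOnePair_symm hCP)
  obtain ⟨p, hp, hp1⟩ := exists_ne_one_left (Cfsg.RankOnePair_symm hCP)
  obtain ⟨a, ha, ha1, hae⟩ := hPA.cond_right p hp hp1
  obtain ⟨c, hc, -, hce⟩ := hCP.cond_right p hp hp1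
  obtain ⟨d, hd, hd1, hde⟩ := hPD.cond_right p hp hp1
  have hac : a * c⁻¹ = c⁻¹ * a := commute_of_commutator_eq_bot hAC ha (inv_mem hc)
  have hdc : d * c⁻¹ = c⁻¹ * d := commute_of_commutator_eq_bot hDC hd (inv_mem hc)
  -- the two conjugates of `P` commuting with `P`
  have step : ∀ (X : Subgroup G) (g : G), g * c⁻¹ = c⁻¹ * g → Cfsg.conjBy P g⁻¹ = Cfsg.conjBy X p⁻¹ →
      ⁅X, C⁆ = ⊥ → (∀ r : G, ∀ E ∈ S, ⁅E, Cfsg.conjBy X r⁆ = ⊥ → ⁅E, Cfsg.conjBy C r⁆ = ⊥) →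
      ⁅Cfsg.conjBy P (g * c⁻¹), P⁆ = ⊥ ∧ ∀ E ∈ S, ⁅E, P⁆ = ⊥ → ⁅E, Cfsg.conjBy P (g * c⁻¹)⁆ = ⊥ := by
    intro X g hgc hge hXC hXconj
    have e1 : Cfsg.conjBy P (g * c⁻¹) = Cfsg.conjBy (Cfsg.conjBy C p⁻¹) g := by rw [← hce, conjBy_conjBy]
    have e2 : P = Cfsg.conjBy (Cfsg.conjBy X p⁻¹) g := by
      rw [← hge, conjBy_conjBy, mul_inv_cancel]; exact (conjBy_of_mem (one_mem P)).symm
    refine ⟨?_, fun E hE he => ?_⟩
    · rw [e1]; nth_rewrite 1 [e2]
      rw [← conjBy_commutator, ← conjBy_commutator, Subgroup.commutator_comm C X, hXC, conjBy_eq_bot.mpr rfl,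
        conjBy_eq_bot.mpr rfl]
    · rw [e1, conjBy_conjBy]
      refine hXconj _ E hE ?_
      rw [← conjBy_conjBy, ← e2, he]
  obtain ⟨-, hP1⟩ := step A a hac hae hAC hconj
  obtain ⟨hP2, -⟩ := step D d hdc hde hDC hconjD
  have h12 := hP1 _ (hS.1.conj_mem P hP _) hP2
  rw [hac, hdc, ← conjBy_conjBy d c⁻¹, ← conjBy_conjBy a c⁻¹, ← conjBy_commutator, conjBy_eq_bot] at h12
  obtain ⟨p₁, hp₁, -, e₁⟩ := hPA.cond_left a⁻¹ (inv_mem ha) (inv_ne_one.mpr ha1)
  obtain ⟨p₂, hp₂, -, e₂⟩ := hPD.cond_left d⁻¹ (inv_mem hd) (inv_ne_one.mpr hd1)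
  rw [inv_inv] at e₁ e₂
  rw [← e₁, ← e₂] at h12
  have hq : ⁅Cfsg.conjBy D (p₁ * p₂⁻¹), A⁆ = ⊥ := by
    have : Cfsg.conjBy _ p₁ = Cfsg.conjBy _ p₁ := congrArg (fun X => Cfsg.conjBy X p₁) h12
    rw [conjBy_commutator, conjBy_conjBy, conjBy_conjBy, mul_inv_cancel, conjBy_of_mem (one_mem A),
      conjBy_eq_bot.mpr rfl] at this
    exact this
  have hq1 : p₁ * p₂⁻¹ ≠ 1 := fun e => by
    rw [e, conjBy_of_mem (one_mem D)] at hq; exact hne hq
  have hqC := (mem_centralizingMembers.mp (h (mem_centralizingMembers.mpr ⟨hS.1.conj_mem D hD _, hq⟩))).2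
  set q := p₁ * p₂⁻¹
  have hqC' : ⁅D, Cfsg.conjBy C q⁻¹⁆ = ⊥ := by
    have : Cfsg.conjBy _ q⁻¹ = Cfsg.conjBy _ q⁻¹ := congrArg (fun X => Cfsg.conjBy X q⁻¹) hqC
    rwa [conjBy_commutator, conjBy_conjBy, inv_mul_cancel, conjBy_of_mem (one_mem D),
      conjBy_eq_bot.mpr rfl] at this
  have hq' : q⁻¹ ∈ P := inv_mem (mul_mem hp₁ (inv_mem hp₂))
  have hCne : Cfsg.conjBy C q⁻¹ ≠ C := fun e =>
    inv_ne_one.mpr hq1 (eq_one_of_fix (Cfsg.RankOnePair_symm hCP) hq' e)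
  refine not_commute hPD fun x hx y hy => ?_
  have hle : C ⊔ Cfsg.conjBy C q⁻¹ ≤ centralizer ({x} : Set G) := by
    refine sup_le ?_ ?_ <;> intro w hw <;> rw [mem_centralizer_singleton_iff]
    · exact (commute_of_commutator_eq_bot hDC hx hw).symm
    · exact (commute_of_commutator_eq_bot hqC' hx hw).symm
  rw [sup_eq_of_mem hCP left_mem_unipotents (conj_mem_unipotents left_mem_unipotents (mem_sup_right hq'))
    hCne.symm] at hle
  exact (mem_centralizer_singleton_iff.mp (hle (mem_sup_right hy))).symm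

theorem degenerate_opp (hS : Cfsg.IsRootSubgroupSet S) (hdeg : Cfsg.IsDegenerateRootSet S) (hA : A ∈ S) (hC : C ∈ S)
    (h : Cfsg.rankOnePartners S A ⊆ Cfsg.rankOnePartners S C) :
    ⁅A, C⁆ = ⊥ ∧ Cfsg.centralizingMembers S C ⊆ Cfsg.centralizingMembers S A := by
  refine ⟨commutator_eq_bot_of_not_pair hS hdeg hA hC fun e => (h ⟨hC, e⟩).2.ne rfl, fun D hD => ?_⟩
  obtain ⟨hD, hDC⟩ := mem_centralizingMembers.mp hD
  exact mem_centralizingMembers.mpr ⟨hD, commutator_eq_bot_of_not_pair hS hdeg hD hA fun e =>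
    not_pair_of_bot hDC (Cfsg.RankOnePair_symm (h ⟨hD, Cfsg.RankOnePair_symm e⟩).2)⟩

theorem centralizing_incomparable (hS : Cfsg.IsRootSubgroupClass S)
    (hdn : Cfsg.IsDegenerateRootSet S ∨ Cfsg.IsNondegenerateRootSet S) (hA : A ∈ S) (hC : C ∈ S) :
    (Cfsg.centralizingMembers S A ⊆ Cfsg.centralizingMembers S C →
      Cfsg.centralizingMembers S A = Cfsg.centralizingMembers S C) ∧
    (Cfsg.rankOnePartners S A ⊆ Cfsg.rankOnePartners S C →
      ⁅A, C⁆ = ⊥ ∧ Cfsg.rankOnePartners S A = Cfsg.rankOnePartners S C) := by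
  rcases hdn with hdeg | hnd
  · refine ⟨fun h => Set.Subset.antisymm h (degenerate_subset hS hdeg hA hC h), fun h => ?_⟩
    obtain ⟨hAC, hsub⟩ := degenerate_opp hS.1 hdeg hA hC h
    refine ⟨hAC, Set.Subset.antisymm h ?_⟩
    rintro P ⟨hP, hCP⟩
    refine ⟨hP, by_contra fun e => ?_⟩
    have h1 : P ∈ Cfsg.centralizingMembers S A :=
      mem_centralizingMembers.mpr ⟨hP, commutator_eq_bot_of_not_pair hS.1 hdeg hP hA fun e' =>
        e (Cfsg.RankOnePair_symm e')⟩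
    exact not_pair_of_bot (mem_centralizingMembers.mp (degenerate_subset hS hdeg hC hA hsub h1)).2
      (Cfsg.RankOnePair_symm hCP)
  · have hF := nondegenerate_partners hS hnd
    refine ⟨fun h => Set.Subset.antisymm h
      (opp_subset_centralizing hS.1 hF hA hC (centralizing_subset_opp' hS hnd hA hC h)), fun h => ?_⟩
    refine ⟨opp_subset_commute hS.1 hF hA hC h, Set.Subset.antisymm h ?_⟩
    exact centralizing_subset_opp' hS hnd hC hA (opp_subset_centralizing hS.1 hF hA hC h)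

theorem weak_ti_abelian (hS : Cfsg.IsRootSubgroupClass S) (hnd : Cfsg.IsNondegenerateRootSet S)
    {Δ : Set (Subgroup G)} (hΔ : Cfsg.IsWeakTISubset S Δ) : Cfsg.IsAbelianFamily Δ := by
  obtain ⟨hsub, -, hneS, hti⟩ := hΔ
  have hF := nondegenerate_partners hS hnd
  let K : Subgroup G :=
    { carrier := {g | (fun X => Cfsg.conjBy X g) '' Δ = Δ}
      one_mem' := by simp [conjBy_of_mem (one_mem _)]
      mul_mem' := fun {g h} hg hh => by
        simp only [Set.mem_ofPred_eq] at hg hh ⊢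
        conv_rhs => rw [← hg, ← hh, Set.image_image]
        exact Set.image_congr fun X _ => (conjBy_conjBy h g).symm
      inv_mem' := fun {g} hg => by
        simp only [Set.mem_ofPred_eq] at hg ⊢
        conv_lhs => rw [← hg, Set.image_image]
        exact (Set.image_congr fun X _ => by
          rw [conjBy_conjBy, inv_mul_cancel, conjBy_of_mem (one_mem X)]).trans (Set.image_id' Δ) }
  have hfix : ∀ A ∈ Δ, ∀ D ∈ S, ⁅D, A⁆ = ⊥ → D ≤ K := by
    intro A hA D hD hDA d hd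
    rcases eq_or_ne d 1 with rfl | hd1
    · exact K.one_mem
    refine (hti d ⟨hd1, D, hD, hd⟩).resolve_right fun hdisj => ?_
    refine (Set.disjoint_left.mp hdisj) ⟨A, hA, ?_⟩ hA
    exact conjBy_of_commute fun x hx => commute_of_commutator_eq_bot hDA hd hx
  intro A hA C hC a ha c hc
  by_contra hne
  have hline : (⨆ L ∈ Cfsg.linePartners S A, L) ≤ K := iSup₂_le fun L hL =>
    hfix A hA L hL.1.1 (by rw [Subgroup.commutator_comm]; exact hL.1.2.2)
  have hKtop : K = ⊤ := by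
    rcases hS.1.pair A (hsub hA) C (hsub hC) with e | e | e
    · exact absurd (commute_of_commutator_eq_bot e ha hc) hne
    · rw [eq_top_iff, ← class_generation hS hnd (hsub hA) (hsub hC) e]
      exact sup_le hline (hfix C hC C (hsub hC) (bot_of_commute fun _ hx _ hy => comm_of_mem hS.1 (hsub hC) hx hy))
    · have e' := rootCase_symm e
      obtain ⟨T, hT, hTeq, hTA⟩ := exists_mover hS.1 hF (hsub hC) (hsub hA) e'.1
      rw [eq_top_iff, ← class_generation hS hnd (hsub hA) hT (Cfsg.RankOnePair_symm hTA)]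
      refine sup_le hline (hfix C hC T hT ?_)
      have := case_commute_right (rootCase_of_commutator_mem hS.1 e'.1 hT (by rw [hTeq]; exact hsub hC))
      rwa [hTeq] at this
  refine hneS (Set.Subset.antisymm hsub fun D hD => ?_)
  obtain ⟨g, rfl⟩ := hS.2.2 A (hsub hA) D hD
  have hg : g ∈ K := hKtop ▸ mem_top g
  exact Eq.subset hg ⟨A, hA, rfl⟩

end Cfsg.Agent.Lib.RootSub
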