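import Cfsg.Agent.Lib.RootSub.Transvections

/-!
Families of subgroups in which two members commute or are the unipotent subgroups of an image of `SL₂`.
-/

namespace Cfsg.Agent.Lib.RootSub

open Matrix Cfsg.Agent.Lib.QuadPair
open scoped commutatorElement

variable {k : Type*} [Field k] {M : Type*} [AddCommGroup M] [Module k M]

theorem pairHom_injective {x y : (M →ₗ[k] k) × M} (hx : x.1 x.2 = 0) (hy : y.1 y.2 = 0) (hxy : x.1 y.2 ≠ 0)
    (hyx : y.1 x.2 ≠ 0) : Function.Injective (pairHom hx hy hxy hyx) := by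
  refine (injective_iff_map_eq_one _).mpr fun g hg => ?_
  have e := congrArg Units.val hg
  rw [coe_pairHom, Units.val_one, add_eq_left] at e
  have hp := DFunLike.congr_fun e x.2
  have hr := DFunLike.congr_fun e y.2
  simp [blk, tv_apply, hx, hy, hxy, hyx] at hp hr
  have hp1 := congrArg x.1 hp
  have hp2 := congrArg y.1 hp
  have hr1 := congrArg x.1 hr
  have hr2 := congrArg y.1 hr
  simp [hx, hy, hxy, hyx] at hp1 hp2 hr1 hr2
  ext i j
  fin_cases i <;> fin_cases j <;> simp_all [sub_eq_zero]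

/-- `A`, `B` are the images of the two unitriangular groups. -/
def IsSL2Image (L : Type*) [Field L] {G : Type*} [Group G] (A B : Subgroup G) : Prop :=
  ∃ φ : SpecialLinearGroup (Fin 2) L →* G, φ.ker ≤ Subgroup.center _ ∧
    (Cfsg.upperUnipotentSL2 L).map φ = A ∧ (Cfsg.lowerUnipotentSL2 L).map φ = B

variable {L : Type*} [Field L] {G : Type*} [Group G]

theorem IsSL2Image.of_map {H : Type*} [Group H] {ι : G →* H} (hi : Function.Injective ι) {A B : Subgroup G}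
    (h : IsSL2Image L (A.map ι) (B.map ι)) : IsSL2Image L A B := by
  obtain ⟨φ, hk, hA, hB⟩ := h
  have hle : ∀ g, φ g ∈ ι.range := fun g => by
    have hg : φ g ∈ ((Cfsg.upperUnipotentSL2 L ⊔ Cfsg.lowerUnipotentSL2 L).map φ) := by
      rw [upper_sup_lower]; exact ⟨g, trivial, rfl⟩
    rw [Subgroup.map_sup, hA, hB, ← Subgroup.map_sup] at hg
    obtain ⟨x, -, hx⟩ := hg
    exact ⟨x, hx⟩
  let ψ : SpecialLinearGroup (Fin 2) L →* G :=
    (MonoidHom.ofInjective hi).symm.toMonoidHom.comp (φ.codRestrict _ hle)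
  have hψ : ι.comp ψ = φ := MonoidHom.ext fun g => MonoidHom.apply_ofInjective_symm hi ⟨φ g, hle g⟩
  refine ⟨ψ, fun g hg => hk ?_, Subgroup.map_injective hi ?_, Subgroup.map_injective hi ?_⟩
  · rw [MonoidHom.mem_ker] at hg ⊢
    rw [← hψ, MonoidHom.comp_apply, hg, map_one]
  · rw [Subgroup.map_map, hψ, hA]
  · rw [Subgroup.map_map, hψ, hB]

theorem IsSL2Image.pair {A B : Subgroup G} (h : IsSL2Image L A B) :
    Cfsg.IsSpecialRankOnePair A B ∧ Cfsg.IsPSL2PairOver L A B := by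
  obtain ⟨φ, hk, rfl, rfl⟩ := h
  refine ⟨isSpecial_of_hom hk, φ, ?_, hk, rfl, rfl⟩
  rw [← Subgroup.map_sup, upper_sup_lower, MonoidHom.range_eq_map]

/-- A degenerate family. -/
structure TwoCase (L : Type*) [Field L] (T : Set (Subgroup G)) : Prop where
  nonempty : T.Nonempty
  commutative : ∀ A ∈ T, ⁅A, A⁆ = ⊥
  ne_bot : ∀ A ∈ T, A ≠ ⊥
  generates : (⨆ A ∈ T, A) = ⊤
  conj_mem : ∀ A ∈ T, ∀ g : G, Cfsg.conjBy A g ∈ T
  two : ∀ A ∈ T, ∀ B ∈ T, ⁅A, B⁆ = ⊥ ∨ IsSL2Image L A B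
  middle : ∀ A ∈ T, ∀ B ∈ T, ∃ C ∈ T, ⁅A, C⁆ ≠ ⊥ ∧ ⁅C, B⁆ ≠ ⊥

variable {T : Set (Subgroup G)}

theorem TwoCase.rootSet (h : TwoCase L T) : Cfsg.IsRootSubgroupSet T := by
  refine ⟨fun A hA => ⟨⟨fun a b => Subtype.ext ?_⟩⟩, h.ne_bot, h.generates, h.conj_mem, fun A hA B hB => ?_⟩
  · exact commutatorElement_eq_one_iff_mul_comm.mp (Subgroup.mem_bot.mp
      (h.commutative A hA ▸ Subgroup.commutator_mem_commutator a.2 b.2))
  · rcases h.two A hA B hB with e | e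
    · exact Or.inl e
    · exact Or.inr (Or.inl e.pair.1.1)

theorem TwoCase.pair_of_ne (h : TwoCase L T) {A B : Subgroup G} (hA : A ∈ T) (hB : B ∈ T) (hne : ⁅A, B⁆ ≠ ⊥) :
    Cfsg.IsSpecialRankOnePair A B ∧ Cfsg.IsPSL2PairOver L A B :=
  ((h.two A hA B hB).resolve_left hne).pair

theorem TwoCase.kRootSet (h : TwoCase L T) : Cfsg.IsKRootSubgroupSet L T :=
  ⟨h.rootSet, fun _ hA _ hB hp => (h.pair_of_ne hA hB (commutator_ne_bot hp)).2⟩

theorem TwoCase.connected (h : TwoCase L T) : Cfsg.IsConnectedFamily (Cfsg.FAdj T) T := by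
  intro A hA B hB
  obtain ⟨C, hC, h1, h2⟩ := h.middle A hA B hB
  exact (Relation.ReflTransGen.single ⟨hA, hC, (h.pair_of_ne hA hC h1).1.1⟩).tail
    ⟨hC, hB, (h.pair_of_ne hC hB h2).1.1⟩

theorem TwoCase.rootClass (h : TwoCase L T) : Cfsg.IsRootSubgroupClass T := by
  refine ⟨h.rootSet, h.nonempty, fun A hA B hB => ?_⟩
  obtain ⟨C, hC, h1, h2⟩ := h.middle A hA B hB
  obtain ⟨u, -, hu⟩ := exists_conj (h.pair_of_ne hA hC h1).1.1
  obtain ⟨v, -, hv⟩ := exists_conj (h.pair_of_ne hC hB h2).1.1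
  exact ⟨v * u, by rw [← conjBy_conjBy, hu, hv]⟩

theorem TwoCase.degenerate (h : TwoCase L T) : Cfsg.IsDegenerateRootSet T := by
  intro A hA B hB hc
  by_cases hne : ⁅A, B⁆ = ⊥
  · exact h.ne_bot _ hc.1 hne
  · have hp := (h.pair_of_ne hA hB hne).1.1
    obtain ⟨a, ha, ha1⟩ := exists_ne_one_left hp
    refine false_of_central hp (fun u hu v hv => (h.rootSet.commutative _ hB).is_comm.comm ⟨u, hu⟩ ⟨v, hv⟩
      |> congrArg Subtype.val) ha ha1 fun u hu v hv => ?_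
    refine hc.2.1 _ ?_ v (Subgroup.mem_sup_right hv)
    simpa only [commutatorElement_def] using Subgroup.commutator_mem_commutator ha hu

/-- The family viewed inside the subgroup it generates. -/
theorem TwoCase.of_embedded {H : Type*} [Group H] {ι : G →* H} (hi : Function.Injective ι) {S : Set (Subgroup G)}
    (hne : S.Nonempty) (hbot : ∀ A ∈ S, A ≠ ⊥) (hconj : ∀ A ∈ S, ∀ g : G, Cfsg.conjBy A g ∈ S)
    (hcomm : ∀ A ∈ S, ⁅A.map ι, A.map ι⁆ = ⊥)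
    (htwo : ∀ A ∈ S, ∀ B ∈ S, ⁅A.map ι, B.map ι⁆ = ⊥ ∨ IsSL2Image L (A.map ι) (B.map ι))
    (hmid : ∀ A ∈ S, ∀ B ∈ S, ∃ C ∈ S, ⁅A.map ι, C.map ι⁆ ≠ ⊥ ∧ ⁅C.map ι, B.map ι⁆ ≠ ⊥) :
    TwoCase L ((fun A : Subgroup G => A.subgroupOf (⨆ B ∈ S, B)) '' S) := by
  set G₀ := ⨆ B ∈ S, B
  have hle : ∀ A ∈ S, A ≤ G₀ := fun A hA => le_iSup₂ (f := fun B _ => B) A hA
  have hmap : ∀ A ∈ S, (A.subgroupOf G₀).map G₀.subtype = A := fun A hA => Subgroup.map_subgroupOf_eq_of_le (hle A hA)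
  have hi' : Function.Injective (ι.comp G₀.subtype) := hi.comp Subtype.val_injective
  have hmap' : ∀ A ∈ S, (A.subgroupOf G₀).map (ι.comp G₀.subtype) = A.map ι := fun A hA => by
    rw [← Subgroup.map_map, hmap A hA]
  have hbot' : ∀ A ∈ S, ∀ B ∈ S, ⁅A.subgroupOf G₀, B.subgroupOf G₀⁆ = ⊥ ↔ ⁅A.map ι, B.map ι⁆ = ⊥ := by
    intro A hA B hB
    rw [← Subgroup.map_eq_bot_iff_of_injective _ hi', Subgroup.map_commutator, hmap' A hA, hmap' B hB]
  refine ⟨hne.image _, ?_, ?_, ?_, ?_, ?_, ?_⟩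
  · rintro _ ⟨A, hA, rfl⟩
    exact (hbot' A hA A hA).mpr (hcomm A hA)
  · rintro _ ⟨A, hA, rfl⟩ e
    refine hbot A hA ?_
    rw [← hmap A hA]
    beta_reduce at e
    rw [e, Subgroup.map_bot]
  · refine Subgroup.map_injective G₀.subtype_injective ?_
    rw [← MonoidHom.range_eq_map, Subgroup.range_subtype, iSup_image]
    simp only [Subgroup.map_iSup]
    exact iSup_congr fun A => iSup_congr fun hA => hmap A hA
  · rintro _ ⟨A, hA, rfl⟩ g
    refine ⟨_, hconj A hA g, Subgroup.map_injective G₀.subtype_injective ?_⟩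
    beta_reduce
    rw [hmap _ (hconj A hA g), map_conjBy, hmap A hA]
    rfl
  · rintro _ ⟨A, hA, rfl⟩ _ ⟨B, hB, rfl⟩
    rcases htwo A hA B hB with e | e
    · exact Or.inl ((hbot' A hA B hB).mpr e)
    · exact Or.inr (IsSL2Image.of_map hi' (by rwa [hmap' A hA, hmap' B hB]))
  · rintro _ ⟨A, hA, rfl⟩ _ ⟨B, hB, rfl⟩
    obtain ⟨C, hC, h1, h2⟩ := hmid A hA B hB
    exact ⟨_, ⟨C, hC, rfl⟩, fun e => h1 ((hbot' A hA C hC).mp e), fun e => h2 ((hbot' C hC B hB).mp e)⟩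

end Cfsg.Agent.Lib.RootSub
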