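import Cfsg.Agent.Lib.RootSub.TwoCase
import Cfsg.Agent.Lib.RootSub.SLTransvections
import Cfsg.Agent.Lib.Classical.HermForm

/-!
The transvection subgroups of `SU_{n}(q)`.
-/

namespace Cfsg.Agent.Lib.RootSub

open Matrix Cfsg.Agent.Lib.QuadPair
open scoped commutatorElement

variable {F : Type*} [Field F] [Fintype F] {q n : ℕ}

/-- The field with `q` elements inside the field with `q²` elements. -/
theorem exists_small_field (hF : Fintype.card F = q ^ 2) :
    ∃ (L : Type) (_ : Field L) (_ : Fintype L) (e : L →+* F),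
      Fintype.card L = q ∧ ∀ x : F, x ^ q = x ↔ ∃ c, e c = x := by
  classical
  obtain ⟨p, f, hp, hc, hq⟩ := Classical.exists_q_pow hF
  have hq2 := Classical.two_le_q hF
  have hf : f ≠ 0 := by rintro rfl; rw [pow_zero] at hq; omega
  have : Fact p.Prime := ⟨hp⟩
  let : Algebra (ZMod p) F := ZMod.algebra F p
  have hfr : Module.finrank (ZMod p) F = 2 * f := by
    have h := Module.card_eq_pow_finrank (K := ZMod p) (V := F)
    rw [ZMod.card, hF, hq, ← pow_mul] at h
    rw [← Nat.pow_right_injective hp.two_le h, mul_comm]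
  obtain ⟨e⟩ := FiniteField.nonempty_algHom_of_finrank_dvd (F := ZMod p) (K := GaloisField p f) (L := F)
    (by rw [GaloisField.finrank p hf, hfr]; exact Dvd.intro_left _ rfl)
  let hfin : Fintype (GaloisField p f) := Fintype.ofFinite _
  have hcard : Fintype.card (GaloisField p f) = q := by
    rw [← Nat.card_eq_fintype_card, GaloisField.card p f hf, hq]
  refine ⟨GaloisField p f, inferInstance, hfin, e.toRingHom, hcard, ?_⟩
  have himg : ∀ c, e c ^ q = e c := fun c => by rw [← map_pow, ← hcard, FiniteField.pow_card]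
  intro x
  refine ⟨fun hx => ?_, fun ⟨c, hc⟩ => hc ▸ himg c⟩
  by_contra hno
  let S : Finset F := insert x (Finset.univ.image e)
  have hS : S ⊆ (Polynomial.X ^ q - Polynomial.X : Polynomial F).roots.toFinset := by
    intro y hy
    rw [Multiset.mem_toFinset, Polynomial.mem_roots (FiniteField.X_pow_card_sub_X_ne_zero F (by omega))]
    rw [Finset.mem_insert] at hy
    rcases hy with rfl | hy
    · simp [hx]
    · obtain ⟨c, -, rfl⟩ := Finset.mem_image.mp hy
      simp [himg c]
  have h1 := (Finset.card_le_card hS).trans (Multiset.toFinset_card_le _)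
  have h2 := h1.trans (Polynomial.card_roots' _)
  rw [FiniteField.X_pow_card_sub_X_natDegree_eq F (by omega), Finset.card_insert_of_notMem,
    Finset.card_image_of_injective _ (show Function.Injective ⇑e from e.toRingHom.injective), Finset.card_univ, hcard] at h2
  · omega
  · intro hm
    obtain ⟨c, -, hc⟩ := Finset.mem_image.mp hm
    exact hno ⟨c, hc⟩

section

variable (hF : Fintype.card F = q ^ 2)
include hF

local notation "Vn" => (Fin n → F)

/-- The form against a vector. -/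
noncomputable def hfun (p : Fin n → F) : (Fin n → F) →ₗ[F] F := Classical.hermBilin hF n p

theorem hfun_apply (p v : Vn) : hfun hF p v = Cfsg.hermForm n F q v p := rfl

theorem hfun_swap (p r : Vn) : hfun hF p r = hfun hF r p ^ q := by
  rw [hfun_apply, hfun_apply, ← Classical.conjHom_apply hF, Classical.hermForm_conj]

theorem hfun_ne {p : Vn} (hp : p ≠ 0) : hfun hF p ≠ 0 := fun e =>
  hp ((Classical.hermBilin_nondegenerate hF n).1 p fun v => DFunLike.congr_fun e v)

theorem exists_skew : ∃ α : F, α ≠ 0 ∧ α ^ q = -α := by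
  obtain ⟨e, he⟩ : ∃ e : F, Classical.conjHom hF e ≠ e := by
    by_contra h; push Not at h
    exact Classical.conjHom_ne_id hF (RingHom.ext h)
  refine ⟨e - Classical.conjHom hF e, sub_ne_zero.mpr (Ne.symm he), ?_⟩
  rw [← Classical.conjHom_apply hF, map_sub, Classical.conjHom_conjHom, neg_sub]

theorem exists_trace_eq {a : F} (ha : a ^ q = a) : ∃ t : F, t + t ^ q = a := by
  obtain ⟨e, he⟩ : ∃ e : F, e + e ^ q ≠ 0 := by
    by_contra h; push Not at h
    have h1 : (1 : F) + 1 = 0 := by simpa using h 1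
    refine Classical.conjHom_ne_id hF (RingHom.ext fun x => ?_)
    rw [Classical.conjHom_apply, RingHom.id_apply]
    linear_combination h x - x * h1
  refine ⟨a / (e + e ^ q) * e, ?_⟩
  have hfix : (e + e ^ q) ^ q = e + e ^ q := by
    rw [← Classical.conjHom_apply hF (e + e ^ q), map_add, Classical.conjHom_apply hF, Classical.conjHom_apply hF,
      ← pow_mul, ← pow_two, ← hF, FiniteField.pow_card, add_comm]
  rw [mul_pow, div_pow, ha, hfix, ← mul_add, div_mul_cancel₀ _ he]

/-- The transvection pair of an isotropic vector. -/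
noncomputable def upair (α : F) (p : Vn) : ((Fin n → F) →ₗ[F] F) × (Fin n → F) := (α • hfun hF p, p)

theorem upair_self {α : F} {p : Vn} (hp : hfun hF p p = 0) : (upair hF α p).1 (upair hF α p).2 = 0 := by
  simp [upair, hp]

variable {L : Type} [Field L] (e : L →+* F)

/-- The group of the unitary transvections with a given centre. -/
noncomputable def utg (α : F) (p : Vn) : Subgroup (LinearMap.GeneralLinearGroup F (Fin n → F)) :=
  Subgroup.closure (Set.range fun c : L => uni (e c • tv (upair hF α p)))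

theorem mem_utg {α : F} {p : Vn} (hp : hfun hF p p = 0)
    {g : LinearMap.GeneralLinearGroup F (Fin n → F)} :
    g ∈ utg hF e α p ↔ ∃ c : L, g = uni (e c • tv (upair hF α p)) := by
  refine ⟨fun hg => ?_, fun ⟨c, hc⟩ => hc ▸ Subgroup.subset_closure ⟨c, rfl⟩⟩
  have hz : ∀ c d : F, (c • tv (upair hF α p)) * (d • tv (upair hF α p)) = 0 := fun c d => by
    rw [smul_mul_smul_comm, tv_sq (upair_self hF hp), smul_zero]
  unfold utg at hg
  induction hg using Subgroup.closure_induction with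
  | mem y hy => obtain ⟨c, rfl⟩ := hy; exact ⟨c, rfl⟩
  | one => exact ⟨0, by rw [map_zero, zero_smul, uni_zero]⟩
  | mul y z _ _ hy hz' =>
    obtain ⟨c, rfl⟩ := hy; obtain ⟨d, rfl⟩ := hz'
    exact ⟨c + d, by rw [uni_mul (hz _ _) (hz _ _) (hz _ _) (hz _ _), map_add, add_smul]⟩
  | inv y _ hy =>
    obtain ⟨c, rfl⟩ := hy
    exact ⟨-c, by rw [uni_inv (hz _ _), map_neg]; congr 1; module⟩

theorem utg_le (α : F) (p : Vn) : utg hF e α p ≤ tgrp (upair hF α p) :=
  (Subgroup.closure_le _).mpr (by rintro _ ⟨c, rfl⟩; exact uni_mem_tgrp _ _)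

theorem utg_commute {α : F} {p r : Vn} (hp : hfun hF p p = 0) (hr : hfun hF r r = 0) (h : hfun hF p r = 0) :
    ⁅utg hF e α p, utg hF e α r⁆ = ⊥ := by
  have h' : hfun hF r p = 0 := by rw [hfun_swap hF, h, Classical.zero_pow_q hF]
  refine le_bot_iff.mp (Subgroup.commutator_le.mpr fun g hg g' hg' => ?_)
  rw [Subgroup.mem_bot, commutatorElement_eq_one_iff_mul_comm]
  exact commute_of_orth (upair_self hF hp) (upair_self hF hr) (by simp [upair, h]) (by simp [upair, h'])
    (utg_le hF e α p hg) (utg_le hF e α r hg')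

theorem utg_opp (hfix : ∀ x : F, x ^ q = x ↔ ∃ c, e c = x) {α : F} (hα : α ≠ 0) (hskew : α ^ q = -α)
    {p r : Vn} (hp : hfun hF p p = 0) (hr : hfun hF r r = 0) (h : hfun hF p r ≠ 0) :
    IsSL2Image L (utg hF e α p) (utg hF e α r) := by
  have h' : hfun hF r p ≠ 0 := fun h0 => h (by rw [hfun_swap hF, h0, Classical.zero_pow_q hF])
  set x := upair hF α p
  set y := upair hF α r
  have hxy : x.1 y.2 ≠ 0 := by simpa [x, y, upair] using mul_ne_zero hα h
  have hyx : y.1 x.2 ≠ 0 := by simpa [x, y, upair] using mul_ne_zero hα h'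
  set y' : ((Fin n → F) →ₗ[F] F) × (Fin n → F) := (y.1, (x.1 y.2)⁻¹ • y.2) with hy'
  have h1 : x.1 y'.2 = 1 := by simp [hy', hxy]
  have h3 : y'.1 y'.2 = 0 := by
    rw [hy', map_smul, upair_self hF hr, smul_zero]
  have h4 : y'.1 x.2 ≠ 0 := hyx
  have htv : tv y' = (x.1 y.2)⁻¹ • tv y := by
    refine LinearMap.ext fun m => ?_
    simp [hy', tv_apply, smul_smul, mul_comm]
  obtain ⟨s, hs⟩ : ∃ s : L, e s = x.1 y.2 * y.1 x.2 := by
    refine (hfix _).mp ?_
    simp only [x, y, upair, LinearMap.smul_apply, smul_eq_mul, mul_pow, hskew]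
    rw [← hfun_swap hF p r, ← hfun_swap hF r p]
    ring
  have hs0 : s ≠ 0 := fun h0 => mul_ne_zero hxy hyx (by rw [← hs, h0, map_zero])
  set φ := (pairHom (upair_self hF hp) h3 (by rw [h1]; exact one_ne_zero) h4).comp (SpecialLinearGroup.map e)
  have hX : ∀ u : L, φ (xU u) = uni (e u • tv x) := fun u => by
    simp only [φ, MonoidHom.comp_apply, map_xU, pairHom_xU]
    rw [h1, inv_one, mul_one]
  have hY : ∀ u : L, φ (yL u) = uni (e (u / s) • tv y) := fun u => by
    simp only [φ, MonoidHom.comp_apply, map_yL, pairHom_yL]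
    rw [htv, smul_smul, map_div₀, hs]
    congr 2
    have : y'.1 (upair hF α p).2 = y.1 x.2 := rfl
    rw [this]
    field_simp
  refine ⟨φ, fun g hg => ?_, ?_, ?_⟩
  · have hinj : Function.Injective φ := by
      refine (pairHom_injective (upair_self hF hp) h3 (by rw [h1]; exact one_ne_zero) h4).comp fun g h hgh => ?_
      ext i j
      exact e.injective (congrArg (fun m : SpecialLinearGroup (Fin 2) F => m.1 i j) hgh)
    rw [MonoidHom.mem_ker, ← map_one φ] at hg
    rw [hinj hg]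
    exact one_mem _
  · ext g
    rw [mem_utg hF e hp]
    constructor
    · rintro ⟨_, hu, rfl⟩
      obtain ⟨u, rfl⟩ := mem_upper.mp hu
      exact ⟨u, hX u⟩
    · rintro ⟨c, rfl⟩
      exact ⟨xU c, mem_upper.mpr ⟨c, rfl⟩, hX c⟩
  · ext g
    rw [mem_utg hF e hr]
    constructor
    · rintro ⟨_, hu, rfl⟩
      obtain ⟨u, rfl⟩ := mem_lower.mp hu
      exact ⟨_, hY u⟩
    · rintro ⟨c, rfl⟩
      exact ⟨yL (c * s), mem_lower.mpr ⟨_, rfl⟩, by rw [hY, mul_div_cancel_right₀ _ hs0]⟩

/-- `SU_n` inside the linear group. -/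
noncomputable def suLin (n : ℕ) (F : Type*) [Field F] (q : ℕ) :
    Cfsg.SU n F q →* LinearMap.GeneralLinearGroup F (Fin n → F) :=
  (slLin n F).comp (Cfsg.SU n F q).subtype

omit hF [Fintype F] in
theorem suLin_injective : Function.Injective (suLin n F q) := slLin_injective.comp Subtype.val_injective

/-- The transvections with a given centre. -/
def suTrans (q : ℕ) (p : Fin n → F) : Set ↥(Cfsg.SU n F q) :=
  {g | (∀ v : Fin n → F, ∃ c : F, ((g : SpecialLinearGroup (Fin n) F) : Matrix (Fin n) (Fin n) F) *ᵥ v = v + c • p) ∧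
    ∀ v : Fin n → F, Cfsg.hermForm n F q v p = 0 →
      ((g : SpecialLinearGroup (Fin n) F) : Matrix (Fin n) (Fin n) F) *ᵥ v = v}

theorem map_suTrans (hfix : ∀ x : F, x ^ q = x ↔ ∃ c, e c = x) {α : F} (hα : α ≠ 0) (hskew : α ^ q = -α)
    {p : Vn} (hp0 : p ≠ 0) (hp : hfun hF p p = 0) :
    (Subgroup.closure (suTrans q p)).map (suLin n F q) = utg hF e α p := by
  have hz : ∀ c : F, (c • tv (upair hF α p)) * (c • tv (upair hF α p)) = 0 := fun c =>
    smul_sq (tv_sq (upair_self hF hp)) c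
  refine le_antisymm ?_ ?_
  · rw [MonoidHom.map_closure, Subgroup.closure_le]
    rintro _ ⟨g, ⟨h1, h2⟩, rfl⟩
    obtain ⟨v₁, hv₁⟩ : ∃ v, hfun hF p v ≠ 0 := by
      by_contra h; push Not at h; exact hfun_ne hF hp0 (LinearMap.ext h)
    set v₀ := (hfun hF p v₁)⁻¹ • v₁
    have hv₀ : hfun hF p v₀ = 1 := by simp [v₀, hv₁]
    obtain ⟨a, ha⟩ := h1 v₀
    have hg : ∀ v, (g.1 : Matrix (Fin n) (Fin n) F) *ᵥ v = v + (hfun hF p v * a) • p := by
      intro v
      have hk := h2 (v - hfun hF p v • v₀) (by rw [← hfun_apply hF, map_sub, map_smul, hv₀]; simp)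
      rw [Matrix.mulVec_sub, Matrix.mulVec_smul, ha] at hk
      rw [eq_add_of_sub_eq hk]
      module
    have hsum : a + a ^ q = 0 := by
      have h' := g.2 v₀ v₀
      change Cfsg.hermForm n F q ((g.1 : Matrix (Fin n) (Fin n) F) *ᵥ v₀) ((g.1 : Matrix (Fin n) (Fin n) F) *ᵥ v₀) = _ at h'
      rw [ha, ← Classical.hermBilin_apply hF, ← Classical.hermBilin_apply hF] at h'
      have e1 : Classical.hermBilin hF n p v₀ = 1 := hv₀
      have e2 : Classical.hermBilin hF n v₀ p = 1 := by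
        have := hfun_swap hF v₀ p
        rw [hv₀, one_pow] at this
        exact this
      have e3 : Classical.hermBilin hF n p p = 0 := hp
      simp [e1, e2, e3, Classical.conjHom_apply] at h'
      linear_combination h'
    obtain ⟨c, hc⟩ := (hfix (a / α)).mp (by
      rw [div_pow, eq_neg_of_add_eq_zero_right hsum, hskew, neg_div_neg_eq])
    refine (mem_utg hF e hp).mpr ⟨c, Units.ext (LinearMap.ext fun v => ?_)⟩
    rw [coe_uni (hz _)]
    refine (hg v).trans ?_
    simp [tv_apply, upair, smul_smul, hc]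
    congr 1
    field_simp
  · rw [utg, Subgroup.closure_le]
    rintro _ ⟨c, rfl⟩
    obtain ⟨g, hg⟩ := tgrp_le_slLin (upair_self hF hp) (uni_mem_tgrp (upair hF α p) (e c))
    have hgv : ∀ v, g.1 *ᵥ v = v + (e c * α * hfun hF p v) • p := fun v => by
      rw [← slLin_apply, hg, coe_uni (hz _)]
      simp [tv_apply, upair, smul_smul, mul_assoc]
    have hmem : g ∈ Cfsg.SU n F q := by
      intro u v
      change Cfsg.hermForm n F q (g.1 *ᵥ u) (g.1 *ᵥ v) = _
      rw [hgv, hgv, ← Classical.hermBilin_apply hF, ← Classical.hermBilin_apply hF]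
      have e3 : Classical.hermBilin hF n p p = 0 := hp
      have e4 : Classical.hermBilin hF n v p = hfun hF p v ^ q := hfun_swap hF v p
      have ec : e c ^ q = e c := (hfix _).mpr ⟨c, rfl⟩
      simp [e3, e4, Classical.conjHom_apply, mul_pow, hskew, ec, hfun]
      ring
    refine ⟨⟨g, hmem⟩, Subgroup.subset_closure ⟨fun v => ⟨_, hgv v⟩, fun v hv => ?_⟩, hg⟩
    change g.1 *ᵥ v = v
    rw [hgv, hfun_apply, hv, mul_zero, zero_smul, add_zero]

end

theorem conjBy_utg (hF : Fintype.card F = q ^ 2) {L : Type} [Field L] (e : L →+* F) {α : F} {p : Fin n → F}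
    (hp : hfun hF p p = 0) (g : Cfsg.SU n F q) :
    Cfsg.conjBy (utg hF e α p) (suLin n F q g) = utg hF e α ((g.1 : Matrix (Fin n) (Fin n) F) *ᵥ p) := by
  rw [utg, utg, Cfsg.conjBy, MonoidHom.map_closure, ← Set.range_comp]
  congr 1
  refine congrArg Set.range (funext fun c => ?_)
  change suLin n F q g * uni (e c • tv (upair hF α p)) * (suLin n F q g)⁻¹ = _
  rw [conj_uni (smul_sq (tv_sq (upair_self hF hp)) _), mul_smul_comm, smul_mul_assoc, tv_conj]
  congr 3
  refine Prod.ext (LinearMap.ext fun v => ?_) rfl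
  change α * hfun hF p _ = α * hfun hF _ v
  congr 1
  rw [← map_inv]
  change Cfsg.hermForm n F q (((g⁻¹ : Cfsg.SU n F q).1 : Matrix (Fin n) (Fin n) F) *ᵥ v) p = Cfsg.hermForm n F q v _
  have h := g.2 (((g⁻¹ : Cfsg.SU n F q).1 : Matrix (Fin n) (Fin n) F) *ᵥ v) p
  have e1 : (g.1 : Matrix (Fin n) (Fin n) F) *ᵥ (((g⁻¹ : Cfsg.SU n F q).1 : Matrix (Fin n) (Fin n) F) *ᵥ v) = v := by
    rw [Matrix.mulVec_mulVec]
    change ((g * g⁻¹ : Cfsg.SU n F q).1 : Matrix (Fin n) (Fin n) F) *ᵥ v = v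
    rw [mul_inv_cancel]
    simp
  change Cfsg.hermForm n F q ((g.1 : Matrix (Fin n) (Fin n) F) *ᵥ _) ((g.1 : Matrix (Fin n) (Fin n) F) *ᵥ p) = _ at h
  rw [e1] at h
  exact h.symm

/-- The transvection subgroups of `SU_{n+2}(q)` inside the group they generate. -/
theorem unitary_twoCase (hF : Fintype.card F = q ^ 2) (m : ℕ) :
    ∃ (L : Type) (_ : Field L) (_ : Fintype L), Fintype.card L = q ∧
      TwoCase L ((fun A : Subgroup ↥(Cfsg.SU (m + 2) F q) => A.subgroupOf
          (⨆ B ∈ {A : Subgroup ↥(Cfsg.SU (m + 2) F q) | ∃ p : Fin (m + 2) → F, p ≠ 0 ∧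
            Cfsg.hermForm (m + 2) F q p p = 0 ∧ A = Subgroup.closure (suTrans q p)}, B)) ''
        {A : Subgroup ↥(Cfsg.SU (m + 2) F q) | ∃ p : Fin (m + 2) → F, p ≠ 0 ∧
            Cfsg.hermForm (m + 2) F q p p = 0 ∧ A = Subgroup.closure (suTrans q p)}) := by
  obtain ⟨L, iL, fL, e, hcard, hfix⟩ := exists_small_field hF
  obtain ⟨α, hα, hskew⟩ := exists_skew hF
  refine ⟨L, iL, fL, hcard, ?_⟩
  have hmap : ∀ p : Fin (m + 2) → F, p ≠ 0 → hfun hF p p = 0 →
      (Subgroup.closure (suTrans q p)).map (suLin (m + 2) F q) = utg hF e α p :=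
    fun p h0 h1 => map_suTrans hF e hfix hα hskew h0 h1
  have hne : ∀ p r : Fin (m + 2) → F, hfun hF p p = 0 → hfun hF r r = 0 → hfun hF p r ≠ 0 →
      ⁅utg hF e α p, utg hF e α r⁆ ≠ ⊥ :=
    fun p r h1 h2 h3 => commutator_ne_bot (utg_opp hF e hfix hα hskew h1 h2 h3).pair.1.1
  refine TwoCase.of_embedded suLin_injective ?_ ?_ ?_ ?_ ?_ ?_
  · obtain ⟨b, hb⟩ := Geometry.exists_mul_conj_eq (Classical.conjHom_ne_id hF) (Classical.conjHom_conjHom hF)
      (s := (-1 : F)) (by rw [map_neg, map_one])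
    refine ⟨_, Pi.single 0 1 + Pi.single 1 b, fun h => ?_, ?_, rfl⟩
    · simpa using congrFun h 0
    · rw [Cfsg.hermForm, Fin.sum_univ_succ, Fin.sum_univ_succ,
        Finset.sum_eq_zero fun i _ => by simp [Fin.ext_iff, Classical.zero_pow_q hF]]
      rw [Classical.conjHom_apply, mul_comm] at hb
      simp [Fin.ext_iff, hb]
  · rintro _ ⟨p, hp0, hp, rfl⟩ h
    have h' := congrArg (Subgroup.map (suLin (m + 2) F q)) h
    rw [hmap p hp0 hp, Subgroup.map_bot] at h'
    have hm : uni (e 1 • tv (upair hF α p)) ∈ utg hF e α p := Subgroup.subset_closure ⟨1, rfl⟩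
    rw [h', Subgroup.mem_bot, map_one, one_smul, ← uni_zero] at hm
    exact tv_ne_zero (smul_ne_zero hα (hfun_ne hF hp0)) hp0 (uni_inj (tv_sq (upair_self hF hp)) (by simp) hm)
  · rintro _ ⟨p, hp0, hp, rfl⟩ g
    have h0 : (g.1 : Matrix (Fin (m + 2)) (Fin (m + 2)) F) *ᵥ p ≠ 0 := fun h => by
      apply hp0
      have := congrArg (((g⁻¹ : Cfsg.SU (m + 2) F q).1 : Matrix (Fin (m + 2)) (Fin (m + 2)) F) *ᵥ ·) h
      simpa [Matrix.mulVec_mulVec, Matrix.adjugate_mul] using this
    have h1 : Cfsg.hermForm (m + 2) F q ((g.1 : Matrix (Fin (m + 2)) (Fin (m + 2)) F) *ᵥ p)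
        ((g.1 : Matrix (Fin (m + 2)) (Fin (m + 2)) F) *ᵥ p) = 0 := (g.2 p p).trans hp
    refine ⟨_, h0, h1, Subgroup.map_injective suLin_injective ?_⟩
    rw [map_conjBy, hmap p hp0 hp, hmap _ h0 h1, conjBy_utg hF e hp g]
  · rintro _ ⟨p, hp0, hp, rfl⟩
    rw [hmap p hp0 hp]
    exact utg_commute hF e hp hp hp
  · rintro _ ⟨p, hp0, hp, rfl⟩ _ ⟨r, hr0, hr, rfl⟩
    rw [hmap p hp0 hp, hmap r hr0 hr]
    by_cases h : hfun hF p r = 0
    · exact Or.inl (utg_commute hF e hp hr h)
    · exact Or.inr (utg_opp hF e hfix hα hskew hp hr h)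
  · rintro _ ⟨p, hp0, hp, rfl⟩ _ ⟨r, hr0, hr, rfl⟩
    suffices ∃ w, hfun hF w w = 0 ∧ hfun hF p w ≠ 0 ∧ hfun hF w r ≠ 0 by
      obtain ⟨w, hw, hw1, hw2⟩ := this
      have hw0 : w ≠ 0 := fun h => hw1 (by rw [h, map_zero])
      refine ⟨_, ⟨w, hw0, hw, rfl⟩, ?_⟩
      rw [hmap p hp0 hp, hmap r hr0 hr, hmap w hw0 hw]
      exact ⟨hne p w hp hw hw1, hne w r hw hr hw2⟩
    suffices ∃ w, hfun hF w w = 0 ∧ hfun hF p w ≠ 0 ∧ hfun hF r w ≠ 0 by
      obtain ⟨w, hw, hw1, hw2⟩ := this
      exact ⟨w, hw, hw1, fun h => hw2 (by rw [hfun_swap hF, h, Classical.zero_pow_q hF])⟩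
    have e3 : Classical.hermBilin hF (m + 2) p p = 0 := hp
    have e4 : Classical.hermBilin hF (m + 2) r r = 0 := hr
    have hsw : ∀ u v : Fin (m + 2) → F,
        Classical.hermBilin hF (m + 2) u v = Classical.hermBilin hF (m + 2) v u ^ q := hfun_swap hF
    by_cases h : hfun hF p r = 0
    · obtain ⟨v, hv1, hv2⟩ := exists_two_ne_zero (hfun_ne hF hp0) (hfun_ne hF hr0)
      have hfixv : (-(hfun hF v v)) ^ q = -(hfun hF v v) := by
        rw [← Classical.conjHom_apply hF, map_neg, Classical.conjHom_apply hF, ← hfun_swap hF]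
      obtain ⟨s, hs⟩ := exists_trace_eq hF hfixv
      have hr0' : Classical.hermBilin hF (m + 2) r p = 0 := by
        rw [hsw, show Classical.hermBilin hF (m + 2) p r = 0 from h, Classical.zero_pow_q hF]
      have hv' : Classical.hermBilin hF (m + 2) p v ≠ 0 := hv1
      refine ⟨v + (s / Classical.hermBilin hF (m + 2) v p) • p, ?_, ?_, ?_⟩
      · have hvp : Classical.hermBilin hF (m + 2) v p ≠ 0 := fun h0 => hv1 (by
          rw [hfun, hsw, h0, Classical.zero_pow_q hF])
        simp [hfun, e3, Classical.conjHom_apply]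
        rw [hsw p v]
        rw [div_mul_cancel₀ _ (pow_ne_zero _ hvp), div_mul_cancel₀ _ hvp]
        have hs' : s + s ^ q = -(Classical.hermBilin hF (m + 2) v v) := hs
        linear_combination hs'
        
      · simpa [hfun, e3] using hv1
      · simpa [hfun, hr0'] using hv2
    · have h' : Classical.hermBilin hF (m + 2) r p ≠ 0 := fun h0 => h (by
        rw [hfun, hsw, h0, Classical.zero_pow_q hF])
      refine ⟨(α / Classical.hermBilin hF (m + 2) r p) • p + r, ?_, ?_, ?_⟩
      · simp [hfun, e3, e4, Classical.conjHom_apply]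
        rw [hsw p r, div_mul_cancel₀ _ (pow_ne_zero _ h'), div_mul_cancel₀ _ h', hskew]
        ring
      · simpa [hfun, e3] using h
      · simpa [hfun, e4, h'] using hα

end Cfsg.Agent.Lib.RootSub
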